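import Groth.Agent.L14.Popescu.Main
import Groth.Agent.L01.AdicNoeth
import Groth.Agent.L14.Smoothing.StdRetract
import Groth.Agent.S0536
import Groth.Agent.L05.Hensel.Perm
import Groth.Agent.L05.Hensel.Smooth
import Mathlib.RingTheory.RingHom.StandardSmooth
import Mathlib.RingTheory.Henselian
import Mathlib.RingTheory.AdicCompletion.LocalRing

/-!
Approximation of solutions in completions along regular completion maps.
-/

set_option autoImplicit false
set_option linter.style.haveILetI false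

noncomputable section

open TensorProduct

namespace Groth.L14.Popescu

universe u

open Groth.L14.Smoothing

variable {A : Type u} [CommRing A]

theorem evalₐ_eq_zero_iff {I : Ideal A} (hI : I.FG) (n : ℕ) (x : AdicCompletion I A) :
    AdicCompletion.evalₐ I n x = 0 ↔ x ∈ (I ^ n).map (algebraMap A (AdicCompletion I A)) := by
  have h1 : x ∈ I ^ n • (⊤ : Submodule A (AdicCompletion I A)) ↔ AdicCompletion.eval I A n x = 0 := by
    rw [AdicCompletion.pow_smul_top_eq_ker_eval hI]; rfl
  rw [Ideal.smul_top_eq_map] at h1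
  refine Iff.trans ?_ h1.symm
  rw [← AdicCompletion.factor_eval_eq_evalₐ I x (le_of_eq (Ideal.mul_top _))]
  obtain ⟨t, ht⟩ := Ideal.Quotient.mk_surjective (AdicCompletion.eval I A n x)
  rw [← ht]
  show Ideal.Quotient.mk (I ^ n) t = 0 ↔ _
  rw [Ideal.Quotient.eq_zero_iff_mem, Ideal.Quotient.eq_zero_iff_mem]
  simp

theorem henselianRing_pow (I : Ideal A) [HenselianRing A I] {n : ℕ} (hn : n ≠ 0) : HenselianRing A (I ^ n) :=
  Groth.L05.henselianRing_mono (Ideal.pow_le_self hn)

theorem factor_evalₐ (I : Ideal A) {n N : ℕ} (h : N ≤ n) (x : AdicCompletion I A) :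
    Ideal.Quotient.factor (Ideal.pow_le_pow_right h) (AdicCompletion.evalₐ I n x) = AdicCompletion.evalₐ I N x := by
  obtain ⟨y, rfl⟩ := AdicCompletion.mk_surjective I A x
  rw [AdicCompletion.evalₐ_mk, AdicCompletion.evalₐ_mk, Ideal.Quotient.factor_mk, Ideal.Quotient.mk_eq_mk_iff_sub_mem]
  have h2 : y.val N ≡ y.val n [SMOD I ^ N • (⊤ : Submodule A A)] := y.2 h
  rw [SModEq.sub_mem, smul_eq_mul, Ideal.mul_top] at h2
  rw [← neg_sub]
  exact (I ^ N).neg_mem h2

/-- Approximation along a henselian pair. -/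
theorem exists_section_approx [IsNoetherianRing A] (I : Ideal A) [HenselianRing A I]
    (hreg : CAlg.IsRegularHom A (AdicCompletion I A)) {C : Type u} [CommRing C] [Algebra A C]
    [Algebra.FinitePresentation A C] (φ : C →ₐ[A] AdicCompletion I A) (N : ℕ) :
    ∃ τ : C →ₐ[A] A, ∀ c, Ideal.Quotient.mk (I ^ N) (τ c) = AdicCompletion.evalₐ I N (φ c) := by
  haveI : IsNoetherianRing (AdicCompletion I A) :=
    Groth.L01.AdicNoeth.isNoetherianRing_adicCompletion I (IsNoetherian.noetherian I)
  obtain ⟨B, iB, iA, hB, g, h, hgh⟩ := indSmooth_of_isRegularHom hreg C inferInstance φ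
  haveI := hB
  haveI := henselianRing_pow I (Nat.succ_ne_zero N)
  obtain ⟨τ, hτ⟩ := Groth.L05.exists_algHom_lift_smooth (I ^ (N + 1)) ((AdicCompletion.evalₐ I (N + 1)).comp h)
  refine ⟨τ.comp g, fun c => ?_⟩
  have h1 : Ideal.Quotient.mk (I ^ (N + 1)) (τ (g c)) = AdicCompletion.evalₐ I (N + 1) (φ c) := by
    rw [← AlgHom.congr_fun hgh c]
    exact AlgHom.congr_fun hτ (g c)
  rw [← factor_evalₐ I (Nat.le_succ N), ← h1]
  rfl

/-- Approximation by etale neighbourhoods over a ring of which the given one is a localisation. -/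
theorem exists_etale_approx_of_isLocalization {R : Type u} [CommRing R] [IsNoetherianRing R] [Algebra R A]
    [IsNoetherianRing A] (M : Submonoid R) [IsLocalization M A] (I : Ideal A)
    (hreg : CAlg.IsRegularHom R (AdicCompletion I A)) {C : Type u} [CommRing C] [Algebra R C]
    [Algebra.FinitePresentation R C] (φ : C →ₐ[R] AdicCompletion I A) (N : ℕ) :
    ∃ (R' : Type u) (_ : CommRing R') (_ : Algebra R R'), Algebra.Etale R R' ∧
      ∃ (ψ : R' →ₐ[R] AdicCompletion I A) (ω : C →ₐ[R] R'),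
        ∀ c, AdicCompletion.evalₐ I N (ψ (ω c)) = AdicCompletion.evalₐ I N (φ c) := by
  classical
  haveI : IsNoetherianRing (AdicCompletion I A) :=
    Groth.L01.AdicNoeth.isNoetherianRing_adicCompletion I (IsNoetherian.noetherian I)
  obtain ⟨B, iB, iA, hB, g, h, hgh⟩ := indSmooth_of_isRegularHom hreg C inferInstance φ
  haveI := hB
  obtain ⟨S, iS, iAS, iBS, iT, -, ⟨ρ⟩, hstd⟩ := StdRetract.exists_retract (R := R) (A := B)
  obtain ⟨d, f, hfC, hf⟩ := (RingHom.isStandardSmooth_algebraMap.mpr hstd).exists_etale_mvPolynomial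
  let ev : AdicCompletion I A →ₐ[R] A ⧸ I ^ (N + 1) := (AdicCompletion.evalₐ I (N + 1)).restrictScalars R
  let hS : S →ₐ[R] A ⧸ I ^ (N + 1) := ev.comp (h.comp (ρ.restrictScalars R))
  choose r hr using fun i : Fin d => Ideal.Quotient.mk_surjective (hS (f (MvPolynomial.X i)))
  obtain ⟨s, hs⟩ := IsLocalization.exist_integer_multiples_of_finite M r
  choose a ha using hs
  let R₀ := Localization.Away (s : R)
  let jA : R₀ →ₐ[R] A := IsLocalization.liftAlgHom (M := Submonoid.powers (s : R)) (f := Algebra.ofId R A)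
    (fun z => by
      obtain ⟨k, hk⟩ := z.2
      rw [← hk]
      rw [map_pow]
      exact (IsLocalization.map_units A s).pow k)
  let r₀ : Fin d → R₀ := fun i => IsLocalization.mk' R₀ (a i) (⟨(s : R), Submonoid.mem_powers _⟩ : Submonoid.powers (s : R))
  have hjr : ∀ i, jA (r₀ i) = r i := fun i => by
    refine (IsLocalization.map_units A s).mul_left_cancel ?_
    have h := congrArg jA (IsLocalization.mk'_spec R₀ (a i) (⟨(s : R), Submonoid.mem_powers _⟩ : Submonoid.powers (s : R)))
    rw [map_mul, jA.commutes, jA.commutes, ha, Algebra.smul_def, mul_comm] at h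
    exact h
  letI : Algebra (MvPolynomial (Fin d) R) S := f.toAlgebra
  haveI : IsScalarTower R (MvPolynomial (Fin d) R) S := IsScalarTower.of_algebraMap_eq' hfC.symm
  haveI : Algebra.Etale (MvPolynomial (Fin d) R) S := RingHom.etale_algebraMap.mp hf
  letI : Algebra (MvPolynomial (Fin d) R) R₀ := (MvPolynomial.aeval r₀).toRingHom.toAlgebra
  haveI : IsScalarTower R (MvPolynomial (Fin d) R) R₀ :=
    IsScalarTower.of_algebraMap_eq fun x => ((MvPolynomial.aeval r₀).commutes x).symm
  let R' := R₀ ⊗[MvPolynomial (Fin d) R] S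
  haveI : Algebra.Etale R R₀ := Algebra.Etale.of_isLocalizationAway (s : R)
  haveI : Algebra.Etale R R' := Algebra.Etale.comp R R₀ R'
  let qm : R₀ →ₐ[R] A ⧸ I ^ (N + 1) := (Ideal.Quotient.mkₐ R (I ^ (N + 1))).comp jA
  have hcompat : ∀ p : MvPolynomial (Fin d) R, hS (f p) = qm (MvPolynomial.aeval r₀ p) := by
    intro p
    induction p using MvPolynomial.induction_on with
    | C a =>
      rw [show f (MvPolynomial.C a) = algebraMap R S a from RingHom.congr_fun hfC a, AlgHom.commutes,
        MvPolynomial.aeval_C, AlgHom.commutes]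
    | add a b ha hb => rw [map_add, map_add, map_add, map_add, ha, hb]
    | mul_X a i ha =>
      rw [map_mul, map_mul, map_mul, map_mul, ha, MvPolynomial.aeval_X]
      congr 1
      exact (hr i).symm.trans (congrArg (Ideal.Quotient.mk _) (hjr i).symm)
  letI : Algebra R₀ (A ⧸ I ^ (N + 1)) := qm.toRingHom.toAlgebra
  letI : Algebra (MvPolynomial (Fin d) R) (A ⧸ I ^ (N + 1)) := (qm.comp (MvPolynomial.aeval r₀)).toRingHom.toAlgebra
  haveI : IsScalarTower (MvPolynomial (Fin d) R) R₀ (A ⧸ I ^ (N + 1)) := IsScalarTower.of_algebraMap_eq' rfl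
  haveI : IsScalarTower R R₀ (A ⧸ I ^ (N + 1)) := IsScalarTower.of_algebraMap_eq fun x => (qm.commutes x).symm
  let hSP : S →ₐ[MvPolynomial (Fin d) R] A ⧸ I ^ (N + 1) := { hS.toRingHom with commutes' := hcompat }
  let φ₀ : R' →ₐ[R₀] A ⧸ I ^ (N + 1) :=
    Algebra.TensorProduct.lift (Algebra.ofId R₀ _) hSP fun _ _ => Commute.all _ _
  let φ' : R' →ₐ[R] A ⧸ I ^ (N + 1) := φ₀.restrictScalars R
  have hfg : I.FG := IsNoetherian.noetherian I
  let Ih := I.map (algebraMap A (AdicCompletion I A))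
  haveI : IsAdicComplete Ih (AdicCompletion I A) := AdicCompletion.isAdicComplete_self I hfg
  haveI : HenselianRing (AdicCompletion I A) (RingHom.ker ev) := by
    have hker : RingHom.ker ev = Ih ^ (N + 1) := by
      ext x
      show AdicCompletion.evalₐ I (N + 1) x = 0 ↔ _
      rw [evalₐ_eq_zero_iff hfg, Ideal.map_pow]
    rw [hker]
    exact henselianRing_pow Ih (Nat.succ_ne_zero N)
  let e : (AdicCompletion I A ⧸ RingHom.ker ev) ≃ₐ[R] A ⧸ I ^ (N + 1) :=
    Ideal.quotientKerAlgEquivOfSurjective (f := ev) (AdicCompletion.surjective_evalₐ I (N + 1))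
  obtain ⟨ψ, hψ⟩ : ∃ ψ : R' →ₐ[R] AdicCompletion I A, ev.comp ψ = φ' := by
    obtain ⟨τ, hτ⟩ := Groth.Agent.S0536.result R R' (AdicCompletion I A) (RingHom.ker ev) (e.symm.toAlgHom.comp φ')
    refine ⟨τ, AlgHom.ext fun x => ?_⟩
    have h2 := congrArg e (AlgHom.congr_fun hτ x)
    rw [show (e.symm.toAlgHom.comp φ') x = e.symm (φ' x) from rfl, AlgEquiv.apply_symm_apply] at h2
    exact h2
  let ωS : S →ₐ[R] R' :=
    (Algebra.TensorProduct.includeRight : S →ₐ[MvPolynomial (Fin d) R] R').restrictScalars R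
  refine ⟨R', inferInstance, inferInstance, inferInstance, ψ,
    ωS.comp ((IsScalarTower.toAlgHom R B S).comp g), fun c => ?_⟩
  rw [← factor_evalₐ I (Nat.le_succ N), ← factor_evalₐ I (Nat.le_succ N) (φ c)]
  congr 1
  show ev.comp ψ (((1 : R₀) ⊗ₜ algebraMap B S (g c) : R')) = _
  rw [hψ]
  show Algebra.TensorProduct.lift (Algebra.ofId R₀ (A ⧸ I ^ (N + 1))) hSP (fun _ _ => Commute.all _ _) ((1 : R₀) ⊗ₜ algebraMap B S (g c)) = _
  rw [Algebra.TensorProduct.lift_tmul, map_one, one_mul]
  show ev (h (ρ (algebraMap B S (g c)))) = _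
  rw [ρ.commutes, ← AlgHom.congr_fun hgh c]
  rfl

/-- Approximation by etale neighbourhoods. -/
theorem exists_etale_approx [IsNoetherianRing A] (I : Ideal A)
    (hreg : CAlg.IsRegularHom A (AdicCompletion I A)) {C : Type u} [CommRing C] [Algebra A C]
    [Algebra.FinitePresentation A C] (φ : C →ₐ[A] AdicCompletion I A) (N : ℕ) :
    ∃ (A' : Type u) (_ : CommRing A') (_ : Algebra A A'), Algebra.Etale A A' ∧
      ∃ (ψ : A' →ₐ[A] AdicCompletion I A) (ω : C →ₐ[A] A'),
        ∀ c, AdicCompletion.evalₐ I N (ψ (ω c)) = AdicCompletion.evalₐ I N (φ c) := by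
  haveI : IsLocalization (⊥ : Submonoid A) A := IsLocalization.self (fun x hx => by
    rw [Submonoid.mem_bot.mp hx]; exact isUnit_one)
  exact exists_etale_approx_of_isLocalization (⊥ : Submonoid A) I hreg φ N

end Groth.L14.Popescu
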