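import Groth.Agent.L14.Popescu.Solutions
import Groth.Agent.L27.IndEtale
import Mathlib.Algebra.Category.CommAlgCat.Basic

/-!
Approximation for functors preserving filtered colimits.
-/

set_option autoImplicit false
set_option linter.style.haveILetI false

noncomputable section

open CategoryTheory CategoryTheory.Limits

namespace Groth.L14.Popescu

universe u

/-- An element of a finitary functor comes from a finitely presented algebra. -/
theorem exists_rep {A : Type u} [CommRing A] {B : Type u} [CommRing B] [Algebra A B]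
    (F : Under (CommRingCat.of A) ⥤ Type u)
    (hF : ∀ (J : Type u) [SmallCategory J] [IsFiltered J], PreservesColimitsOfShape J F)
    (ξ : F.obj (Under.mk (CommRingCat.ofHom (algebraMap A B)))) :
    ∃ (C : Type u) (_ : CommRing C) (_ : Algebra A C) (_ : Algebra.FinitePresentation A C) (φ : C →ₐ[A] B)
      (ξ₀ : F.obj (Under.mk (CommRingCat.ofHom (algebraMap A C)))),
      F.map (Under.homMk (CommRingCat.ofHom φ.toRingHom) (CommRingCat.hom_ext (RingHom.ext φ.commutes))) ξ₀ = ξ := by
  let Q : MorphismProperty CommRingCat.{u} := RingHom.toMorphismProperty RingHom.FinitePresentation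
  haveI : Q.RespectsIso :=
    RingHom.toMorphismProperty_respectsIso_iff.mp RingHom.finitePresentation_respectsIso
  have hind : MorphismProperty.ind.{u} Q (CommRingCat.ofHom (algebraMap A B)) :=
    Groth.L27.IndEtale.ind_of_factor (Q := Q) (fun f hf => hf) fun P _ _ hP φ =>
      ⟨P, inferInstance, inferInstance, AlgHom.id A P, φ, RingHom.finitePresentation_algebraMap.mpr hP, rfl⟩
  rw [MorphismProperty.ind_iff_ind_underMk] at hind
  obtain ⟨J, _, _, pres, hpres⟩ := hind
  haveI := hF J
  obtain ⟨j, ξ₀, hξ⟩ := Types.jointly_surjective _ (isColimitOfPreserves F pres.isColimit) ξ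
  letI : Algebra A (pres.diag.obj j).right := (pres.diag.obj j).hom.hom.toAlgebra
  refine ⟨(pres.diag.obj j).right, inferInstance, inferInstance, hpres j,
    ⟨(pres.ι.app j).right.hom, fun a => congr($(Under.w (pres.ι.app j)).hom a)⟩, ξ₀, ?_⟩
  exact hξ

/-- Moving an equation between elements along an equivalence. -/
theorem transport_equiv {C D : Type*} [Category C] [Category D] (e : C ≌ D) (F : C ⥤ Type u) {X Y Z : C}
    (f : X ⟶ Z) (g : Y ⟶ Z) (ξ : F.obj Y) (ξ' : F.obj (e.inverse.obj (e.functor.obj X)))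
    (h : F.map (e.inverse.map (e.functor.map f)) ξ' =
      F.map (e.inverse.map (e.functor.map g)) (F.map (e.unitIso.hom.app Y) ξ)) :
    F.map f (F.map (e.unitIso.inv.app X) ξ') = F.map g ξ := by
  have h' := congrArg (F.map (e.unitIso.inv.app Z)) h
  have hf : e.inverse.map (e.functor.map f) ≫ e.unitIso.inv.app Z = e.unitIso.inv.app X ≫ f :=
    e.unitIso.inv.naturality f
  have hg : e.unitIso.hom.app Y ≫ e.inverse.map (e.functor.map g) ≫ e.unitIso.inv.app Z = g :=
    (congrArg (e.unitIso.hom.app Y ≫ ·) (e.unitIso.inv.naturality g)).trans (Iso.hom_inv_id_app_assoc _ _ _)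
  rw [← Functor.map_comp_apply, ← Functor.map_comp_apply, ← Functor.map_comp_apply, hf] at h'
  rw [Functor.map_comp_apply] at h'
  exact h'.trans (congrArg (fun k => F.map k ξ) hg)

/-- Two composites into a target agree as soon as they agree on elements. -/
theorem under_hom_ext {A : Type u} [CommRing A] {X Y : Under (CommRingCat.of A)} (f g : X ⟶ Y)
    (h : ∀ x : X.right, f.right.hom x = g.right.hom x) : f = g :=
  Under.UnderMorphism.ext (CommRingCat.hom_ext (RingHom.ext h))

/-- Sections approximating homomorphisms give approximations for functors. -/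
theorem exists_functor_approx {A : Type u} [CommRing A] (I : Ideal A) (n : ℕ)
    (hsec : ∀ (C : Type u) [CommRing C] [Algebra A C] [Algebra.FinitePresentation A C]
      (φ : C →ₐ[A] AdicCompletion I A), ∃ τ : C →ₐ[A] A,
        ∀ c, Ideal.Quotient.mk (I ^ n) (τ c) = AdicCompletion.evalₐ I n (φ c))
    (F : Under (CommRingCat.of A) ⥤ Type u)
    (hF : ∀ (J : Type u) [SmallCategory J] [IsFiltered J], PreservesColimitsOfShape J F)
    (π : Under.mk (CommRingCat.ofHom (algebraMap A (AdicCompletion I A))) ⟶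
      Under.mk (CommRingCat.ofHom (algebraMap A (A ⧸ I ^ n))))
    (hπ : π.right = CommRingCat.ofHom
      (AdicCompletion.evalₐ I n : AdicCompletion I A →ₐ[A] A ⧸ I ^ n).toRingHom)
    (ρ : Under.mk (𝟙 (CommRingCat.of A)) ⟶ Under.mk (CommRingCat.ofHom (algebraMap A (A ⧸ I ^ n))))
    (ξ : F.obj (Under.mk (CommRingCat.ofHom (algebraMap A (AdicCompletion I A))))) :
    ∃ η : F.obj (Under.mk (𝟙 (CommRingCat.of A))), F.map ρ η = F.map π ξ := by
  obtain ⟨C, _, _, _, φ, ξ₀, hξ⟩ := exists_rep F hF ξ
  obtain ⟨τ, hτ⟩ := hsec C φ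
  let v : Under.mk (CommRingCat.ofHom (algebraMap A C)) ⟶ Under.mk (𝟙 (CommRingCat.of A)) :=
    Under.homMk (CommRingCat.ofHom τ.toRingHom) (CommRingCat.hom_ext (RingHom.ext τ.commutes))
  refine ⟨F.map v ξ₀, ?_⟩
  have hρ : ∀ a : A, ρ.right.hom a = algebraMap A (A ⧸ I ^ n) a := fun a => congr($(Under.w ρ).hom a)
  have hcomp : v ≫ ρ = Under.homMk (CommRingCat.ofHom φ.toRingHom)
      (CommRingCat.hom_ext (RingHom.ext φ.commutes)) ≫ π := by
    refine under_hom_ext _ _ fun c => ?_
    show ρ.right.hom (τ c) = π.right.hom (φ c)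
    rw [hπ, hρ]
    exact hτ c
  rw [← hξ, ← Functor.map_comp_apply, ← Functor.map_comp_apply, hcomp]

/-- The approximation property for polynomial systems gives sections. -/
theorem exists_section_of_systems {A : Type u} [CommRing A] (I : Ideal A) (n : ℕ)
    (hAP : ∀ (k l : ℕ) (f : Fin l → MvPolynomial (Fin k) A) (a : Fin k → AdicCompletion I A),
      (∀ i, MvPolynomial.aeval a (f i) = 0) → ∃ b : Fin k → A, (∀ i, MvPolynomial.eval b (f i) = 0) ∧
        ∀ j, Ideal.Quotient.mk (I ^ n) (b j) = AdicCompletion.evalₐ I n (a j))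
    (C : Type u) [CommRing C] [Algebra A C] [Algebra.FinitePresentation A C] (φ : C →ₐ[A] AdicCompletion I A) :
    ∃ τ : C →ₐ[A] A, ∀ c, Ideal.Quotient.mk (I ^ n) (τ c) = AdicCompletion.evalₐ I n (φ c) := by
  obtain ⟨k, p, hp, hker⟩ := Algebra.FinitePresentation.out (R := A) (A := C)
  obtain ⟨l, f, hf⟩ := Submodule.fg_iff_exists_fin_generating_family.mp hker
  obtain ⟨b, hb, hba⟩ := hAP k l f (fun j => φ (p (MvPolynomial.X j))) fun i => by
    rw [show MvPolynomial.aeval (fun j => φ (p (MvPolynomial.X j))) = φ.comp p from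
      (MvPolynomial.algHom_ext fun j => by simp)]
    show φ (p (f i)) = 0
    rw [show p (f i) = 0 from hf.le (Submodule.subset_span ⟨i, rfl⟩), map_zero]
  have hle : ∀ z ∈ RingHom.ker p, MvPolynomial.aeval b z = 0 := by
    show RingHom.ker p ≤ RingHom.ker (MvPolynomial.aeval b)
    refine hf.ge.trans (Submodule.span_le.mpr ?_)
    rintro _ ⟨i, rfl⟩
    show MvPolynomial.aeval b (f i) = 0
    rw [MvPolynomial.aeval_eq_eval]
    exact hb i
  let e := Ideal.quotientKerAlgEquivOfSurjective hp
  refine ⟨(Ideal.Quotient.liftₐ (RingHom.ker p) (MvPolynomial.aeval b) hle).comp e.symm.toAlgHom, fun c => ?_⟩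
  obtain ⟨z, rfl⟩ := hp c
  show Ideal.Quotient.mk (I ^ n) (Ideal.Quotient.liftₐ (RingHom.ker p) (MvPolynomial.aeval b) hle (e.symm (p z))) = _
  rw [show e.symm (p z) = Ideal.Quotient.mk _ z from e.symm_apply_eq.mpr rfl]
  show Ideal.Quotient.mk (I ^ n) (MvPolynomial.aeval b z) = _
  have h : (Ideal.Quotient.mkₐ A (I ^ n)).comp (MvPolynomial.aeval b) = (AdicCompletion.evalₐ I n).comp (φ.comp p) :=
    MvPolynomial.algHom_ext fun j => by
      show Ideal.Quotient.mk (I ^ n) (MvPolynomial.aeval b (MvPolynomial.X j)) = _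
      rw [MvPolynomial.aeval_X]
      exact hba j
  exact AlgHom.congr_fun h z

/-- Etale neighbourhoods approximating an element of a finitary functor. -/
theorem exists_etale_functor_approx {A : Type u} [CommRing A] [IsNoetherianRing A] (I : Ideal A) (N : ℕ)
    (hreg : CAlg.IsRegularHom A (AdicCompletion I A)) (F : Under (CommRingCat.of A) ⥤ Type u)
    (hF : ∀ (J : Type u) [SmallCategory J] [IsFiltered J], PreservesColimitsOfShape J F)
    (π : Under.mk (CommRingCat.ofHom (algebraMap A (AdicCompletion I A))) ⟶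
      Under.mk (CommRingCat.ofHom (algebraMap A (A ⧸ I ^ N))))
    (hπ : π.right = CommRingCat.ofHom
      (AdicCompletion.evalₐ I N : AdicCompletion I A →ₐ[A] A ⧸ I ^ N).toRingHom)
    (ξ : F.obj (Under.mk (CommRingCat.ofHom (algebraMap A (AdicCompletion I A))))) :
    ∃ (A' : Type u) (_ : CommRing A') (_ : Algebra A A') (_ : Algebra.Etale A A') (ψ : A' →ₐ[A] A ⧸ I ^ N)
      (_ : Function.Surjective ψ) (ξ' : F.obj (Under.mk (CommRingCat.ofHom (algebraMap A A')))),
      F.map (Under.homMk (CommRingCat.ofHom ψ.toRingHom) (CommRingCat.hom_ext (RingHom.ext ψ.commutes))) ξ' =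
        F.map π ξ := by
  obtain ⟨C, _, _, _, φ, ξ₀, hξ⟩ := exists_rep F hF ξ
  obtain ⟨A', iR, iA, hE, ψ, ω, hψ⟩ := exists_etale_approx I hreg φ N
  let ψ' : A' →ₐ[A] A ⧸ I ^ N := (AdicCompletion.evalₐ I N).comp ψ
  have hsurj : Function.Surjective ψ' := fun z => by
    obtain ⟨r, rfl⟩ := Ideal.Quotient.mk_surjective z
    exact ⟨algebraMap A A' r, ψ'.commutes r⟩
  let v : Under.mk (CommRingCat.ofHom (algebraMap A C)) ⟶ Under.mk (CommRingCat.ofHom (algebraMap A A')) :=
    Under.homMk (CommRingCat.ofHom ω.toRingHom) (CommRingCat.hom_ext (RingHom.ext ω.commutes))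
  refine ⟨A', iR, iA, hE, ψ', hsurj, F.map v ξ₀, ?_⟩
  have hcomp : v ≫ Under.homMk (CommRingCat.ofHom ψ'.toRingHom) (CommRingCat.hom_ext (RingHom.ext ψ'.commutes)) =
      Under.homMk (CommRingCat.ofHom φ.toRingHom) (CommRingCat.hom_ext (RingHom.ext φ.commutes)) ≫ π := by
    refine under_hom_ext _ _ fun c => ?_
    show AdicCompletion.evalₐ I N (ψ (ω c)) = π.right.hom (φ c)
    rw [hπ]
    exact hψ c
  rw [← hξ, ← Functor.map_comp_apply, ← Functor.map_comp_apply, hcomp]

end Groth.L14.Popescu
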