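import Groth.Agent.L14.Popescu.SchemeApprox
import Groth.Agent.L02.An.Germ.FlatBij
import Groth.Agent.L05.Point.Stalk
import Mathlib.RingTheory.Flat.FaithfullyFlat.Algebra

/-!
Approximations of isomorphisms of completions are etale.
-/

set_option autoImplicit false
set_option linter.style.haveILetI false

noncomputable section

open IsLocalRing

namespace Groth.L14.Popescu

universe u

/-- A surjective endomorphism of a Noetherian ring is injective. -/
theorem injective_of_surjective_endo {R : Type u} [CommRing R] [IsNoetherianRing R] (f : R →+* R)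
    (hf : Function.Surjective f) : Function.Injective f := by
  rw [injective_iff_map_eq_zero]
  intro x hx
  let g : ℕ →o Ideal R := ⟨fun n => RingHom.ker (f ^ n), monotone_nat_of_le_succ fun n z hz => by
    rw [RingHom.mem_ker] at hz ⊢
    rw [pow_succ']
    show f ((f ^ n) z) = 0
    rw [hz, map_zero]⟩
  obtain ⟨n, hn⟩ := monotone_stabilizes_iff_noetherian.mpr (inferInstance : IsNoetherian R R) g
  have hsurj : ∀ n : ℕ, Function.Surjective (f ^ n : R →+* R) := fun n => by
    rw [RingHom.coe_pow]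
    exact hf.iterate n
  obtain ⟨z, rfl⟩ := hsurj n x
  have h : z ∈ g (n + 1) := by
    show (f ^ (n + 1)) z = 0
    rw [pow_succ']
    exact hx
  rw [← hn (n + 1) (Nat.le_succ n)] at h
  exact h

/-- Flatness and unramifiedness of a map approximating one which is bijective on all truncations. -/
theorem flat_unramified_of_truncations {A B C : Type u} [CommRing A] [CommRing B] [CommRing C] [IsLocalRing A]
    [IsLocalRing B] [IsLocalRing C] [IsNoetherianRing A] [IsNoetherianRing B] [IsNoetherianRing C]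
    (g : A →+* B) [IsLocalHom g] (h : C →+* B) [IsLocalHom h] (hflat : h.Flat)
    (hm : (maximalIdeal C).map h = maximalIdeal B) (hres : ∀ z : B, ∃ c : C, z - h c ∈ maximalIdeal B)
    (θ : A →+* AdicCompletion (maximalIdeal C) C)
    (hden : ∀ (k : ℕ) (c : C), ∃ a : A,
      AdicCompletion.evalₐ (maximalIdeal C) k (θ a) = Ideal.Quotient.mk _ c)
    (hδker : ∀ (k : ℕ) (a : A), AdicCompletion.evalₐ (maximalIdeal C) k (θ a) = 0 ↔ a ∈ maximalIdeal A ^ k)
    (N : ℕ) (hN : 2 ≤ N) (Φ : B →+* C ⧸ maximalIdeal C ^ N) (hker : ∀ z, Φ z = 0 → z ∈ maximalIdeal B ^ N)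
    (hΦg : ∀ a, Φ (g a) = AdicCompletion.evalₐ (maximalIdeal C) N (θ a)) :
    g.Flat ∧ (maximalIdeal A).map g = maximalIdeal B ∧ ∀ z : B, ∃ a : A, z - g a ∈ maximalIdeal B := by
  have hs : ∀ z : B, ∃ a : A, z - g a ∈ maximalIdeal B ^ N := fun z => by
    obtain ⟨c, hc⟩ := Ideal.Quotient.mk_surjective (Φ z)
    obtain ⟨a, ha⟩ := hden N c
    exact ⟨a, hker _ (by rw [map_sub, hΦg, ha, hc, sub_self])⟩
  have hle : (maximalIdeal A).map g ≤ maximalIdeal B := Ideal.map_le_iff_le_comap.mpr fun a ha => by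
    show g a ∈ maximalIdeal B
    rw [mem_maximalIdeal, mem_nonunits_iff, isUnit_map_iff]
    exact ha
  have hmax : (maximalIdeal A).map g = maximalIdeal B := by
    refine le_antisymm hle ?_
    refine Submodule.le_of_le_smul_of_le_jacobson_bot (IsNoetherian.noetherian _) (maximalIdeal_le_jacobson ⊥) ?_
    intro z hz
    obtain ⟨a, ha⟩ := hs z
    have hN2 : maximalIdeal B ^ N ≤ maximalIdeal B • maximalIdeal B := by
      rw [smul_eq_mul, ← pow_two]
      exact Ideal.pow_le_pow_right hN
    refine Submodule.mem_sup.mpr ⟨g a, Ideal.mem_map_of_mem g ?_, _, hN2 ha, add_sub_cancel _ _⟩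
    have hga : g a ∈ maximalIdeal B := by
      have := Ideal.sub_mem _ hz (Ideal.pow_le_self (by omega : N ≠ 0) ha)
      rwa [sub_sub_cancel] at this
    rw [mem_maximalIdeal, mem_nonunits_iff] at hga ⊢
    exact fun hu => hga (hu.map g)
  letI : Algebra A B := g.toAlgebra
  have hsurj : ∀ (k : ℕ) (b : B), ∃ a : A, b - algebraMap A B a ∈ maximalIdeal B ^ k := fun k b => by
    obtain ⟨a, ha⟩ := exists_sub_mem_pow (C := A) (C' := B) (maximalIdeal A) (fun z => by
      obtain ⟨a, ha⟩ := hs z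
      exact ⟨a, hmax.ge (Ideal.pow_le_self (by omega : N ≠ 0) ha)⟩) k b
    refine ⟨a, ?_⟩
    rw [← hmax, ← Ideal.map_pow]
    exact ha
  have hhinj : ∀ (k : ℕ) (c : C), h c ∈ maximalIdeal B ^ k → c ∈ maximalIdeal C ^ k := fun k c hc => by
    letI : Algebra C B := h.toAlgebra
    haveI : IsLocalHom (algebraMap C B) := inferInstanceAs (IsLocalHom h)
    haveI : Module.Flat C B := hflat
    haveI : Module.FaithfullyFlat C B := Module.FaithfullyFlat.of_flat_of_isLocalHom
    rw [← hm, ← Ideal.map_pow] at hc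
    rw [← Ideal.comap_map_eq_self_of_faithfullyFlat (B := B) (maximalIdeal C ^ k)]
    exact hc
  have hinj : ∀ (k : ℕ) (a : A), algebraMap A B a ∈ maximalIdeal B ^ k → a ∈ maximalIdeal A ^ k := by
    intro k
    let P := A ⧸ maximalIdeal A ^ k
    let δ₀ : A →+* C ⧸ maximalIdeal C ^ k := (AdicCompletion.evalₐ (maximalIdeal C) k).toRingHom.comp θ
    have hδ : RingHom.ker δ₀ = maximalIdeal A ^ k := by
      ext a
      exact hδker k a
    let δ : P →+* C ⧸ maximalIdeal C ^ k := Ideal.Quotient.lift _ δ₀ fun a ha => hδ.ge ha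
    have hδs : Function.Surjective δ := fun z => by
      obtain ⟨c, rfl⟩ := Ideal.Quotient.mk_surjective z
      obtain ⟨a, ha⟩ := hden k c
      exact ⟨Ideal.Quotient.mk _ a, ha⟩
    let ε : (C ⧸ maximalIdeal C ^ k) →+* B ⧸ maximalIdeal B ^ k :=
      Ideal.Quotient.lift _ ((Ideal.Quotient.mk _).comp h) fun c hc => by
        refine Ideal.Quotient.eq_zero_iff_mem.mpr ?_
        rw [← hm, ← Ideal.map_pow]
        exact Ideal.mem_map_of_mem h hc
    have hεb : Function.Bijective ε := by
      refine ⟨(injective_iff_map_eq_zero _).mpr fun z hz => ?_, fun z => ?_⟩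
      · obtain ⟨c, rfl⟩ := Ideal.Quotient.mk_surjective z
        exact Ideal.Quotient.eq_zero_iff_mem.mpr (hhinj k c (Ideal.Quotient.eq_zero_iff_mem.mp hz))
      · obtain ⟨b, rfl⟩ := Ideal.Quotient.mk_surjective z
        letI : Algebra C B := h.toAlgebra
        obtain ⟨c, hc⟩ := exists_sub_mem_pow (C := C) (C' := B) (maximalIdeal C) (fun z => by
          obtain ⟨c, hc⟩ := hres z
          exact ⟨c, hm.ge hc⟩) k b
        refine ⟨Ideal.Quotient.mk _ c, ?_⟩
        show Ideal.Quotient.mk _ (h c) = _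
        refine (Ideal.Quotient.eq.mpr ?_).symm
        rw [← hm, ← Ideal.map_pow]
        exact hc
    let θ : P →+* B ⧸ maximalIdeal B ^ k := Ideal.Quotient.lift _ ((Ideal.Quotient.mk _).comp g) fun a ha => by
      refine Ideal.Quotient.eq_zero_iff_mem.mpr ?_
      rw [← hmax, ← Ideal.map_pow]
      exact Ideal.mem_map_of_mem g ha
    have hθs : Function.Surjective θ := fun z => by
      obtain ⟨b, rfl⟩ := Ideal.Quotient.mk_surjective z
      obtain ⟨a, ha⟩ := hsurj k b
      exact ⟨Ideal.Quotient.mk _ a, (Ideal.Quotient.eq.mpr ha).symm⟩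
    have hδb : Function.Bijective δ := ⟨(injective_iff_map_eq_zero _).mpr fun z hz => by
      obtain ⟨a, rfl⟩ := Ideal.Quotient.mk_surjective z
      exact Ideal.Quotient.eq_zero_iff_mem.mpr (hδ.le hz), hδs⟩
    let back : (B ⧸ maximalIdeal B ^ k) ≃+* P :=
      (RingEquiv.ofBijective ε hεb).symm.trans (RingEquiv.ofBijective δ hδb).symm
    have hinjθ : Function.Injective (back.toRingHom.comp θ) :=
      injective_of_surjective_endo _ (back.surjective.comp hθs)
    intro a ha
    refine Ideal.Quotient.eq_zero_iff_mem.mp (hinjθ ?_)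
    show back (Ideal.Quotient.mk _ (g a)) = back (θ 0)
    rw [map_zero, Ideal.Quotient.eq_zero_iff_mem.mpr (show g a ∈ maximalIdeal B ^ k from ha)]
  haveI : Module.Flat A B := Groth.L02.An.flat_of_bijective_pow hle hsurj hinj
  refine ⟨‹Module.Flat A B›, hmax, fun z => ?_⟩
  obtain ⟨a, ha⟩ := hs z
  exact ⟨a, Ideal.pow_le_self (by omega : N ≠ 0) ha⟩

/-- Flatness and unramifiedness of an approximation of an isomorphism of completions. -/
theorem flat_unramified_of_approx {A B C : Type u} [CommRing A] [CommRing B] [CommRing C] [IsLocalRing A]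
    [IsLocalRing B] [IsLocalRing C] [IsNoetherianRing A] [IsNoetherianRing B] [IsNoetherianRing C]
    (g : A →+* B) [IsLocalHom g] (h : C →+* B) [IsLocalHom h] (hflat : h.Flat)
    (hm : (maximalIdeal C).map h = maximalIdeal B) (hres : ∀ z : B, ∃ c : C, z - h c ∈ maximalIdeal B)
    (φ : AdicCompletion (maximalIdeal A) A ≃+* AdicCompletion (maximalIdeal C) C) (N : ℕ) (hN : 2 ≤ N)
    (Φ : B →+* C ⧸ maximalIdeal C ^ N) (hker : ∀ z, Φ z = 0 → z ∈ maximalIdeal B ^ N)
    (hΦg : ∀ a, Φ (g a) =
      AdicCompletion.evalₐ (maximalIdeal C) N (φ (algebraMap A (AdicCompletion (maximalIdeal A) A) a))) :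
    g.Flat ∧ (maximalIdeal A).map g = maximalIdeal B ∧ ∀ z : B, ∃ a : A, z - g a ∈ maximalIdeal B := by
  let Ah := AdicCompletion (maximalIdeal A) A
  let Ch := AdicCompletion (maximalIdeal C) C
  have hfA : (maximalIdeal A).FG := IsNoetherian.noetherian _
  have hfC : (maximalIdeal C).FG := IsNoetherian.noetherian _
  have hφm : ∀ (k : ℕ) (z : Ah), AdicCompletion.evalₐ (maximalIdeal C) k (φ z) = 0 ↔
      AdicCompletion.evalₐ (maximalIdeal A) k z = 0 := fun k z => by
    rw [evalₐ_eq_zero_iff hfC, evalₐ_eq_zero_iff hfA, Ideal.map_pow, Ideal.map_pow,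
      ← AdicCompletion.maximalIdeal_eq_map, ← AdicCompletion.maximalIdeal_eq_map,
      ← IsLocalRing.eq_maximalIdeal (Ideal.map_isMaximal_of_equiv φ (p := maximalIdeal Ah)), ← Ideal.map_pow,
      Ideal.mem_map_of_equiv]
    constructor
    · rintro ⟨w, hw, hwz⟩
      rwa [← φ.injective hwz]
    · exact fun hz => ⟨z, hz, rfl⟩
  have hden : ∀ (k : ℕ) (c : C), ∃ a : A,
      AdicCompletion.evalₐ (maximalIdeal C) k (φ (algebraMap A Ah a)) = Ideal.Quotient.mk _ c := fun k c => by
    obtain ⟨zh, hz⟩ := φ.surjective (algebraMap C Ch c)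
    obtain ⟨a, ha⟩ := Ideal.Quotient.mk_surjective (AdicCompletion.evalₐ (maximalIdeal A) k zh)
    refine ⟨a, ?_⟩
    have h0 : AdicCompletion.evalₐ (maximalIdeal A) k (algebraMap A Ah a - zh) = 0 := by
      rw [map_sub, AlgHom.commutes, Ideal.Quotient.algebraMap_eq, ha, sub_self]
    have h1 := (hφm k _).mpr h0
    rw [map_sub, map_sub, sub_eq_zero, hz, AlgHom.commutes, Ideal.Quotient.algebraMap_eq] at h1
    exact h1
  refine flat_unramified_of_truncations g h hflat hm hres (φ.toRingHom.comp (algebraMap A Ah)) hden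
    (fun k a => ?_) N hN Φ hker hΦg
  show AdicCompletion.evalₐ (maximalIdeal C) k (φ (algebraMap A Ah a)) = 0 ↔ _
  rw [hφm, AlgHom.commutes, Ideal.Quotient.algebraMap_eq, Ideal.Quotient.eq_zero_iff_mem]

end Groth.L14.Popescu
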