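import Groth.Agent.L14.Popescu.CommonNbhd
import Groth.Agent.L06.GRingTransport

/-!
Etale neighbourhoods matching a completed base change along a map of affine schemes.
-/

set_option autoImplicit false
set_option linter.style.haveILetI false

noncomputable section

open IsLocalRing TensorProduct

namespace Groth.L14.Popescu

universe u

/-- The first truncation of the completion of a local ring detects units. -/
theorem evalₐ_one_eq_zero_iff {R : Type u} [CommRing R] [IsLocalRing R] [IsNoetherianRing R]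
    (w : AdicCompletion (maximalIdeal R) R) :
    AdicCompletion.evalₐ (maximalIdeal R) 1 w = 0 ↔ ¬ IsUnit w := by
  rw [evalₐ_eq_zero_iff (IsNoetherian.noetherian _), pow_one, ← AdicCompletion.maximalIdeal_eq_map]
  rfl

/-- An isomorphism of local rings gives one of their first truncations. -/
theorem exists_residue_map {R S : Type u} [CommRing R] [CommRing S] [IsLocalRing R] [IsLocalRing S] (e : R ≃+* S) :
    ∃ ρ : S ⧸ maximalIdeal S ^ 1 →+* ResidueField R, Function.Injective ρ ∧ Function.Surjective ρ ∧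
      ∀ z, ρ (Ideal.Quotient.mk _ z) = residue R (e.symm z) := by
  refine ⟨Ideal.Quotient.lift _ ((residue R).comp e.symm.toRingHom) fun z hz => ?_, ?_, fun k => ?_, fun z => rfl⟩
  · rw [pow_one] at hz
    exact (residue_eq_zero_iff _).mpr fun hu => hz ((isUnit_map_iff e.symm z).mp hu)
  · refine (injective_iff_map_eq_zero _).mpr fun z hz => ?_
    obtain ⟨z, rfl⟩ := Ideal.Quotient.mk_surjective z
    refine Ideal.Quotient.eq_zero_iff_mem.mpr ?_
    rw [pow_one]
    exact fun hu => (residue_eq_zero_iff _).mp hz (hu.map e.symm)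
  · obtain ⟨z, rfl⟩ := residue_surjective k
    exact ⟨Ideal.Quotient.mk _ (e z), congrArg (residue R) (e.symm_apply_apply z)⟩

/-- The map into the completion of a localisation. -/
theorem algebraMap_completion_localization {R D : Type u} [CommRing R] [CommRing D] [Algebra R D] (q : Ideal D)
    [q.IsPrime] (r : R) :
    algebraMap R (AdicCompletion (maximalIdeal (Localization.AtPrime q)) (Localization.AtPrime q)) r =
      algebraMap (Localization.AtPrime q) (AdicCompletion (maximalIdeal (Localization.AtPrime q)) (Localization.AtPrime q))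
        (algebraMap D (Localization.AtPrime q) (algebraMap R D r)) := by
  rw [IsScalarTower.algebraMap_apply R (Localization.AtPrime q) (AdicCompletion (maximalIdeal (Localization.AtPrime q)) (Localization.AtPrime q)),
    IsScalarTower.algebraMap_apply R D (Localization.AtPrime q)]

/-- An isomorphism of local rings gives one of their completions. -/
theorem exists_completion_equiv {R S : Type u} [CommRing R] [CommRing S] [IsLocalRing R] [IsLocalRing S] (e : R ≃+* S) :
    ∃ c : AdicCompletion (maximalIdeal R) R ≃+* AdicCompletion (maximalIdeal S) S,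
      ∀ r, c (algebraMap R _ r) = algebraMap S _ (e r) :=
  ⟨Groth.L06.GRingTransport.completionEquiv e _ _ (IsLocalRing.map_maximalIdeal_le (e : R →+* S))
    (IsLocalRing.map_maximalIdeal_le (e.symm : S →+* R)),
    Groth.L06.GRingTransport.completionEquiv_algebraMap e _ _ _ _⟩

set_option maxHeartbeats 1000000 in
/-- The algebraic form of the matching of completed base changes, with an auxiliary ring. -/
theorem exists_affine_nbhds_aux {A C P AT B Os Ox Oy : Type u} [CommRing A] [IsNoetherianRing A] (s : Ideal A) [s.IsPrime]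
    [CommRing Os] [IsLocalRing Os] [IsNoetherianRing Os] [Algebra A Os] [IsLocalization.AtPrime Os s] (hG : CAlg.IsGRing Os)
    [CommRing C] [Algebra A C] [Algebra.FiniteType A C] (x : Ideal C) [x.IsPrime]
    [CommRing Ox] [IsLocalRing Ox] [Algebra C Ox] [IsLocalization.AtPrime Ox x] (hxs : x.comap (algebraMap A C) = s)
    [CommRing AT] [CommRing P] [Algebra A P] [Algebra.FiniteType A P] [Algebra AT P] [CommRing B] [Algebra AT B] [Algebra.FiniteType AT B]
    [Algebra AT (AdicCompletion (maximalIdeal Os) Os)]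
    [Algebra P (AdicCompletion (maximalIdeal Os) Os)] [IsScalarTower A P (AdicCompletion (maximalIdeal Os) Os)]
    [IsScalarTower AT P (AdicCompletion (maximalIdeal Os) Os)]
    (q : Ideal (AdicCompletion (maximalIdeal Os) Os ⊗[AT] B)) [q.IsPrime] [CommRing Oy] [IsLocalRing Oy]
    [Algebra (AdicCompletion (maximalIdeal Os) Os ⊗[AT] B) Oy] [IsLocalization.AtPrime Oy q]
    (hq : ∀ r ∈ maximalIdeal (AdicCompletion (maximalIdeal Os) Os), r ⊗ₜ (1 : B) ∈ q)
    (φ : AdicCompletion (maximalIdeal Ox) Ox ≃+* AdicCompletion (maximalIdeal Oy) Oy)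
    (hφ : ∀ a : A, φ (algebraMap C (AdicCompletion (maximalIdeal Ox) Ox) (algebraMap A C a)) =
      algebraMap Oy (AdicCompletion (maximalIdeal Oy) Oy)
        (algebraMap (AdicCompletion (maximalIdeal Os) Os ⊗[AT] B) Oy
          (algebraMap A (AdicCompletion (maximalIdeal Os) Os) a ⊗ₜ (1 : B)))) :
    ∃ (RV : Type u) (_ : CommRing RV) (_ : Algebra A RV) (_ : Algebra AT RV)
      (ψ : RV →ₐ[A] AdicCompletion (maximalIdeal Os) Os) (W : Type u) (_ : CommRing W)
      (α : RV ⊗[AT] B →+* W) (β : C →+* W) (χ : W →+* ResidueField Oy),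
      Algebra.Etale A RV ∧ α.Etale ∧ β.Etale ∧
      (∀ a : A, α (algebraMap A RV a ⊗ₜ (1 : B)) = β (algebraMap A C a)) ∧
      (∀ a : AT, residue _ (ψ (algebraMap AT RV a)) =
        residue _ (algebraMap AT (AdicCompletion (maximalIdeal Os) Os) a)) ∧
      (∀ c, χ (β c) = 0 ↔ c ∈ x) ∧ (∀ k, ∃ c c', χ (β c') ≠ 0 ∧ k * χ (β c') = χ (β c)) ∧
      (∀ r b, χ (α (r ⊗ₜ b)) = residue Oy (algebraMap (AdicCompletion (maximalIdeal Os) Os ⊗[AT] B) Oy (ψ r ⊗ₜ b))) ∧
      ∀ k, ∃ z z', χ (α z') ≠ 0 ∧ k * χ (α z') = χ (α z) := by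
  haveI : IsNoetherianRing Os := hG.1
  haveI : IsNoetherianRing C := Algebra.FiniteType.isNoetherianRing A C
  haveI : IsNoetherianRing Ox := IsLocalization.isNoetherianRing x.primeCompl Ox inferInstance
  let Sh := AdicCompletion (maximalIdeal Os) Os
  haveI : IsNoetherianRing Sh :=
    Groth.L01.AdicNoeth.isNoetherianRing_adicCompletion (maximalIdeal Os) (IsNoetherian.noetherian _)
  let D₀ := P ⊗[AT] B
  let D₁ := Sh ⊗[P] D₀
  let e : D₁ ≃ₐ[Sh] Sh ⊗[AT] B := Algebra.TensorProduct.cancelBaseChange AT P Sh Sh B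
  let q₁ : Ideal D₁ := q.comap e.toRingEquiv.toRingHom
  haveI : q₁.IsPrime := Ideal.IsPrime.comap _
  letI : Algebra D₁ Oy := ((algebraMap (Sh ⊗[AT] B) Oy).comp e.toRingEquiv.toRingHom).toAlgebra
  haveI : IsLocalization.AtPrime Oy q₁ := by
    have h := IsLocalization.isLocalization_of_base_ringEquiv q.primeCompl Oy e.toRingEquiv.symm
    have hM : q.primeCompl.map e.toRingEquiv.symm = q₁.primeCompl := by
      ext z
      constructor
      · rintro ⟨w, hw, rfl⟩ h
        exact hw (by simpa [q₁] using h)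
      · exact fun hz => ⟨e z, hz, e.symm_apply_apply z⟩
    rw [hM] at h
    exact h
  let A₁ := Localization.AtPrime q₁
  let ε : Oy ≃ₐ[D₁] A₁ := IsLocalization.algEquiv q₁.primeCompl Oy A₁
  haveI : Algebra.FiniteType Sh D₁ := inferInstance
  haveI : IsNoetherianRing D₁ := Algebra.FiniteType.isNoetherianRing Sh D₁
  haveI : IsNoetherianRing A₁ := IsLocalization.isNoetherianRing q₁.primeCompl A₁ inferInstance
  obtain ⟨c, hc⟩ := exists_completion_equiv (R := Oy) (S := A₁) ε.toRingEquiv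
  have hεD : ∀ d : Sh ⊗[AT] B, ε (algebraMap (Sh ⊗[AT] B) Oy d) = algebraMap D₁ A₁ (e.symm d) := fun d => by
    rw [← ε.commutes]
    exact congrArg (fun z => ε (algebraMap (Sh ⊗[AT] B) Oy z)) (e.apply_symm_apply d).symm
  have hesymm : ∀ (r : Sh) (b : B), e.symm (r ⊗ₜ b) = r ⊗ₜ ((1 : P) ⊗ₜ b) := fun r b =>
    Algebra.TensorProduct.cancelBaseChange_symm_tmul AT P Sh Sh B r b
  obtain ⟨RV, iRV, iARV, iPRV, iT, ψ, W, iW, α₁, β, χ₁, hRV, hα, hβ, hcA, hcP, hχβ, hχα, hfrac⟩ :=
    exists_algebraic_nbhds (D₀ := D₀) s hG x hxs q₁ (fun r hr => by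
      show e (r ⊗ₜ (1 : D₀)) ∈ q
      rw [show e (r ⊗ₜ (1 : D₀)) = r ⊗ₜ (1 : B) from by
        rw [show (1 : D₀) = (1 : P) ⊗ₜ (1 : B) from rfl]
        exact (Algebra.TensorProduct.cancelBaseChange_tmul AT P Sh Sh B r 1 1).trans (by rw [one_smul])]
      exact hq r (AdicCompletion.maximalIdeal_eq_map (R := Os) ▸ hr))
      (φ.trans c) (fun a => by
        show c (φ _) = _
        rw [hφ]
        refine Eq.trans ?_ (algebraMap_completion_localization q₁ _).symm
        refine (hc _).trans (congrArg _ ?_)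
        exact (hεD _).trans (congrArg _ ((hesymm _ _).trans rfl)))
  letI : Algebra AT RV := ((algebraMap P RV).comp (algebraMap AT P)).toAlgebra
  haveI : IsScalarTower AT P RV := IsScalarTower.of_algebraMap_eq' rfl
  let eR : RV ⊗[P] D₀ ≃ₐ[RV] RV ⊗[AT] B := Algebra.TensorProduct.cancelBaseChange AT P RV RV B
  obtain ⟨ρ, hρinj, hρsurj, hρmk⟩ := exists_residue_map (R := Oy) (S := A₁) ε.toRingEquiv
  have hker : ∀ cc, χ₁ (β cc) = 0 ↔ cc ∈ x := fun cc => by
    rw [hχβ, evalₐ_one_eq_zero_iff, isUnit_map_iff, IsScalarTower.algebraMap_apply C Ox (AdicCompletion (maximalIdeal Ox) Ox)]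
    rw [← IsLocalization.AtPrime.to_map_mem_maximal_iff Ox x cc, ← evalₐ_one_eq_zero_iff, AlgHom.commutes,
      Ideal.Quotient.algebraMap_eq, Ideal.Quotient.eq_zero_iff_mem, pow_one]
  refine ⟨RV, iRV, iARV, inferInstance, ψ, W, iW, α₁.comp eR.symm.toRingEquiv.toRingHom, β, ρ.comp χ₁, hRV,
    RingHom.Etale.respectsIso.2 _ _ hα, hβ, fun a => ?_, fun a => ?_, fun cc => ?_, fun k => ?_, fun r b => ?_,
    fun k => ?_⟩
  · refine Eq.trans ?_ (hcA a)
    show α₁ (eR.symm (algebraMap A RV a ⊗ₜ 1)) = _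
    exact congrArg α₁ (Algebra.TensorProduct.cancelBaseChange_symm_tmul AT P RV RV B _ 1)
  · have h := hcP (algebraMap AT P a)
    rw [← IsScalarTower.algebraMap_apply AT P Sh, ← sub_eq_zero, ← map_sub, evalₐ_one_eq_zero_iff] at h
    rw [← sub_eq_zero, ← map_sub, residue_eq_zero_iff]
    exact h
  · exact (map_eq_zero_iff ρ hρinj).trans (hker cc)
  · obtain ⟨k, rfl⟩ := hρsurj k
    obtain ⟨w₀, rfl⟩ := AdicCompletion.surjective_evalₐ _ 1 k
    obtain ⟨w, rfl⟩ := (φ.trans c).surjective w₀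
    obtain ⟨o, ho⟩ := Ideal.Quotient.mk_surjective (AdicCompletion.evalₐ (maximalIdeal Ox) 1 w)
    obtain ⟨⟨cc, t⟩, hct⟩ := IsLocalization.surj x.primeCompl o
    refine ⟨cc, t, fun h => t.2 ((hker t).mp ((map_eq_zero_iff ρ hρinj).mp h)), ?_⟩
    show ρ _ * ρ (χ₁ (β t)) = ρ (χ₁ (β cc))
    rw [← map_mul, hχβ, hχβ, ← map_mul]
    refine congrArg ρ ?_
    have h0 : AdicCompletion.evalₐ (maximalIdeal Ox) 1
        (w * algebraMap C _ (t : C) - algebraMap C _ cc) = 0 := by
      rw [map_sub, map_mul, ← ho, IsScalarTower.algebraMap_apply C Ox (AdicCompletion (maximalIdeal Ox) Ox),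
        IsScalarTower.algebraMap_apply C Ox (AdicCompletion (maximalIdeal Ox) Ox), AlgHom.commutes, AlgHom.commutes,
        Ideal.Quotient.algebraMap_eq, ← map_mul, hct, sub_self]
    rw [evalₐ_one_eq_zero_iff, ← isUnit_map_iff (φ.trans c), ← evalₐ_one_eq_zero_iff, map_sub, map_sub, sub_eq_zero,
      map_mul] at h0
    exact h0
  · show ρ (χ₁ (α₁ (eR.symm (r ⊗ₜ b)))) = _
    rw [Algebra.TensorProduct.cancelBaseChange_symm_tmul, hχα]
    refine (hρmk _).trans ?_
    show residue Oy (ε.symm _) = _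
    rw [← hesymm, ← hεD, AlgEquiv.symm_apply_apply]
  · obtain ⟨k, rfl⟩ := hρsurj k
    obtain ⟨z, z', hne, heq⟩ := hfrac k
    refine ⟨eR z, eR z', fun h => hne ?_, ?_⟩
    · refine (map_eq_zero_iff ρ hρinj).mp ?_
      rw [← eR.symm_apply_apply z']
      exact h
    · show ρ k * ρ (χ₁ (α₁ (eR.symm (eR z')))) = ρ (χ₁ (α₁ (eR.symm (eR z))))
      rw [AlgEquiv.symm_apply_apply, AlgEquiv.symm_apply_apply, ← map_mul, heq]

set_option maxHeartbeats 1000000 in
/-- The algebraic form of the matching of completed base changes, over affine charts. -/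
theorem exists_affine_nbhds {A C AT B Os Ox Oy : Type u} [CommRing A] [IsNoetherianRing A] (s : Ideal A) [s.IsPrime]
    [CommRing Os] [IsLocalRing Os] [IsNoetherianRing Os] [Algebra A Os] [IsLocalization.AtPrime Os s] (hG : CAlg.IsGRing Os)
    [CommRing C] [Algebra A C] [Algebra.FiniteType A C] (x : Ideal C) [x.IsPrime]
    [CommRing Ox] [IsLocalRing Ox] [Algebra C Ox] [IsLocalization.AtPrime Ox x] (hxs : x.comap (algebraMap A C) = s)
    [CommRing AT] [Algebra.FiniteType ℤ AT] [CommRing B] [Algebra AT B] [Algebra.FiniteType AT B]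
    [Algebra AT (AdicCompletion (maximalIdeal Os) Os)]
    (q : Ideal (AdicCompletion (maximalIdeal Os) Os ⊗[AT] B)) [q.IsPrime] [CommRing Oy] [IsLocalRing Oy]
    [Algebra (AdicCompletion (maximalIdeal Os) Os ⊗[AT] B) Oy] [IsLocalization.AtPrime Oy q]
    (hq : ∀ r ∈ maximalIdeal (AdicCompletion (maximalIdeal Os) Os), r ⊗ₜ (1 : B) ∈ q)
    (φ : AdicCompletion (maximalIdeal Ox) Ox ≃+* AdicCompletion (maximalIdeal Oy) Oy)
    (hφ : ∀ a : A, φ (algebraMap C (AdicCompletion (maximalIdeal Ox) Ox) (algebraMap A C a)) =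
      algebraMap Oy (AdicCompletion (maximalIdeal Oy) Oy)
        (algebraMap (AdicCompletion (maximalIdeal Os) Os ⊗[AT] B) Oy
          (algebraMap A (AdicCompletion (maximalIdeal Os) Os) a ⊗ₜ (1 : B)))) :
    ∃ (RV : Type u) (_ : CommRing RV) (_ : Algebra A RV) (_ : Algebra AT RV)
      (ψ : RV →ₐ[A] AdicCompletion (maximalIdeal Os) Os) (W : Type u) (_ : CommRing W)
      (α : RV ⊗[AT] B →+* W) (β : C →+* W) (χ : W →+* ResidueField Oy),
      Algebra.Etale A RV ∧ α.Etale ∧ β.Etale ∧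
      (∀ a : A, α (algebraMap A RV a ⊗ₜ (1 : B)) = β (algebraMap A C a)) ∧
      (∀ a : AT, residue _ (ψ (algebraMap AT RV a)) =
        residue _ (algebraMap AT (AdicCompletion (maximalIdeal Os) Os) a)) ∧
      (∀ c, χ (β c) = 0 ↔ c ∈ x) ∧ (∀ k, ∃ c c', χ (β c') ≠ 0 ∧ k * χ (β c') = χ (β c)) ∧
      (∀ r b, χ (α (r ⊗ₜ b)) = residue Oy (algebraMap (AdicCompletion (maximalIdeal Os) Os ⊗[AT] B) Oy (ψ r ⊗ₜ b))) ∧
      ∀ k, ∃ z z', χ (α z') ≠ 0 ∧ k * χ (α z') = χ (α z) := by
  let Sh := AdicCompletion (maximalIdeal Os) Os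
  let P := A ⊗[ℤ] AT
  letI : Algebra AT P := (Algebra.TensorProduct.includeRight : AT →ₐ[ℤ] P).toRingHom.toAlgebra
  let μ : P →+* Sh := (Algebra.TensorProduct.lift (R := ℤ) (S := ℤ) (A := A) (B := AT) (C := Sh)
    (algebraMap A Sh).toIntAlgHom (algebraMap AT Sh).toIntAlgHom fun _ _ => Commute.all _ _).toRingHom
  letI : Algebra P Sh := μ.toAlgebra
  have hμ : ∀ a t, μ (a ⊗ₜ t) = algebraMap A Sh a * algebraMap AT Sh t := fun a t =>
    Algebra.TensorProduct.lift_tmul _ _ _ _ _
  haveI : IsScalarTower A P Sh := IsScalarTower.of_algebraMap_eq fun a => by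
    show _ = μ (a ⊗ₜ 1)
    rw [hμ, map_one, mul_one]
  haveI : IsScalarTower AT P Sh := IsScalarTower.of_algebraMap_eq fun a => by
    show _ = μ ((1 : A) ⊗ₜ a)
    rw [hμ, map_one, one_mul]
  haveI : Algebra.FiniteType A P := inferInstance
  exact exists_affine_nbhds_aux (P := P) s hG x hxs q hq φ hφ

end Groth.L14.Popescu
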