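import Groth.Agent.L14.Popescu.AffineNbhd

/-!
Affine charts of pullbacks and points with values in fields.
-/

set_option autoImplicit false
set_option linter.style.haveILetI false

noncomputable section

open AlgebraicGeometry CategoryTheory Limits IsLocalRing TensorProduct

namespace Groth.L14.Popescu

universe u

/-- The chart of a base change over affine opens. -/
theorem exists_pullback_chart {Y T : Scheme.{u}} (q : Y ⟶ T) {WT : T.Opens} (hWT : IsAffineOpen WT) {V₀ : Y.Opens}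
    (hV₀ : IsAffineOpen V₀) (hV : V₀ ≤ q ⁻¹ᵁ WT) (R : Type u) [CommRing R] [Algebra Γ(T, WT) R]
    [Algebra Γ(T, WT) Γ(Y, V₀)] (hB : algebraMap Γ(T, WT) Γ(Y, V₀) = (q.appLE WT V₀ hV).hom)
    (g : Spec (CommRingCat.of R) ⟶ T)
    (hg : g = Spec.map (CommRingCat.ofHom (algebraMap Γ(T, WT) R)) ≫ hWT.fromSpec) :
    ∃ j : Spec (CommRingCat.of (R ⊗[Γ(T, WT)] Γ(Y, V₀))) ⟶ pullback q g, IsOpenImmersion j ∧
      j ≫ pullback.fst q g = Spec.map (CommRingCat.ofHom
        (Algebra.TensorProduct.includeRight : Γ(Y, V₀) →ₐ[Γ(T, WT)] R ⊗[Γ(T, WT)] Γ(Y, V₀)).toRingHom) ≫ hV₀.fromSpec ∧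
      j ≫ pullback.snd q g = Spec.map (CommRingCat.ofHom
        (Algebra.TensorProduct.includeLeftRingHom : R →+* R ⊗[Γ(T, WT)] Γ(Y, V₀))) ∧
      ∀ z : (pullback q g : Scheme.{u}), (pullback.fst q g) z ∈ V₀ → z ∈ Set.range j := by
  haveI := hV₀.isOpenImmersion_fromSpec
  haveI := hWT.isOpenImmersion_fromSpec
  let fR := Spec.map (CommRingCat.ofHom (algebraMap Γ(T, WT) R))
  let fB := Spec.map (CommRingCat.ofHom (algebraMap Γ(T, WT) Γ(Y, V₀)))
  have e₁ : fB ≫ hWT.fromSpec = hV₀.fromSpec ≫ q := by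
    show Spec.map (CommRingCat.ofHom (algebraMap _ _)) ≫ _ = _
    rw [hB]
    exact IsAffineOpen.SpecMap_appLE_fromSpec q hWT hV₀ hV
  have e₂ : fR ≫ hWT.fromSpec = 𝟙 _ ≫ g := by rw [Category.id_comp, hg]
  let m := pullback.map fB fR q g hV₀.fromSpec (𝟙 _) hWT.fromSpec e₁ e₂
  let j := (pullbackSpecIso Γ(T, WT) R Γ(Y, V₀)).inv ≫ (pullbackSymmetry fR fB).hom ≫ m
  refine ⟨j, inferInstance, ?_, ?_, fun z hz => ?_⟩
  · simp only [j, m, Category.assoc, pullback.lift_fst, pullbackSymmetry_hom_comp_fst_assoc,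
      pullbackSpecIso_inv_snd_assoc, fR, fB]
    rfl
  · simp only [j, m, Category.assoc, pullback.lift_snd, pullbackSymmetry_hom_comp_snd,
      Category.comp_id, fR, fB]
    exact pullbackSpecIso_inv_fst Γ(T, WT) R Γ(Y, V₀)
  · obtain ⟨w, hw⟩ : z ∈ Set.range m := by
      rw [Scheme.Pullback.range_map, Set.mem_inter_iff]
      refine ⟨?_, ⟨(pullback.snd q g) z, rfl⟩⟩
      show (pullback.fst q g) z ∈ Set.range hV₀.fromSpec
      rw [hV₀.range_fromSpec]
      exact hz
    obtain ⟨w₁, hw₁⟩ := ((pullbackSpecIso Γ(T, WT) R Γ(Y, V₀)).inv ≫ (pullbackSymmetry fR fB).hom).homeomorph.surjective w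
    exact ⟨w₁, (congrArg m hw₁).trans hw⟩

/-- The map on stalks of a morphism factoring through an affine chart. -/
theorem germ_stalkTo_chart {X : Scheme.{u}} {K : CommRingCat.{u}} [IsLocalRing K] {U : X.Opens} (hU : IsAffineOpen U)
    (g : Γ(X, U) ⟶ K) (F : Spec K ⟶ X) (hF : F = Spec.map g ≫ hU.fromSpec) (h : F (closedPoint K) ∈ U) :
    X.presheaf.germ U _ h ≫ Scheme.stalkClosedPointTo F = g := by
  subst hF
  rw [Scheme.stalkClosedPointTo_comp]
  refine (Category.assoc _ _ _).symm.trans ?_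
  refine (congrArg (· ≫ Scheme.stalkClosedPointTo (Spec.map g))
    (Scheme.Hom.germ_stalkMap hU.fromSpec U ((Spec.map g) (closedPoint K)) h)).trans ?_
  show (hU.fromSpec.app U ≫ _) ≫ _ = g
  rw [hU.fromSpec_app_self]
  simp only [Category.assoc]
  erw [TopCat.Presheaf.germ_res_assoc]
  erw [Scheme.germ_stalkClosedPointTo_Spec]
  exact Iso.inv_hom_id_assoc _ _

/-- A point with values in a field, given on an affine chart, with fractions exhausting the field. -/
theorem residueFieldMap_bijective_of_fractions {W X : Scheme.{u}} (f : W ⟶ X) {K : CommRingCat.{u}} [IsLocalRing K]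
    (a : Spec K ⟶ W) (hK : ∀ z ∈ maximalIdeal K, z = 0) {U : X.Opens} (hU : IsAffineOpen U) (g : Γ(X, U) ⟶ K)
    (ha : a ≫ f = Spec.map g ≫ hU.fromSpec)
    (hfrac : ∀ k : K, ∃ c c' : Γ(X, U), g c' ≠ 0 ∧ k * g c' = g c) :
    Function.Bijective (f.residueFieldMap (a (closedPoint K))) := by
  refine ⟨(f.residueFieldMap _).hom.injective, fun k => ?_⟩
  obtain ⟨z, rfl⟩ := IsLocalRing.residue_surjective (R := W.presheaf.stalk (a (closedPoint K))) k
  let Φ := (Scheme.stalkClosedPointTo a).hom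
  haveI : IsLocalHom Φ := Scheme.isLocalHom_stalkClosedPointTo a
  haveI := hU.isOpenImmersion_fromSpec
  have hmem : f (a (closedPoint K)) ∈ U := by
    show (a ≫ f) (closedPoint K) ∈ U
    rw [ha]
    have : (Spec.map g ≫ hU.fromSpec) (closedPoint K) ∈ Set.range hU.fromSpec := ⟨_, rfl⟩
    rwa [hU.range_fromSpec] at this
  let germ := X.presheaf.germ U (f (a (closedPoint K))) hmem
  have hg : ∀ c, Φ ((f.stalkMap (a (closedPoint K))) (germ c)) = g c := fun c => by
    have h1 : X.presheaf.germ U ((a ≫ f) (closedPoint K)) hmem ≫ Scheme.stalkClosedPointTo (a ≫ f) = g := by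
      exact germ_stalkTo_chart hU g _ ha hmem
    rw [Scheme.stalkClosedPointTo_comp] at h1
    exact CategoryTheory.congr_fun h1 c
  obtain ⟨c, c', hne, heq⟩ := hfrac (Φ z)
  have hu : IsUnit (germ c') := by
    by_contra h
    have h2 : ¬ IsUnit ((f.stalkMap (a (closedPoint K))) (germ c')) := fun hu =>
      h ((isUnit_map_iff (f.stalkMap (a (closedPoint K))).hom _).mp hu)
    refine hne ?_
    rw [← hg]
    exact hK _ (fun hu => h2 ((isUnit_map_iff Φ _).mp hu))
  obtain ⟨v, hv⟩ := hu.exists_right_inv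
  refine ⟨X.residue _ (germ c * v), ?_⟩
  refine (CategoryTheory.congr_fun (Scheme.residue_residueFieldMap f (a (closedPoint K))) (germ c * v)).trans ?_
  refine sub_eq_zero.mp ((map_sub (IsLocalRing.residue _) _ _).symm.trans ((residue_eq_zero_iff _).mpr fun hu => ?_))
  have hz : Φ ((f.stalkMap (a (closedPoint K))).hom (germ c * v) - z) = 0 := by
    have h3 : g c' * Φ ((f.stalkMap (a (closedPoint K))).hom v) = 1 := by
      rw [← hg, ← map_mul, ← map_mul, hv, map_one, map_one]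
    rw [map_sub, map_mul, map_mul, hg, ← heq, mul_assoc, h3, mul_one, sub_self]
  have := hu.map Φ
  erw [hz, isUnit_zero_iff] at this
  exact one_ne_zero this.symm

end Groth.L14.Popescu
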