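import Groth.Agent.L14.Popescu.Descend

/-!
Descent of an algebra which is etale over two algebras of finite presentation.
-/

set_option autoImplicit false
set_option linter.style.haveILetI false

noncomputable section

open TensorProduct

namespace Groth.L14.Popescu.Descend

universe u

section fg

variable {K : Type u} [CommRing K] {S : Type u} [CommRing S] [Algebra K S]

/-- Finitely generated subalgebras. -/
abbrev FgSub (K S : Type u) [CommRing K] [CommRing S] [Algebra K S] : Type u := {L : Subalgebra K S // L.FG}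

instance : Nonempty (FgSub K S) := ⟨⟨⊥, Subalgebra.fg_bot⟩⟩

instance : IsDirected (FgSub K S) (· ≤ ·) :=
  ⟨fun L L' => ⟨⟨L.1 ⊔ L'.1, L.2.sup L'.2⟩, (le_sup_left : L.1 ≤ L.1 ⊔ L'.1), (le_sup_right : L'.1 ≤ L.1 ⊔ L'.1)⟩⟩

theorem fgSub_surj (a : S) : ∃ L : FgSub K S, ∃ x : L.1, L.1.val x = a :=
  ⟨⟨Algebra.adjoin K {a}, ⟨{a}, by rw [Finset.coe_singleton]⟩⟩,
    ⟨a, Algebra.subset_adjoin rfl⟩, rfl⟩

theorem fgSub_ker (L : FgSub K S) (x : L.1) (h : L.1.val x = 0) :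
    ∃ L' : FgSub K S, ∃ hle : L ≤ L', (Subalgebra.inclusion (hle : L.1 ≤ L'.1)) x = 0 :=
  ⟨L, le_refl L, Subtype.ext h⟩

/-- Homomorphisms descend to a finitely generated subalgebra. -/
theorem exists_hom_fg (W D : Type u) [CommRing W] [Algebra K W] [CommRing D] [Algebra K D]
    [Algebra.FinitePresentation K D] (φ : D →ₐ[K] W ⊗[K] S) :
    ∃ L : FgSub K S, ∃ φL : D →ₐ[K] W ⊗[K] L.1, (Algebra.TensorProduct.map (AlgHom.id K W) L.1.val).comp φL = φ :=
  exists_hom_stage (G := fun L : FgSub K S => L.1) (fun _ _ h => Subalgebra.inclusion h) (fun L => L.1.val)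
    (fun _ _ _ => AlgHom.ext fun _ => rfl) fgSub_surj fgSub_ker W D φ

/-- Etaleness descends to a finitely generated subalgebra. -/
theorem exists_etale_fg (D W : Type u) [CommRing D] [Algebra K D] [CommRing W] [Algebra K W] [Algebra D W]
    [IsScalarTower K D W] [Algebra.FinitePresentation K D] [Algebra.FinitePresentation K W]
    (h : (bc S K D W).Etale) : ∃ L : FgSub K S, (bc L.1 K D W).Etale :=
  exists_etale_stage (G := fun L : FgSub K S => L.1) (fun _ _ h => Subalgebra.inclusion h) (fun L => L.1.val)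
    (fun _ _ _ => AlgHom.ext fun _ => rfl) fgSub_surj fgSub_ker D W h

end fg

set_option maxHeartbeats 1000000 in
/-- Descent once the homomorphisms are defined over the subring. -/
theorem exists_pair_of_maps {P K S D₀ E₀ W₁ W : Type u} [CommRing P] [CommRing K] [Algebra P K] [Algebra.FiniteType P K]
    [CommRing S] [Algebra P S] [Algebra K S] [IsScalarTower P K S] [CommRing D₀] [Algebra P D₀]
    [Algebra.FinitePresentation P D₀] [CommRing E₀] [Algebra P E₀] [Algebra.FinitePresentation P E₀]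
    [CommRing W₁] [Algebra K W₁] [Algebra.FinitePresentation K W₁] [CommRing W] [Algebra S W]
    (e : S ⊗[K] W₁ ≃ₐ[S] W) (α : S ⊗[P] D₀ →ₐ[S] W) (β : S ⊗[P] E₀ →ₐ[S] W)
    (hα : α.toRingHom.Etale) (hβ : β.toRingHom.Etale)
    (α₁ : K ⊗[P] D₀ →ₐ[K] W₁) (β₁ : K ⊗[P] E₀ →ₐ[K] W₁)
    (hα₁ : ∀ d, e (1 ⊗ₜ α₁ (1 ⊗ₜ d)) = α (1 ⊗ₜ d)) (hβ₁ : ∀ d, e (1 ⊗ₜ β₁ (1 ⊗ₜ d)) = β (1 ⊗ₜ d)) :
    ∃ (L : Type u) (_ : CommRing L) (_ : Algebra P L) (_ : Algebra.FiniteType P L) (gL : L →ₐ[P] S)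
      (WL : Type u) (_ : CommRing WL) (αL : L ⊗[P] D₀ →+* WL) (βL : L ⊗[P] E₀ →+* WL) (γ : WL →+* W),
      αL.Etale ∧ βL.Etale ∧ (∀ l : L, αL (l ⊗ₜ 1) = βL (l ⊗ₜ 1)) ∧
      (∀ l d, γ (αL (l ⊗ₜ d)) = α (gL l ⊗ₜ d)) ∧ ∀ l d, γ (βL (l ⊗ₜ d)) = β (gL l ⊗ₜ d) := by
  letI : Algebra K W := ((algebraMap S W).comp (algebraMap K S)).toAlgebra
  haveI : IsScalarTower K S W := IsScalarTower.of_algebraMap_eq' rfl
  letI : Algebra P W := ((algebraMap S W).comp (algebraMap P S)).toAlgebra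
  haveI : IsScalarTower P S W := IsScalarTower.of_algebraMap_eq' rfl
  haveI : IsScalarTower P K W := IsScalarTower.of_algebraMap_eq fun x => by
    rw [IsScalarTower.algebraMap_apply P S W, IsScalarTower.algebraMap_apply K S W, ← IsScalarTower.algebraMap_apply P K S]
  letI : Algebra (K ⊗[P] D₀) W₁ := α₁.toRingHom.toAlgebra
  haveI : IsScalarTower K (K ⊗[P] D₀) W₁ := IsScalarTower.of_algebraMap_eq fun x => (α₁.commutes x).symm
  letI : Algebra (K ⊗[P] E₀) W₁ := β₁.toRingHom.toAlgebra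
  haveI : IsScalarTower K (K ⊗[P] E₀) W₁ := IsScalarTower.of_algebraMap_eq fun x => (β₁.commutes x).symm
  let cD := Algebra.TensorProduct.cancelBaseChange P K S S D₀
  let cE := Algebra.TensorProduct.cancelBaseChange P K S S E₀
  have hA : (bc S K (K ⊗[P] D₀) W₁).Etale := by
    have key : bc S K (K ⊗[P] D₀) W₁ = (e.symm.toRingEquiv.toRingHom.comp α.toRingHom).comp cD.toRingEquiv.toRingHom := by
      refine RingHom.ext fun z => ?_
      refine e.injective ?_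
      show e (Algebra.TensorProduct.map (AlgHom.id S S) (IsScalarTower.toAlgHom K (K ⊗[P] D₀) W₁) z) =
        e (e.symm (α (cD z)))
      rw [AlgEquiv.apply_symm_apply]
      refine AlgHom.congr_fun ((?_ : e.toAlgHom.comp (Algebra.TensorProduct.map (AlgHom.id S S)
        (IsScalarTower.toAlgHom K (K ⊗[P] D₀) W₁)) = α.comp cD.toAlgHom)) z
      refine Algebra.TensorProduct.ext (Subsingleton.elim _ _) ?_
      refine Algebra.TensorProduct.ext (Subsingleton.elim _ _) (AlgHom.ext fun d => ?_)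
      show e ((1 : S) ⊗ₜ α₁ ((1 : K) ⊗ₜ d)) = α (cD ((1 : S) ⊗ₜ ((1 : K) ⊗ₜ d)))
      rw [hα₁]
      congr 1
      simp [cD]
    rw [key]
    exact RingHom.Etale.respectsIso.2 _ cD.toRingEquiv (RingHom.Etale.respectsIso.1 _ e.symm.toRingEquiv hα)
  have hB : (bc S K (K ⊗[P] E₀) W₁).Etale := by
    have key : bc S K (K ⊗[P] E₀) W₁ = (e.symm.toRingEquiv.toRingHom.comp β.toRingHom).comp cE.toRingEquiv.toRingHom := by
      refine RingHom.ext fun z => ?_
      refine e.injective ?_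
      show e (Algebra.TensorProduct.map (AlgHom.id S S) (IsScalarTower.toAlgHom K (K ⊗[P] E₀) W₁) z) =
        e (e.symm (β (cE z)))
      rw [AlgEquiv.apply_symm_apply]
      refine AlgHom.congr_fun ((?_ : e.toAlgHom.comp (Algebra.TensorProduct.map (AlgHom.id S S)
        (IsScalarTower.toAlgHom K (K ⊗[P] E₀) W₁)) = β.comp cE.toAlgHom)) z
      refine Algebra.TensorProduct.ext (Subsingleton.elim _ _) ?_
      refine Algebra.TensorProduct.ext (Subsingleton.elim _ _) (AlgHom.ext fun d => ?_)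
      show e ((1 : S) ⊗ₜ β₁ ((1 : K) ⊗ₜ d)) = β (cE ((1 : S) ⊗ₜ ((1 : K) ⊗ₜ d)))
      rw [hβ₁]
      congr 1
      simp [cE]
    rw [key]
    exact RingHom.Etale.respectsIso.2 _ cE.toRingEquiv (RingHom.Etale.respectsIso.1 _ e.symm.toRingEquiv hβ)
  obtain ⟨L₁, hL₁⟩ := exists_etale_fg (K ⊗[P] D₀) W₁ hA
  obtain ⟨L₂, hL₂⟩ := exists_etale_fg (K ⊗[P] E₀) W₁ hB
  let L : Subalgebra K S := L₁.1 ⊔ L₂.1
  letI : Algebra L₁.1 L := (Subalgebra.inclusion (le_sup_left : L₁.1 ≤ L)).toRingHom.toAlgebra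
  haveI : IsScalarTower K L₁.1 L := IsScalarTower.of_algebraMap_eq fun _ => rfl
  letI : Algebra L₂.1 L := (Subalgebra.inclusion (le_sup_right : L₂.1 ≤ L)).toRingHom.toAlgebra
  haveI : IsScalarTower K L₂.1 L := IsScalarTower.of_algebraMap_eq fun _ => rfl
  have hLA : (bc L K (K ⊗[P] D₀) W₁).Etale := etale_bc_trans hL₁
  have hLB : (bc L K (K ⊗[P] E₀) W₁).Etale := etale_bc_trans hL₂
  haveI : Algebra.FiniteType K L := (Subalgebra.fg_iff_finiteType L).mp (L₁.2.sup L₂.2)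
  haveI : Algebra.FiniteType P L := Algebra.FiniteType.trans (inferInstance : Algebra.FiniteType P K) inferInstance
  let dD := Algebra.TensorProduct.cancelBaseChange P K L L D₀
  let dE := Algebra.TensorProduct.cancelBaseChange P K L L E₀
  let γ : L ⊗[K] W₁ →+* W := e.toRingEquiv.toRingHom.comp (Algebra.TensorProduct.map L.val (AlgHom.id K W₁)).toRingHom
  refine ⟨L, inferInstance, inferInstance, inferInstance, L.val.restrictScalars P, L ⊗[K] W₁, inferInstance,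
    (bc L K (K ⊗[P] D₀) W₁).comp dD.symm.toRingEquiv.toRingHom,
    (bc L K (K ⊗[P] E₀) W₁).comp dE.symm.toRingEquiv.toRingHom, γ, RingHom.Etale.respectsIso.2 _ dD.symm.toRingEquiv hLA,
    RingHom.Etale.respectsIso.2 _ dE.symm.toRingEquiv hLB, fun l => ?_, fun l d => ?_, fun l d => ?_⟩
  · show bc L K _ W₁ (dD.symm (l ⊗ₜ 1)) = bc L K _ W₁ (dE.symm (l ⊗ₜ 1))
    rw [Algebra.TensorProduct.cancelBaseChange_symm_tmul, Algebra.TensorProduct.cancelBaseChange_symm_tmul]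
    show l ⊗ₜ[K] α₁ ((1 : K) ⊗ₜ 1) = l ⊗ₜ[K] β₁ ((1 : K) ⊗ₜ 1)
    rw [← Algebra.TensorProduct.one_def, ← Algebra.TensorProduct.one_def, map_one, map_one]
  · show e (Algebra.TensorProduct.map L.val (AlgHom.id K W₁) (bc L K _ W₁ (dD.symm (l ⊗ₜ d)))) = α (L.val l ⊗ₜ d)
    rw [Algebra.TensorProduct.cancelBaseChange_symm_tmul]
    show e ((l : S) ⊗ₜ α₁ ((1 : K) ⊗ₜ d)) = α ((l : S) ⊗ₜ d)
    rw [← mul_one (l : S), ← smul_eq_mul, ← TensorProduct.smul_tmul', ← TensorProduct.smul_tmul', map_smul, map_smul, hα₁]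
  · show e (Algebra.TensorProduct.map L.val (AlgHom.id K W₁) (bc L K _ W₁ (dE.symm (l ⊗ₜ d)))) = β (L.val l ⊗ₜ d)
    rw [Algebra.TensorProduct.cancelBaseChange_symm_tmul]
    show e ((l : S) ⊗ₜ β₁ ((1 : K) ⊗ₜ d)) = β ((l : S) ⊗ₜ d)
    rw [← mul_one (l : S), ← smul_eq_mul, ← TensorProduct.smul_tmul', ← TensorProduct.smul_tmul', map_smul, map_smul, hβ₁]

set_option maxHeartbeats 1000000 in
/-- Descent of both structures once a model is fixed. -/
theorem exists_pair_of_model {P K S D₀ E₀ W₀ W : Type u} [CommRing P] [CommRing K] [Algebra P K]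
    [Algebra.FiniteType P K] [CommRing S] [Algebra P S] [Algebra K S] [IsScalarTower P K S] [CommRing D₀]
    [Algebra P D₀] [Algebra.FinitePresentation P D₀] [CommRing E₀] [Algebra P E₀] [Algebra.FinitePresentation P E₀]
    [CommRing W₀] [Algebra K W₀] [Algebra.FinitePresentation K W₀] [CommRing W] [Algebra S W] [Algebra K W]
    [IsScalarTower K S W] (e : S ⊗[K] W₀ ≃ₐ[S] W)
    (α : S ⊗[P] D₀ →ₐ[S] W) (β : S ⊗[P] E₀ →ₐ[S] W) (hα : α.toRingHom.Etale) (hβ : β.toRingHom.Etale) :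
    ∃ (L : Type u) (_ : CommRing L) (_ : Algebra P L) (_ : Algebra.FiniteType P L) (gL : L →ₐ[P] S)
      (WL : Type u) (_ : CommRing WL) (αL : L ⊗[P] D₀ →+* WL) (βL : L ⊗[P] E₀ →+* WL) (γ : WL →+* W),
      αL.Etale ∧ βL.Etale ∧ (∀ l : L, αL (l ⊗ₜ 1) = βL (l ⊗ₜ 1)) ∧
      (∀ l d, γ (αL (l ⊗ₜ d)) = α (gL l ⊗ₜ d)) ∧ ∀ l d, γ (βL (l ⊗ₜ d)) = β (gL l ⊗ₜ d) := by
  let toW : W →ₐ[K] W₀ ⊗[K] S :=
    (Algebra.TensorProduct.comm K S W₀).toAlgHom.comp (e.symm.toAlgHom.restrictScalars K)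
  let φD : K ⊗[P] D₀ →ₐ[K] W₀ ⊗[K] S :=
    toW.comp ((α.restrictScalars K).comp (Algebra.TensorProduct.map (Algebra.ofId K S) (AlgHom.id P D₀)))
  let φE : K ⊗[P] E₀ →ₐ[K] W₀ ⊗[K] S :=
    toW.comp ((β.restrictScalars K).comp (Algebra.TensorProduct.map (Algebra.ofId K S) (AlgHom.id P E₀)))
  haveI : Algebra.FinitePresentation K ((K ⊗[P] D₀) ⊗[K] (K ⊗[P] E₀)) :=
    Algebra.FinitePresentation.trans K (K ⊗[P] D₀) _
  obtain ⟨L, φL, hφL⟩ := exists_hom_fg W₀ ((K ⊗[P] D₀) ⊗[K] (K ⊗[P] E₀))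
    (Algebra.TensorProduct.lift φD φE fun _ _ => Commute.all _ _)
  haveI : Algebra.FiniteType K L.1 := (Subalgebra.fg_iff_finiteType L.1).mp L.2
  haveI : Algebra.FiniteType P L.1 := Algebra.FiniteType.trans (inferInstance : Algebra.FiniteType P K) inferInstance
  let W₁ := L.1 ⊗[K] W₀
  let toW₁ : W₀ ⊗[K] L.1 →ₐ[K] W₁ := (Algebra.TensorProduct.comm K W₀ L.1).toAlgHom
  let a₀ : D₀ →ₐ[P] W₁ := ((toW₁.comp (φL.comp Algebra.TensorProduct.includeLeft)).restrictScalars P).comp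
    Algebra.TensorProduct.includeRight
  let b₀ : E₀ →ₐ[P] W₁ := ((toW₁.comp (φL.comp Algebra.TensorProduct.includeRight)).restrictScalars P).comp
    Algebra.TensorProduct.includeRight
  let α₁ : L.1 ⊗[P] D₀ →ₐ[L.1] W₁ :=
    Algebra.TensorProduct.lift (Algebra.ofId L.1 W₁) a₀ fun _ _ => Commute.all _ _
  let β₁ : L.1 ⊗[P] E₀ →ₐ[L.1] W₁ :=
    Algebra.TensorProduct.lift (Algebra.ofId L.1 W₁) b₀ fun _ _ => Commute.all _ _
  let e₁ : S ⊗[L.1] W₁ ≃ₐ[S] W := (Algebra.TensorProduct.cancelBaseChange K L.1 S S W₀).trans e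
  have hz : ∀ z : W₀ ⊗[K] L.1, e₁ ((1 : S) ⊗ₜ toW₁ z) =
      e ((Algebra.TensorProduct.comm K S W₀).symm (Algebra.TensorProduct.map (AlgHom.id K W₀) L.1.val z)) := by
    intro z
    induction z using TensorProduct.induction_on with
    | zero => simp
    | add a b ha hb => simp only [map_add, TensorProduct.tmul_add, ha, hb]
    | tmul w l =>
      show e (Algebra.TensorProduct.cancelBaseChange K L.1 S S W₀ ((1 : S) ⊗ₜ (l ⊗ₜ w))) = e ((l : S) ⊗ₜ w)
      rw [Algebra.TensorProduct.cancelBaseChange_tmul, Algebra.smul_def, mul_one]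
      rfl
  refine exists_pair_of_maps e₁ α β hα hβ α₁ β₁ (fun d => ?_) (fun d => ?_)
  · rw [Algebra.TensorProduct.lift_tmul, map_one, one_mul]
    refine (hz (φL (((1 : K) ⊗ₜ[P] d) ⊗ₜ[K] 1))).trans ?_
    rw [show Algebra.TensorProduct.map (AlgHom.id K W₀) L.1.val (φL (((1 : K) ⊗ₜ[P] d) ⊗ₜ[K] 1)) =
      φD ((1 : K) ⊗ₜ d) from by
        refine (AlgHom.congr_fun hφL _).trans ?_
        rw [Algebra.TensorProduct.lift_tmul, map_one, mul_one]]
    show e ((Algebra.TensorProduct.comm K S W₀).symm (Algebra.TensorProduct.comm K S W₀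
      (e.symm (α (Algebra.TensorProduct.map (Algebra.ofId K S) (AlgHom.id P D₀) ((1 : K) ⊗ₜ d)))))) = _
    rw [AlgEquiv.symm_apply_apply, AlgEquiv.apply_symm_apply, Algebra.TensorProduct.map_tmul, map_one]
    rfl
  · rw [Algebra.TensorProduct.lift_tmul, map_one, one_mul]
    refine (hz (φL ((1 : K ⊗[P] D₀) ⊗ₜ[K] ((1 : K) ⊗ₜ[P] d)))).trans ?_
    rw [show Algebra.TensorProduct.map (AlgHom.id K W₀) L.1.val (φL ((1 : K ⊗[P] D₀) ⊗ₜ[K] ((1 : K) ⊗ₜ[P] d))) =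
      φE ((1 : K) ⊗ₜ d) from by
        refine (AlgHom.congr_fun hφL _).trans ?_
        rw [Algebra.TensorProduct.lift_tmul, map_one, one_mul]]
    show e ((Algebra.TensorProduct.comm K S W₀).symm (Algebra.TensorProduct.comm K S W₀
      (e.symm (β (Algebra.TensorProduct.map (Algebra.ofId K S) (AlgHom.id P E₀) ((1 : K) ⊗ₜ d)))))) = _
    rw [AlgEquiv.symm_apply_apply, AlgEquiv.apply_symm_apply, Algebra.TensorProduct.map_tmul, map_one]
    rfl

/-- An algebra etale over two base changes descends with both structures. -/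
theorem exists_descended_pair {P S D₀ E₀ W : Type u} [CommRing P] [CommRing S] [Algebra P S] [CommRing D₀]
    [Algebra P D₀] [Algebra.FinitePresentation P D₀] [CommRing E₀] [Algebra P E₀] [Algebra.FinitePresentation P E₀]
    [CommRing W] [Algebra S W] [Algebra.FinitePresentation S W]
    (α : S ⊗[P] D₀ →ₐ[S] W) (β : S ⊗[P] E₀ →ₐ[S] W) (hα : α.toRingHom.Etale) (hβ : β.toRingHom.Etale) :
    ∃ (L : Type u) (_ : CommRing L) (_ : Algebra P L) (_ : Algebra.FiniteType P L) (gL : L →ₐ[P] S)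
      (WL : Type u) (_ : CommRing WL) (αL : L ⊗[P] D₀ →+* WL) (βL : L ⊗[P] E₀ →+* WL) (γ : WL →+* W),
      αL.Etale ∧ βL.Etale ∧ (∀ l : L, αL (l ⊗ₜ 1) = βL (l ⊗ₜ 1)) ∧
      (∀ l d, γ (αL (l ⊗ₜ d)) = α (gL l ⊗ₜ d)) ∧ ∀ l d, γ (βL (l ⊗ₜ d)) = β (gL l ⊗ₜ d) := by
  obtain ⟨K₀, W₀, _, _, hK₀, hW₀, ⟨e⟩⟩ := exists_fg_model P S W
  haveI := hW₀
  haveI : Algebra.FiniteType P K₀ := (Subalgebra.fg_iff_finiteType K₀).mp hK₀
  exact exists_pair_of_model (K := ↥K₀) e α β hα hβ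

end Groth.L14.Popescu.Descend
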