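import Groth.Agent.L14.Popescu.OverComplete
import Groth.Agent.L14.Popescu.DescendPair
import Groth.Agent.S0598

/-!
Etale neighbourhoods matching a completed base change.
-/

set_option autoImplicit false
set_option linter.style.haveILetI false

noncomputable section

open IsLocalRing TensorProduct

namespace Groth.L14.Popescu

universe u

/-- Every element of a local ring of the base change is congruent to one of the original local ring. -/
theorem exists_sub_mem_pow_of_generators {O A₂ E : Type u} [CommRing O] [IsLocalRing O] [CommRing A₂] [IsLocalRing A₂]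
    [CommRing E] [Algebra E A₂] (p : Ideal E) [p.IsPrime] [IsLocalization.AtPrime A₂ p] (l : O →+* A₂) [IsLocalHom l]
    (k : ℕ) (hE : ∀ e : E, ∃ o : O, algebraMap E A₂ e - l o ∈ maximalIdeal A₂ ^ k) :
    ∀ a : A₂, ∃ o : O, a - l o ∈ maximalIdeal A₂ ^ k := by
  intro a
  obtain ⟨e, s, rfl⟩ := IsLocalization.exists_mk'_eq p.primeCompl a
  obtain ⟨o, ho⟩ := hE e
  obtain ⟨o', ho'⟩ := hE s
  rcases Nat.eq_zero_or_pos k with rfl | hk
  · exact ⟨0, by rw [pow_zero, Ideal.one_eq_top]; trivial⟩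
  have hu : IsUnit o' := by
    refine (isUnit_map_iff l o').mp ?_
    have hs := IsLocalization.map_units A₂ s
    by_contra h
    have h1 : l o' ∈ maximalIdeal A₂ := h
    have h2 := Ideal.add_mem _ (Ideal.pow_le_self (by omega) ho') h1
    rw [sub_add_cancel] at h2
    exact h2 hs
  obtain ⟨v, hv⟩ := hu.exists_right_inv
  refine ⟨o * v, ?_⟩
  have hlv : l o' * l v = 1 := by rw [← map_mul, hv, map_one]
  obtain ⟨w, hw⟩ := (IsLocalization.map_units A₂ s).exists_left_inv
  have key : IsLocalization.mk' A₂ e s - l (o * v) = w * ((algebraMap E A₂ e - l o) - (algebraMap E A₂ s - l o') * (l o * l v)) := by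
    have hspec := IsLocalization.mk'_spec A₂ e s
    rw [map_mul]
    linear_combination (-(IsLocalization.mk' A₂ e s) + l o * l v) * hw + w * hspec - w * l o * hlv
  rw [key]
  exact Ideal.mul_mem_left _ _ (Ideal.sub_mem _ ho (Ideal.mul_mem_right _ _ ho'))

/-- Congruences to elements in the image are closed under sums and products. -/
theorem congr_add_mul {O A₂ : Type u} [CommRing O] [CommRing A₂] (l : O →+* A₂) (J : Ideal A₂) {u v : A₂}
    (hu : ∃ o, u - l o ∈ J) (hv : ∃ o, v - l o ∈ J) : (∃ o, u + v - l o ∈ J) ∧ ∃ o, u * v - l o ∈ J := by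
  obtain ⟨o, ho⟩ := hu
  obtain ⟨o', ho'⟩ := hv
  refine ⟨⟨o + o', ?_⟩, ⟨o * o', ?_⟩⟩
  · rw [map_add, add_sub_add_comm]
    exact J.add_mem ho ho'
  · rw [map_mul, show u * v - l o * l o' = (u - l o) * v + l o * (v - l o') by ring]
    exact J.add_mem (J.mul_mem_right _ ho) (J.mul_mem_left _ ho')

/-- The localisation of a generated algebra has the same truncations as the completion it maps to. -/
theorem exists_truncations {O B C R E A₂ : Type u} [CommRing O] [IsLocalRing O] [IsNoetherianRing O] [CommRing B]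
    [IsLocalRing B] [IsNoetherianRing B] [CommRing C] (x : Ideal C) [x.IsPrime] [Algebra C O]
    [IsLocalization.AtPrime O x] [CommRing R] (I : Ideal R) [CommRing E] [Algebra R E]
    (θ : E →+* AdicCompletion (maximalIdeal B) B) (p : Ideal E) [p.IsPrime]
    (hp : p = (maximalIdeal (AdicCompletion (maximalIdeal B) B)).comap θ) [CommRing A₂] [IsLocalRing A₂] [Algebra E A₂]
    [IsLocalization.AtPrime A₂ p]
    (φ : AdicCompletion (maximalIdeal O) O ≃+* AdicCompletion (maximalIdeal B) B) (inc : C →+* E)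
    (hinc : ∀ c, θ (inc c) = φ (algebraMap C (AdicCompletion (maximalIdeal O) O) c))
    (hgen : ∀ e, e ∈ Subring.closure (Set.range (algebraMap R E) ∪ Set.range inc))
    (hI : ∀ r ∈ I, θ (algebraMap R E r) ∈ maximalIdeal (AdicCompletion (maximalIdeal B) B))
    (hR : ∀ (k : ℕ) (r : R), ∃ c t : C, t ∉ x ∧
      algebraMap R E r * inc t - inc c ∈ (I ^ k).map (algebraMap R E)) :
    ∃ θ₂ : A₂ →+* AdicCompletion (maximalIdeal B) B, (∀ e, θ₂ (algebraMap E A₂ e) = θ e) ∧
      (∀ (k : ℕ) (c : B), ∃ a : A₂, AdicCompletion.evalₐ (maximalIdeal B) k (θ₂ a) = Ideal.Quotient.mk _ c) ∧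
      ∀ (k : ℕ) (a : A₂), AdicCompletion.evalₐ (maximalIdeal B) k (θ₂ a) = 0 ↔ a ∈ maximalIdeal A₂ ^ k := by
  subst hp
  let p : Ideal E := (maximalIdeal (AdicCompletion (maximalIdeal B) B)).comap θ
  have hfO : (maximalIdeal O).FG := IsNoetherian.noetherian _
  have hfB : (maximalIdeal B).FG := IsNoetherian.noetherian _
  have hpu : ∀ w : p.primeCompl, IsUnit (θ w) := fun w => by
    by_contra h
    exact w.2 h
  let θ₂ : A₂ →+* AdicCompletion (maximalIdeal B) B := IsLocalization.lift (M := p.primeCompl) hpu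
  have hθ₂ : ∀ e, θ₂ (algebraMap E A₂ e) = θ e := fun e => IsLocalization.lift_eq _ e
  have hxu : ∀ c : x.primeCompl, IsUnit (((algebraMap E A₂).comp inc) c) := fun c => by
    refine IsLocalization.map_units A₂ (⟨inc c, fun h => ?_⟩ : p.primeCompl)
    have h1 : θ (inc c) ∈ maximalIdeal (AdicCompletion (maximalIdeal B) B) := h
    rw [hinc, IsScalarTower.algebraMap_apply C O (AdicCompletion (maximalIdeal O) O)] at h1
    exact h1 (((IsLocalization.map_units O c).map (algebraMap O _)).map φ.toRingHom)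
  let lam : O →+* A₂ := IsLocalization.lift (M := x.primeCompl) hxu
  have hlam : ∀ c, lam (algebraMap C O c) = algebraMap E A₂ (inc c) := fun c => IsLocalization.lift_eq _ c
  have hθlam : ∀ o, θ₂ (lam o) = φ (algebraMap O (AdicCompletion (maximalIdeal O) O) o) := fun o => by
    refine RingHom.congr_fun (IsLocalization.ringHom_ext x.primeCompl (RingHom.ext fun c => ?_) :
      θ₂.comp lam = φ.toRingHom.comp (algebraMap O (AdicCompletion (maximalIdeal O) O))) o
    show θ₂ (lam (algebraMap C O c)) = φ (algebraMap O _ (algebraMap C O c))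
    rw [hlam, hθ₂, hinc, ← IsScalarTower.algebraMap_apply]
  haveI : IsLocalHom θ₂ := ⟨fun z hz => by
    obtain ⟨w, t, rfl⟩ := IsLocalization.exists_mk'_eq p.primeCompl z
    rw [IsLocalization.AtPrime.isUnit_mk'_iff A₂ p]
    intro hw
    have h1 := congrArg θ₂ (IsLocalization.mk'_spec A₂ w t)
    rw [map_mul, hθ₂, hθ₂] at h1
    have h2 : θ w ∈ maximalIdeal (AdicCompletion (maximalIdeal B) B) := hw
    exact h2 (h1 ▸ hz.mul (hpu t))⟩
  haveI : IsLocalHom lam := ⟨fun o ho => by
    have h := ho.map θ₂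
    rw [hθlam, isUnit_map_iff, isUnit_map_iff] at h
    exact h⟩
  have hθ₂m : ∀ (k : ℕ) (a : A₂), a ∈ maximalIdeal A₂ ^ k →
      AdicCompletion.evalₐ (maximalIdeal B) k (θ₂ a) = 0 := fun k a ha => by
    rw [evalₐ_eq_zero_iff hfB, Ideal.map_pow, ← AdicCompletion.maximalIdeal_eq_map]
    have hle : (maximalIdeal A₂).map θ₂ ≤ maximalIdeal (AdicCompletion (maximalIdeal B) B) :=
      Ideal.map_le_iff_le_comap.mpr fun z hz hu => hz (isUnit_of_map_unit θ₂ z hu)
    have := Ideal.mem_map_of_mem θ₂ ha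
    rw [Ideal.map_pow] at this
    exact Ideal.pow_right_mono hle k this
  have hφm : ∀ (k : ℕ) (z : AdicCompletion (maximalIdeal O) O),
      AdicCompletion.evalₐ (maximalIdeal B) k (φ z) = 0 ↔ AdicCompletion.evalₐ (maximalIdeal O) k z = 0 := fun k z => by
    rw [evalₐ_eq_zero_iff hfO, evalₐ_eq_zero_iff hfB, Ideal.map_pow, Ideal.map_pow,
      ← AdicCompletion.maximalIdeal_eq_map, ← AdicCompletion.maximalIdeal_eq_map,
      ← IsLocalRing.eq_maximalIdeal (Ideal.map_isMaximal_of_equiv φ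
        (p := maximalIdeal (AdicCompletion (maximalIdeal O) O))), ← Ideal.map_pow, Ideal.mem_map_of_equiv]
    constructor
    · rintro ⟨w, hw, hwz⟩
      rwa [← φ.injective hwz]
    · exact fun hz => ⟨z, hz, rfl⟩
  have happ : ∀ (k : ℕ) (a : A₂), ∃ o, a - lam o ∈ maximalIdeal A₂ ^ k := fun k => by
    refine exists_sub_mem_pow_of_generators p lam k fun e => ?_
    refine Subring.closure_induction (p := fun e _ => ∃ o, algebraMap E A₂ e - lam o ∈ maximalIdeal A₂ ^ k)
      (fun z hz => ?_) ⟨0, by simp⟩ ⟨1, by simp⟩ (fun u v _ _ hu hv => ?_) (fun u _ hu => ?_)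
      (fun u v _ _ hu hv => ?_) (hgen e)
    · rcases hz with ⟨r, rfl⟩ | ⟨c, rfl⟩
      · obtain ⟨c, t, ht, hz⟩ := hR k r
        have hI2 : (I.map ((algebraMap E A₂).comp (algebraMap R E))) ≤ maximalIdeal A₂ :=
          Ideal.map_le_iff_le_comap.mpr fun z hz hu => by
            have h1 := hu.map θ₂
            rw [RingHom.comp_apply, hθ₂] at h1
            exact hI z hz h1
        have h2 := Ideal.mem_map_of_mem (algebraMap E A₂) hz
        rw [Ideal.map_map, Ideal.map_pow] at h2
        replace h2 := Ideal.pow_right_mono hI2 k h2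
        rw [map_sub, map_mul, ← hlam, ← hlam] at h2
        obtain ⟨v, hv⟩ := (IsLocalization.map_units O (⟨t, ht⟩ : x.primeCompl)).exists_right_inv
        refine ⟨algebraMap C O c * v, ?_⟩
        have h3 := Ideal.mul_mem_right (lam v) _ h2
        have hlv : lam (algebraMap C O t) * lam v = 1 := by rw [← map_mul, hv, map_one]
        rwa [sub_mul, mul_assoc, hlv, mul_one, ← map_mul] at h3
      · exact ⟨algebraMap C O c, by rw [hlam, sub_self]; exact zero_mem _⟩
    · rw [map_add]; exact (congr_add_mul lam _ hu hv).1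
    · obtain ⟨o, ho⟩ := hu
      refine ⟨-o, ?_⟩
      rw [map_neg, map_neg, ← neg_sub']
      exact neg_mem ho
    · rw [map_mul]; exact (congr_add_mul lam _ hu hv).2
  refine ⟨θ₂, hθ₂, fun k c => ?_, fun k a => ⟨fun h => ?_, hθ₂m k a⟩⟩
  · obtain ⟨zh, hz⟩ := φ.surjective (algebraMap B (AdicCompletion (maximalIdeal B) B) c)
    obtain ⟨o, ho⟩ := Ideal.Quotient.mk_surjective (AdicCompletion.evalₐ (maximalIdeal O) k zh)
    refine ⟨lam o, ?_⟩
    have h0 : AdicCompletion.evalₐ (maximalIdeal O) k (algebraMap O _ o - zh) = 0 := by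
      rw [map_sub, AlgHom.commutes, Ideal.Quotient.algebraMap_eq, ho, sub_self]
    have h1 := (hφm k _).mpr h0
    rw [map_sub, map_sub, sub_eq_zero, hz, AlgHom.commutes, Ideal.Quotient.algebraMap_eq, ← hθlam] at h1
    exact h1
  · obtain ⟨o, ho⟩ := happ k a
    have h1 := hθ₂m k _ ho
    rw [map_sub, map_sub, h, zero_sub, neg_eq_zero, hθlam, hφm, AlgHom.commutes, Ideal.Quotient.algebraMap_eq,
      Ideal.Quotient.eq_zero_iff_mem] at h1
    have hlm : (maximalIdeal O).map lam ≤ maximalIdeal A₂ :=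
      Ideal.map_le_iff_le_comap.mpr fun z hz hu => hz (isUnit_of_map_unit lam z hu)
    have h2 := Ideal.mem_map_of_mem lam h1
    rw [Ideal.map_pow] at h2
    have := Ideal.add_mem _ ho (Ideal.pow_right_mono hlm k h2)
    rwa [sub_add_cancel] at this

set_option maxHeartbeats 2000000 in
set_option backward.isDefEq.respectTransparency false in
/-- The algebraic form of the matching of completed base changes by etale neighbourhoods. -/
theorem exists_algebraic_nbhds {A C P D₀ Os Ox : Type u} [CommRing A] [IsNoetherianRing A] (s : Ideal A) [s.IsPrime]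
    [CommRing Os] [IsLocalRing Os] [Algebra A Os] [IsLocalization.AtPrime Os s] (hG : CAlg.IsGRing Os)
    [CommRing C] [Algebra A C] [Algebra.FiniteType A C] (x : Ideal C) [x.IsPrime]
    [CommRing Ox] [IsLocalRing Ox] [Algebra C Ox] [IsLocalization.AtPrime Ox x] (hxs : x.comap (algebraMap A C) = s)
    [CommRing P] [Algebra A P] [Algebra.FiniteType A P] [CommRing D₀] [Algebra P D₀] [Algebra.FiniteType P D₀]
    [Algebra P (AdicCompletion (maximalIdeal Os) Os)] [IsScalarTower A P (AdicCompletion (maximalIdeal Os) Os)]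
    (q : Ideal (AdicCompletion (maximalIdeal Os) Os ⊗[P] D₀)) [q.IsPrime]
    (hq : ∀ r ∈ (maximalIdeal Os).map (algebraMap Os (AdicCompletion (maximalIdeal Os) Os)), r ⊗ₜ 1 ∈ q)
    (φ : AdicCompletion (maximalIdeal Ox) Ox ≃+*
      AdicCompletion (maximalIdeal (Localization.AtPrime q)) (Localization.AtPrime q))
    (hφ : ∀ a : A, φ (algebraMap C (AdicCompletion (maximalIdeal Ox) Ox) (algebraMap A C a)) =
      algebraMap (AdicCompletion (maximalIdeal Os) Os)
        (AdicCompletion (maximalIdeal (Localization.AtPrime q)) (Localization.AtPrime q))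
        (algebraMap A (AdicCompletion (maximalIdeal Os) Os) a)) :
    ∃ (RV : Type u) (_ : CommRing RV) (_ : Algebra A RV) (_ : Algebra P RV) (_ : IsScalarTower A P RV)
      (ψ : RV →ₐ[A] AdicCompletion (maximalIdeal Os) Os) (W : Type u) (_ : CommRing W)
      (α : RV ⊗[P] D₀ →+* W) (β : C →+* W)
      (χ : W →+* Localization.AtPrime q ⧸ maximalIdeal (Localization.AtPrime q) ^ 1),
      Algebra.Etale A RV ∧ α.Etale ∧ β.Etale ∧
      (∀ a : A, α (algebraMap A RV a ⊗ₜ 1) = β (algebraMap A C a)) ∧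
      (∀ p : P, AdicCompletion.evalₐ (maximalIdeal Os) 1 (ψ (algebraMap P RV p)) =
        AdicCompletion.evalₐ (maximalIdeal Os) 1 (algebraMap P (AdicCompletion (maximalIdeal Os) Os) p)) ∧
      (∀ c, χ (β c) = AdicCompletion.evalₐ (maximalIdeal (Localization.AtPrime q)) 1
        (φ (algebraMap C (AdicCompletion (maximalIdeal Ox) Ox) c))) ∧
      (∀ r d, χ (α (r ⊗ₜ d)) = Ideal.Quotient.mk _
        (algebraMap (AdicCompletion (maximalIdeal Os) Os ⊗[P] D₀) (Localization.AtPrime q) (ψ r ⊗ₜ d))) ∧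
      ∀ c, ∃ z z', χ (α z') ≠ 0 ∧ c * χ (α z') = χ (α z) := by
  classical
  haveI : IsNoetherianRing P := Algebra.FiniteType.isNoetherianRing A P
  haveI : Algebra.FinitePresentation P D₀ := Algebra.FinitePresentation.of_finiteType.mp inferInstance
  haveI : Algebra.FinitePresentation A P := Algebra.FinitePresentation.of_finiteType.mp inferInstance
  haveI : Algebra.FinitePresentation A C := Algebra.FinitePresentation.of_finiteType.mp inferInstance
  haveI : IsNoetherianRing Os := hG.1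
  let Sh := AdicCompletion (maximalIdeal Os) Os
  haveI : IsNoetherianRing Sh :=
    Groth.L01.AdicNoeth.isNoetherianRing_adicCompletion (maximalIdeal Os) (IsNoetherian.noetherian _)
  haveI : IsNoetherianRing C := Algebra.FiniteType.isNoetherianRing A C
  haveI : IsNoetherianRing Ox := IsLocalization.isNoetherianRing x.primeCompl Ox inferInstance
  let D := Sh ⊗[P] D₀
  haveI : IsNoetherianRing D := Algebra.FiniteType.isNoetherianRing Sh D
  let A₁ := Localization.AtPrime q
  haveI : IsNoetherianRing A₁ := IsLocalization.isNoetherianRing q.primeCompl A₁ inferInstance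
  let Q := AdicCompletion (maximalIdeal A₁) A₁
  have hfS : (maximalIdeal Os).FG := IsNoetherian.noetherian _
  have hfx : (maximalIdeal Ox).FG := IsNoetherian.noetherian _
  have hf₁ : (maximalIdeal A₁).FG := IsNoetherian.noetherian _
  have hSQ : ∀ r ∈ maximalIdeal Sh, algebraMap Sh Q r ∈ maximalIdeal Q := fun r hr => by
    rw [AdicCompletion.maximalIdeal_eq_map] at hr ⊢
    rw [IsScalarTower.algebraMap_apply Sh A₁ Q]
    refine Ideal.mem_map_of_mem _ ?_
    rw [IsScalarTower.algebraMap_apply Sh D A₁, IsLocalization.AtPrime.to_map_mem_maximal_iff A₁ q]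
    exact hq r hr
  let jx : C →+* Q := φ.toRingHom.comp (algebraMap C (AdicCompletion (maximalIdeal Ox) Ox))
  let jA : C →ₐ[A] Q := { jx with commutes' := fun a => (hφ a).trans (IsScalarTower.algebraMap_apply A Sh Q a).symm }
  let θ₀ : P ⊗[A] C →ₐ[P] Q := Algebra.TensorProduct.lift (Algebra.ofId P Q) jA fun _ _ => Commute.all _ _
  let θ : Sh ⊗[P] (P ⊗[A] C) →ₐ[Sh] Q := Algebra.TensorProduct.lift (Algebra.ofId Sh Q) θ₀ fun _ _ => Commute.all _ _
  let E := Sh ⊗[P] (P ⊗[A] C)
  let inc : C →ₐ[A] E := ((Algebra.TensorProduct.includeRight : P ⊗[A] C →ₐ[P] E).restrictScalars A).comp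
    Algebra.TensorProduct.includeRight
  have hθinc : ∀ c, θ (inc c) = jx c := fun c => by
    show θ ((1 : Sh) ⊗ₜ ((1 : P) ⊗ₜ c)) = _
    rw [Algebra.TensorProduct.lift_tmul, map_one, one_mul, Algebra.TensorProduct.lift_tmul, map_one, one_mul]
    rfl
  let p : Ideal E := (maximalIdeal Q).comap θ
  haveI : p.IsPrime := Ideal.IsPrime.comap _
  have hgen : ∀ e : E, e ∈ Subring.closure (Set.range (algebraMap Sh E) ∪ Set.range inc.toRingHom) := fun e => by
    induction e using TensorProduct.induction_on with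
    | zero => exact zero_mem _
    | add u v hu hv => exact add_mem hu hv
    | tmul r w =>
      induction w using TensorProduct.induction_on with
      | zero => rw [TensorProduct.tmul_zero]; exact zero_mem _
      | add u v hu hv => rw [TensorProduct.tmul_add]; exact add_mem hu hv
      | tmul b c =>
        rw [show r ⊗ₜ[P] (b ⊗ₜ[A] c) = algebraMap Sh E (r * algebraMap P Sh b) * inc c from by
          show r ⊗ₜ[P] (b ⊗ₜ[A] c) = ((r * algebraMap P Sh b) ⊗ₜ[P] (1 : P ⊗[A] C)) * ((1 : Sh) ⊗ₜ ((1 : P) ⊗ₜ c))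
          rw [Algebra.TensorProduct.tmul_mul_tmul, one_mul, mul_one, mul_comm, ← Algebra.smul_def, TensorProduct.smul_tmul,
            TensorProduct.smul_tmul', smul_eq_mul, mul_one]]
        exact mul_mem (Subring.subset_closure (Or.inl ⟨_, rfl⟩)) (Subring.subset_closure (Or.inr ⟨c, rfl⟩))
  have hI : ∀ r ∈ maximalIdeal Sh, θ.toRingHom (algebraMap Sh E r) ∈ maximalIdeal Q := fun r hr => by
    show θ (algebraMap Sh E r) ∈ _
    rw [θ.commutes]
    exact hSQ r hr
  have hR : ∀ (k : ℕ) (r : Sh), ∃ c t : C, t ∉ x ∧ algebraMap Sh E r * inc.toRingHom t - inc.toRingHom c ∈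
      (maximalIdeal Sh ^ k).map (algebraMap Sh E) := fun k r => by
    obtain ⟨os, hos⟩ := Ideal.Quotient.mk_surjective (AdicCompletion.evalₐ (maximalIdeal Os) k r)
    obtain ⟨⟨a, n⟩, han⟩ := IsLocalization.surj s.primeCompl os
    refine ⟨algebraMap A C a, algebraMap A C n, fun h => n.2 (hxs ▸ h), ?_⟩
    show algebraMap Sh E r * inc (algebraMap A C n) - inc (algebraMap A C a) ∈ _
    rw [inc.commutes, inc.commutes, IsScalarTower.algebraMap_apply A Sh E, IsScalarTower.algebraMap_apply A Sh E,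
      ← map_mul, ← map_sub]
    refine Ideal.mem_map_of_mem _ ?_
    have h := (evalₐ_eq_zero_iff hfS k (r * algebraMap A Sh n - algebraMap A Sh a)).mp (by
      rw [map_sub, map_mul, IsScalarTower.algebraMap_apply A Os Sh, IsScalarTower.algebraMap_apply A Os Sh,
        AlgHom.commutes, AlgHom.commutes, ← hos, Ideal.Quotient.algebraMap_eq, ← map_mul, han, sub_self])
    rw [Ideal.map_pow, ← AdicCompletion.maximalIdeal_eq_map] at h
    exact h
  obtain ⟨θ₂, hθ₂, hden, hker⟩ := exists_truncations (A₂ := Localization.AtPrime p) x (maximalIdeal Sh)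
    θ.toRingHom p rfl φ inc.toRingHom hθinc hgen hI hR
  obtain ⟨W'', iW, iSW, αS, βS, χS, hαE, hβE, hχα, hχβ⟩ :=
    exists_common_etale (Groth.Agent.S0598.result Sh) q p θ.toRingHom (fun r => θ.commutes r) θ₂ hθ₂ hden hker
  haveI : Algebra.FinitePresentation Sh W'' := by
    letI : Algebra D W'' := αS.toRingHom.toAlgebra
    haveI : IsScalarTower Sh D W'' := IsScalarTower.of_algebraMap_eq fun r => (αS.commutes r).symm
    haveI : Algebra.Etale D W'' := RingHom.etale_algebraMap.mp hαE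
    exact Algebra.FinitePresentation.trans Sh D W''
  obtain ⟨L, iL, iPL, hL, gL, WL, iWL, αL, βL, γ, hαL, hβL, hLcompat, hγα, hγβ⟩ :=
    Descend.exists_descended_pair αS βS hαE hβE
  letI : Algebra A L := ((algebraMap P L).comp (algebraMap A P)).toAlgebra
  haveI : IsScalarTower A P L := IsScalarTower.of_algebraMap_eq' rfl
  haveI : Algebra.FiniteType A L := Algebra.FiniteType.trans (inferInstance : Algebra.FiniteType A P) hL
  haveI : Algebra.FinitePresentation A L := Algebra.FinitePresentation.of_finiteType.mp inferInstance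
  obtain ⟨RV, iRV, iARV, hRV, ψ, ω, hψ⟩ := exists_etale_approx_of_isLocalization s.primeCompl (maximalIdeal Os)
    (isRegularHom_completion_of_isLocalization s hG) (gL.restrictScalars A) 1
  letI : Algebra P RV := (ω.toRingHom.comp (algebraMap P L)).toAlgebra
  haveI : IsScalarTower A P RV := IsScalarTower.of_algebraMap_eq fun a => (ω.commutes a).symm
  letI : Algebra L RV := ω.toRingHom.toAlgebra
  haveI : IsScalarTower P L RV := IsScalarTower.of_algebraMap_eq' rfl
  letI : Algebra L WL := (αL.comp Algebra.TensorProduct.includeLeftRingHom).toAlgebra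
  letI : Algebra (L ⊗[P] D₀) WL := αL.toAlgebra
  haveI : IsScalarTower L (L ⊗[P] D₀) WL := IsScalarTower.of_algebraMap_eq fun _ => rfl
  haveI : Algebra.Etale (L ⊗[P] D₀) WL := RingHom.etale_algebraMap.mp hαL
  letI : Algebra (L ⊗[P] (P ⊗[A] C)) WL := βL.toAlgebra
  haveI : IsScalarTower L (L ⊗[P] (P ⊗[A] C)) WL := IsScalarTower.of_algebraMap_eq fun l => hLcompat l
  haveI : Algebra.Etale (L ⊗[P] (P ⊗[A] C)) WL := RingHom.etale_algebraMap.mp hβL
  let α : RV ⊗[P] D₀ →+* RV ⊗[L] WL := (Descend.bc RV L (L ⊗[P] D₀) WL).comp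
    (Algebra.TensorProduct.cancelBaseChange P L RV RV D₀).symm.toRingEquiv.toRingHom
  let eC : RV ⊗[L] (L ⊗[P] (P ⊗[A] C)) ≃ₐ[RV] RV ⊗[A] C :=
    (Algebra.TensorProduct.cancelBaseChange P L RV RV (P ⊗[A] C)).trans
      (Algebra.TensorProduct.cancelBaseChange A P RV RV C)
  let iC : C →+* RV ⊗[A] C := (Algebra.TensorProduct.includeRight : C →ₐ[A] RV ⊗[A] C).toRingHom
  let β : C →+* RV ⊗[L] WL := ((Descend.bc RV L (L ⊗[P] (P ⊗[A] C)) WL).comp eC.symm.toRingEquiv.toRingHom).comp iC
  have hiC : iC.Etale := by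
    haveI := hRV
    have h1 : iC = (Algebra.TensorProduct.comm A C RV).toRingEquiv.toRingHom.comp (algebraMap C (C ⊗[A] RV)) :=
      RingHom.ext fun c => rfl
    rw [h1]
    exact RingHom.Etale.respectsIso.1 _ _ (RingHom.etale_algebraMap.mpr inferInstance)
  have hαE' : α.Etale := RingHom.Etale.respectsIso.2 _ _ Descend.etale_bc
  have hβE' : β.Etale := RingHom.Etale.stableUnderComposition _ _ hiC
    (RingHom.Etale.respectsIso.2 _ _ Descend.etale_bc)
  have heC : ∀ (r : RV) (c : C), eC.symm (r ⊗ₜ c) = r ⊗ₜ ((1 : L) ⊗ₜ ((1 : P) ⊗ₜ c)) := fun r c => by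
    rw [AlgEquiv.symm_apply_eq]
    show r ⊗ₜ[A] c = Algebra.TensorProduct.cancelBaseChange A P RV RV C
      (Algebra.TensorProduct.cancelBaseChange P L RV RV (P ⊗[A] C) (r ⊗ₜ ((1 : L) ⊗ₜ ((1 : P) ⊗ₜ c))))
    rw [Algebra.TensorProduct.cancelBaseChange_tmul, one_smul, Algebra.TensorProduct.cancelBaseChange_tmul, one_smul]
  let ι : RV →+* A₁ ⧸ maximalIdeal A₁ ^ 1 :=
    (AdicCompletion.evalₐ (maximalIdeal A₁) 1).toRingHom.comp ((algebraMap Sh Q).comp ψ.toRingHom)
  have hev : ∀ r : Sh, AdicCompletion.evalₐ (maximalIdeal A₁) 1 (algebraMap Sh Q r) =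
      Ideal.Quotient.mk _ (algebraMap D A₁ (r ⊗ₜ 1)) := fun r => by
    rw [IsScalarTower.algebraMap_apply Sh A₁ Q, AlgHom.commutes, Ideal.Quotient.algebraMap_eq,
      IsScalarTower.algebraMap_apply Sh D A₁]
    rfl
  have hγL : ∀ l : L, χS (γ (αL (l ⊗ₜ 1))) = AdicCompletion.evalₐ (maximalIdeal A₁) 1 (algebraMap Sh Q (gL l)) :=
    fun l => by rw [hγα, hχα, hev]
  have hιω : ∀ l : L, ι (ω l) = AdicCompletion.evalₐ (maximalIdeal A₁) 1 (algebraMap Sh Q (gL l)) := fun l => by
    show AdicCompletion.evalₐ (maximalIdeal A₁) 1 (algebraMap Sh Q (ψ (ω l))) = _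
    rw [← sub_eq_zero, ← map_sub, ← map_sub, evalₐ_eq_zero_iff hf₁, pow_one, ← AdicCompletion.maximalIdeal_eq_map]
    refine hSQ _ ?_
    have h := (evalₐ_eq_zero_iff hfS 1 (ψ (ω l) - gL l)).mp (by rw [map_sub, sub_eq_zero]; exact hψ l)
    rw [pow_one, ← AdicCompletion.maximalIdeal_eq_map] at h
    exact h
  letI : Algebra L (A₁ ⧸ maximalIdeal A₁ ^ 1) :=
    RingHom.toAlgebra (R := L) (S := A₁ ⧸ maximalIdeal A₁ ^ 1) (ι.comp ω.toRingHom)
  let χ : RV ⊗[L] WL →+* A₁ ⧸ maximalIdeal A₁ ^ 1 :=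
    (Algebra.TensorProduct.lift ({ ι with commutes' := fun l => rfl } : RV →ₐ[L] A₁ ⧸ maximalIdeal A₁ ^ 1)
      ({ χS.comp γ with commutes' := fun l => (hγL l).trans (hιω l).symm } : WL →ₐ[L] A₁ ⧸ maximalIdeal A₁ ^ 1)
      (by intro _ _; exact @Commute.all (A₁ ⧸ maximalIdeal A₁ ^ 1) inferInstance _ _)).toRingHom
  have hχ : ∀ r w, χ (r ⊗ₜ w) = ι r * χS (γ w) := fun r w => Algebra.TensorProduct.lift_tmul _ _ _ _ _
  have hχα' : ∀ r d, χ (α (r ⊗ₜ d)) = Ideal.Quotient.mk _ (algebraMap D A₁ (ψ r ⊗ₜ d)) := fun r d => by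
    show χ (Descend.bc RV L (L ⊗[P] D₀) WL ((Algebra.TensorProduct.cancelBaseChange P L RV RV D₀).symm (r ⊗ₜ d))) = _
    rw [Algebra.TensorProduct.cancelBaseChange_symm_tmul]
    show χ (r ⊗ₜ αL ((1 : L) ⊗ₜ d)) = _
    rw [hχ, hγα, hχα, map_one]
    show AdicCompletion.evalₐ (maximalIdeal A₁) 1 (algebraMap Sh Q (ψ r)) * _ = _
    rw [hev, ← map_mul, ← map_mul, Algebra.TensorProduct.tmul_mul_tmul, mul_one, one_mul]
  refine ⟨RV, iRV, iARV, inferInstance, inferInstance, ψ, RV ⊗[L] WL, inferInstance, α, β, χ, hRV, hαE', hβE',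
    fun a => ?_, fun b => ?_, fun c => ?_, hχα', fun c => ?_⟩
  · show Descend.bc RV L (L ⊗[P] D₀) WL
      ((Algebra.TensorProduct.cancelBaseChange P L RV RV D₀).symm (algebraMap A RV a ⊗ₜ 1)) =
      Descend.bc RV L (L ⊗[P] (P ⊗[A] C)) WL (eC.symm ((1 : RV) ⊗ₜ algebraMap A C a))
    rw [Algebra.TensorProduct.cancelBaseChange_symm_tmul,
      show (1 : RV) ⊗ₜ[A] algebraMap A C a = algebraMap A RV a ⊗ₜ[A] (1 : C) from by
        rw [Algebra.algebraMap_eq_smul_one a, Algebra.algebraMap_eq_smul_one a, TensorProduct.smul_tmul], heC]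
    show algebraMap A RV a ⊗ₜ[L] αL ((1 : L) ⊗ₜ 1) = algebraMap A RV a ⊗ₜ[L] βL ((1 : L) ⊗ₜ ((1 : P) ⊗ₜ 1))
    rw [← Algebra.TensorProduct.one_def, ← Algebra.TensorProduct.one_def, ← Algebra.TensorProduct.one_def, map_one, map_one]
  · exact (hψ (algebraMap P L b)).trans (congrArg _ (gL.commutes b))
  · show χ (Descend.bc RV L (L ⊗[P] (P ⊗[A] C)) WL (eC.symm ((1 : RV) ⊗ₜ c))) = _
    rw [heC]
    show χ ((1 : RV) ⊗ₜ βL ((1 : L) ⊗ₜ ((1 : P) ⊗ₜ c))) = _
    rw [hχ, map_one, one_mul, hγβ, hχβ, map_one]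
    exact congrArg _ (hθinc c)
  · let K := A₁ ⧸ maximalIdeal A₁ ^ 1
    have hD : ∀ d : D, ∃ n : s.primeCompl, ∃ z,
        Ideal.Quotient.mk _ (algebraMap D A₁ d) * χ (α (algebraMap A RV n ⊗ₜ 1)) = χ (α z) := by
      intro d
      induction d using TensorProduct.induction_on with
      | zero => exact ⟨1, 0, by simp⟩
      | add u v hu hv =>
        obtain ⟨n, z, hz⟩ := hu
        obtain ⟨n', z', hz'⟩ := hv
        refine ⟨n * n', z * (algebraMap A RV n' ⊗ₜ 1) + z' * (algebraMap A RV n ⊗ₜ 1), ?_⟩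
        have hmul : (algebraMap A RV ((n * n' : s.primeCompl) : A)) ⊗ₜ[P] (1 : D₀) =
            (algebraMap A RV n ⊗ₜ 1) * (algebraMap A RV n' ⊗ₜ 1) := by
          rw [Algebra.TensorProduct.tmul_mul_tmul, one_mul, ← map_mul]; rfl
        rw [hmul]
        simp only [map_add, map_mul, ← hz, ← hz']
        ring
      | tmul r d =>
        obtain ⟨os, hos⟩ := Ideal.Quotient.mk_surjective (AdicCompletion.evalₐ (maximalIdeal Os) 1 r)
        obtain ⟨⟨a, n⟩, han⟩ := IsLocalization.surj s.primeCompl os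
        refine ⟨n, algebraMap A RV a ⊗ₜ d, ?_⟩
        rw [hχα', hχα', ← map_mul, ← map_mul, Algebra.TensorProduct.tmul_mul_tmul, mul_one, ψ.commutes, ψ.commutes,
          Ideal.Quotient.eq, ← map_sub, ← TensorProduct.sub_tmul, pow_one]
        have hr : r * algebraMap A Sh n - algebraMap A Sh a ∈ maximalIdeal Sh := by
          have h := (evalₐ_eq_zero_iff hfS 1 (r * algebraMap A Sh n - algebraMap A Sh a)).mp (by
            rw [map_sub, map_mul, IsScalarTower.algebraMap_apply A Os Sh, IsScalarTower.algebraMap_apply A Os Sh,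
              AlgHom.commutes, AlgHom.commutes, ← hos, Ideal.Quotient.algebraMap_eq, ← map_mul, han, sub_self])
          rw [pow_one, ← AdicCompletion.maximalIdeal_eq_map] at h
          exact h
        rw [IsLocalization.AtPrime.to_map_mem_maximal_iff A₁ q, show (r * algebraMap A Sh n - algebraMap A Sh a) ⊗ₜ[P] d =
          ((r * algebraMap A Sh n - algebraMap A Sh a) ⊗ₜ[P] (1 : D₀)) * ((1 : Sh) ⊗ₜ d) from by
            rw [Algebra.TensorProduct.tmul_mul_tmul, mul_one, one_mul]]
        exact q.mul_mem_right _ (hq _ (AdicCompletion.maximalIdeal_eq_map (R := Os) ▸ hr))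
    obtain ⟨c, rfl⟩ := Ideal.Quotient.mk_surjective c
    obtain ⟨d, t, rfl⟩ := IsLocalization.exists_mk'_eq q.primeCompl c
    obtain ⟨n, z, hz⟩ := hD d
    obtain ⟨n', z', hz'⟩ := hD t
    refine ⟨z * (algebraMap A RV n' ⊗ₜ 1), z' * (algebraMap A RV n ⊗ₜ 1), ?_, ?_⟩
    · have hun : ∀ m' : s.primeCompl, IsUnit (χ (α (algebraMap A RV m' ⊗ₜ 1))) := fun m' => by
        rw [hχα', ψ.commutes, ← hev, IsScalarTower.algebraMap_apply A Os Sh]
        exact ((((IsLocalization.map_units Os m').map (algebraMap Os Sh)).map (algebraMap Sh Q)).map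
          (AdicCompletion.evalₐ (maximalIdeal A₁) 1))
      haveI : Nontrivial K := Ideal.Quotient.nontrivial_iff.mpr (by
        rw [pow_one]; exact (maximalIdeal.isMaximal A₁).ne_top)
      rw [map_mul, map_mul, ← hz']
      exact ((((IsLocalization.map_units A₁ t).map (Ideal.Quotient.mk _)).mul (hun n')).mul (hun n)).ne_zero
    · have hspec := congrArg (Ideal.Quotient.mk (maximalIdeal A₁ ^ 1)) (IsLocalization.mk'_spec A₁ d t)
      rw [map_mul] at hspec
      rw [map_mul, map_mul, map_mul, map_mul]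
      linear_combination (χ (α (algebraMap A RV n' ⊗ₜ 1))) * hz -
        (Ideal.Quotient.mk (maximalIdeal A₁ ^ 1) (IsLocalization.mk' A₁ d t) * χ (α (algebraMap A RV n ⊗ₜ 1))) * hz' +
        (χ (α (algebraMap A RV n ⊗ₜ 1)) * χ (α (algebraMap A RV n' ⊗ₜ 1))) * hspec

end Groth.L14.Popescu
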