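import Groth.Agent.L03.SmoothStage
import Groth.Agent.L03.ColimTensor
import Mathlib.RingTheory.Extension.Presentation.Core
import Mathlib.RingTheory.RingHom.Etale
import Mathlib.RingTheory.Etale.Basic
import Mathlib.RingTheory.FinitePresentation

/-!
Descent of finitely presented algebras and etale maps along directed systems of rings.
-/

set_option autoImplicit false
set_option linter.style.haveILetI false

noncomputable section

open TensorProduct

namespace Groth.L14.Popescu.Descend

universe u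

/-- The map induced by an algebra after tensoring. -/
abbrev bc (S K D W : Type u) [CommRing S] [CommRing K] [Algebra K S] [CommRing D] [Algebra K D] [CommRing W]
    [Algebra K W] [Algebra D W] [IsScalarTower K D W] : S ⊗[K] D →+* S ⊗[K] W :=
  (Algebra.TensorProduct.map (AlgHom.id S S) (IsScalarTower.toAlgHom K D W)).toRingHom

theorem etale_bc_iff {S K D W : Type u} [CommRing S] [CommRing K] [Algebra K S] [CommRing D] [Algebra K D]
    [CommRing W] [Algebra K W] [Algebra D W] [IsScalarTower K D W] :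
    (bc S K D W).Etale ↔ Algebra.Etale (D ⊗[K] S) ((D ⊗[K] S) ⊗[D] W) := by
  rw [← RingHom.etale_algebraMap]
  let e₁ : D ⊗[K] S ≃+* S ⊗[K] D := (Algebra.TensorProduct.comm K D S).toRingEquiv
  let e₂ : (D ⊗[K] S) ⊗[D] W ≃+* S ⊗[K] W :=
    (Algebra.TensorProduct.comm D (D ⊗[K] S) W).toRingEquiv.trans
      ((Algebra.TensorProduct.cancelBaseChange K D D W S).toRingEquiv.trans
        (Algebra.TensorProduct.comm K W S).toRingEquiv)
  have h : bc S K D W = (e₂.toRingHom.comp (algebraMap (D ⊗[K] S) ((D ⊗[K] S) ⊗[D] W))).comp e₁.symm.toRingHom := by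
    refine RingHom.ext fun z => ?_
    induction z using TensorProduct.induction_on with
    | zero => simp
    | add a b ha hb => rw [map_add, map_add, ha, hb]
    | tmul s d =>
      show s ⊗ₜ[K] algebraMap D W d = Algebra.TensorProduct.comm K W S
        (Algebra.TensorProduct.cancelBaseChange K D D W S ((1 : W) ⊗ₜ[D] (d ⊗ₜ[K] s)))
      rw [Algebra.TensorProduct.cancelBaseChange_tmul, Algebra.TensorProduct.comm_tmul, Algebra.algebraMap_eq_smul_one]
  rw [h]
  constructor
  · intro hE
    have h1 := RingHom.Etale.respectsIso.2 _ e₁ hE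
    have h2 := RingHom.Etale.respectsIso.1 _ e₂.symm h1
    convert h2 using 1
    refine RingHom.ext fun z => ?_
    show algebraMap (D ⊗[K] S) ((D ⊗[K] S) ⊗[D] W) z =
      e₂.symm (e₂ (algebraMap (D ⊗[K] S) ((D ⊗[K] S) ⊗[D] W) (e₁.symm (e₁ z))))
    rw [RingEquiv.symm_apply_apply, RingEquiv.symm_apply_apply]
  · exact fun hE => RingHom.Etale.respectsIso.2 _ e₁.symm (RingHom.Etale.respectsIso.1 _ e₂ hE)

/-- Etale algebras stay etale after tensoring. -/
theorem etale_bc {S K D W : Type u} [CommRing S] [CommRing K] [Algebra K S] [CommRing D] [Algebra K D]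
    [CommRing W] [Algebra K W] [Algebra D W] [IsScalarTower K D W] [Algebra.Etale D W] :
    (bc S K D W).Etale :=
  etale_bc_iff.mpr inferInstance

/-- Etale base changes stay etale after further base change. -/
theorem etale_bc_trans {K L T D W : Type u} [CommRing K] [CommRing L] [Algebra K L] [CommRing T] [Algebra K T]
    [Algebra L T] [IsScalarTower K L T] [CommRing D] [Algebra K D] [CommRing W] [Algebra K W] [Algebra D W]
    [IsScalarTower K D W] (h : (bc L K D W).Etale) : (bc T K D W).Etale := by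
  letI : Algebra (L ⊗[K] D) (L ⊗[K] W) := (bc L K D W).toAlgebra
  haveI : IsScalarTower L (L ⊗[K] D) (L ⊗[K] W) := IsScalarTower.of_algebraMap_eq fun x =>
    ((Algebra.TensorProduct.map (AlgHom.id L L) (IsScalarTower.toAlgHom K D W)).commutes x).symm
  haveI : Algebra.Etale (L ⊗[K] D) (L ⊗[K] W) := RingHom.etale_algebraMap.mp h
  have h' := etale_bc (S := T) (K := L) (D := L ⊗[K] D) (W := L ⊗[K] W)
  let e₁ : T ⊗[L] (L ⊗[K] D) ≃+* T ⊗[K] D := (Algebra.TensorProduct.cancelBaseChange K L L T D).toRingEquiv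
  let e₂ : T ⊗[L] (L ⊗[K] W) ≃+* T ⊗[K] W := (Algebra.TensorProduct.cancelBaseChange K L L T W).toRingEquiv
  have key : bc T K D W = (e₂.toRingHom.comp (bc T L (L ⊗[K] D) (L ⊗[K] W))).comp e₁.symm.toRingHom := by
    refine RingHom.ext fun z => ?_
    induction z using TensorProduct.induction_on with
    | zero => simp
    | add a b ha hb => rw [map_add, map_add, ha, hb]
    | tmul s d =>
      show s ⊗ₜ[K] algebraMap D W d = Algebra.TensorProduct.cancelBaseChange K L L T W
        (bc T L (L ⊗[K] D) (L ⊗[K] W) ((Algebra.TensorProduct.cancelBaseChange K L L T D).symm (s ⊗ₜ[K] d)))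
      rw [Algebra.TensorProduct.cancelBaseChange_symm_tmul]
      show s ⊗ₜ[K] algebraMap D W d = Algebra.TensorProduct.cancelBaseChange K L L T W
        (s ⊗ₜ[L] ((1 : L) ⊗ₜ[K] algebraMap D W d))
      rw [Algebra.TensorProduct.cancelBaseChange_tmul, one_smul]
  rw [key]
  exact RingHom.Etale.respectsIso.2 _ e₁.symm (RingHom.Etale.respectsIso.1 _ e₂ h')

/-- A finitely presented algebra has a model over a finitely generated subring. -/
theorem exists_fg_model (A S W : Type u) [CommRing A] [CommRing S] [Algebra A S] [CommRing W] [Algebra S W]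
    [Algebra.FinitePresentation S W] :
    ∃ (K₀ : Subalgebra A S) (W₀ : Type u) (_ : CommRing W₀) (_ : Algebra K₀ W₀),
      K₀.FG ∧ Algebra.FinitePresentation K₀ W₀ ∧ Nonempty (S ⊗[K₀] W₀ ≃ₐ[S] W) := by
  let P := Algebra.Presentation.ofFinitePresentation S W
  let K₀ : Subalgebra A S := Algebra.adjoin A P.coeffs
  haveI : P.HasCoeffs K₀ := ⟨fun x hx => ⟨⟨x, Algebra.subset_adjoin hx⟩, rfl⟩⟩
  refine ⟨K₀, P.ModelOfHasCoeffs K₀, inferInstance, inferInstance, ?_, inferInstance,
    ⟨P.tensorModelOfHasCoeffsEquiv K₀⟩⟩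
  exact ⟨P.finite_coeffs.toFinset, by rw [Set.Finite.coe_toFinset]⟩

section system

variable {ι : Type u} [Preorder ι] [IsDirected ι (· ≤ ·)] [Nonempty ι] {K : Type u} [CommRing K]
  {G : ι → Type u} [∀ i, CommRing (G i)] [∀ i, Algebra K (G i)] (f : ∀ i j, i ≤ j → (G i →ₐ[K] G j))
  {S : Type u} [CommRing S] [Algebra K S] (g : ∀ i, G i →ₐ[K] S) (hg : ∀ i j (h : i ≤ j), (g j).comp (f i j h) = g i)
  (hsurj : ∀ a : S, ∃ i, ∃ x : G i, g i x = a) (hker : ∀ i (x : G i), g i x = 0 → ∃ j, ∃ h : i ≤ j, f i j h x = 0)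

include hg hsurj hker in
/-- Homomorphisms from finitely presented algebras descend to a stage. -/
theorem exists_hom_stage (W : Type u) [CommRing W] [Algebra K W] (D : Type u) [CommRing D] [Algebra K D]
    [Algebra.FinitePresentation K D] (φ : D →ₐ[K] W ⊗[K] S) :
    ∃ i, ∃ φi : D →ₐ[K] W ⊗[K] G i, (Algebra.TensorProduct.map (AlgHom.id K W) (g i)).comp φi = φ := by
  have hc := Groth.L03.ColimTensor.isColim (g := g) f hg hsurj hker
  have hlT : ∀ {T T' : Type u} [CommRing T] [Algebra K T] [CommRing T'] [Algebra K T'] (ψ : T →ₐ[K] T') (z : W ⊗[K] T),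
      ψ.toLinearMap.lTensor W z = Algebra.TensorProduct.map (AlgHom.id K W) ψ z := fun ψ z => rfl
  obtain ⟨n, p, hp, hpk⟩ := Algebra.FinitePresentation.out (R := K) (A := D)
  obtain ⟨l, r, hr⟩ := Submodule.fg_iff_exists_fin_generating_family.mp hpk
  obtain ⟨i, hi⟩ := Groth.L03.ColimTensor.exists_lift hc W fun x : Fin n => φ (p (MvPolynomial.X x))
  choose z hz using hi
  have hev : (Algebra.TensorProduct.map (AlgHom.id K W) (g i)).comp (MvPolynomial.aeval z) = φ.comp p :=
    MvPolynomial.algHom_ext fun x => by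
      show Algebra.TensorProduct.map (AlgHom.id K W) (g i) (MvPolynomial.aeval z (MvPolynomial.X x)) = _
      rw [MvPolynomial.aeval_X, ← hlT]
      exact hz x
  obtain ⟨k, ψ, hψ, hkill⟩ := Groth.L03.ColimTensor.exists_kill hc W i (fun x : Fin l => MvPolynomial.aeval z (r x))
    fun x => by
      rw [hlT]
      refine (AlgHom.congr_fun hev (r x)).trans ?_
      show φ (p (r x)) = 0
      rw [show p (r x) = 0 from hr.le (Submodule.subset_span ⟨x, rfl⟩), map_zero]
  let zk : MvPolynomial (Fin n) K →ₐ[K] W ⊗[K] G k :=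
    (Algebra.TensorProduct.map (AlgHom.id K W) ψ).comp (MvPolynomial.aeval z)
  have hle : ∀ w ∈ RingHom.ker p, zk w = 0 := by
    show RingHom.ker p ≤ RingHom.ker zk
    refine hr.ge.trans (Submodule.span_le.mpr ?_)
    rintro _ ⟨x, rfl⟩
    show zk (r x) = 0
    rw [← hkill x, hlT]
    rfl
  refine ⟨k, (Ideal.Quotient.liftₐ (RingHom.ker p) zk hle).comp
    (Ideal.quotientKerAlgEquivOfSurjective hp).symm.toAlgHom, AlgHom.ext fun d => ?_⟩
  obtain ⟨w, rfl⟩ := hp d
  show Algebra.TensorProduct.map (AlgHom.id K W) (g k)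
    (Ideal.Quotient.liftₐ (RingHom.ker p) zk hle ((Ideal.quotientKerAlgEquivOfSurjective hp).symm (p w))) = _
  rw [show (Ideal.quotientKerAlgEquivOfSurjective hp).symm (p w) = Ideal.Quotient.mk _ w from
    (Ideal.quotientKerAlgEquivOfSurjective hp).symm_apply_eq.mpr rfl]
  show Algebra.TensorProduct.map (AlgHom.id K W) (g k) (zk w) = _
  show Algebra.TensorProduct.map (AlgHom.id K W) (g k)
    (Algebra.TensorProduct.map (AlgHom.id K W) ψ (MvPolynomial.aeval z w)) = _
  rw [← AlgHom.comp_apply, ← Algebra.TensorProduct.map_comp, AlgHom.id_comp, hψ]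
  exact AlgHom.congr_fun hev w

include hg hsurj hker in
/-- Etaleness descends to a stage. -/
theorem exists_etale_stage (D W : Type u) [CommRing D] [Algebra K D] [CommRing W] [Algebra K W] [Algebra D W]
    [IsScalarTower K D W] [Algebra.FinitePresentation K D] [Algebra.FinitePresentation K W]
    (h : (bc S K D W).Etale) : ∃ i, (bc (G i) K D W).Etale := by
  haveI : Algebra.FinitePresentation D W :=
    Algebra.FinitePresentation.of_restrict_scalars_finitePresentation K D W
  obtain ⟨i, hi⟩ := Groth.L03.SmoothStage.exists_etale (Groth.L03.SmoothStage.isColim_tensor f g hg hsurj hker D) W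
    (etale_bc_iff.mp h)
  exact ⟨i, etale_bc_iff.mpr hi⟩

end system

end Groth.L14.Popescu.Descend
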