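import Groth.Agent.L14.Popescu.Step
import Groth.Agent.L14.Smoothing.ResolveModPow
import Groth.Agent.L14.Smoothing.ConormalSym
import Groth.Agent.L14.Smoothing.Converse
import Groth.Agent.L14.Smoothing.NilpotentDeform
import Groth.Agent.L14.Smoothing.InsepResolve
import Groth.Agent.L14.Smoothing.SepResolve
import Groth.Agent.L03.FieldFS
import Groth.Agent.L06.SepKaehler
import Mathlib.RingTheory.Flat.TorsionFree
import Mathlib.RingTheory.Smooth.Pi
import Mathlib.Algebra.Group.Pi.Units
import Mathlib.RingTheory.Ideal.MinimalPrime.Noetherian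
import Mathlib.RingTheory.LocalRing.ResidueField.Fiber

/-!
Regular maps of Noetherian rings are ind-smooth.
-/

set_option autoImplicit false
set_option linter.style.haveILetI false

noncomputable section

open TensorProduct

namespace Groth.L14.Popescu

universe u

open Groth.L14.Smoothing

/-- Geometrically regular algebras over fields are ind-smooth. -/
theorem indSmooth_geometricallyRegular (k L : Type u) [Field k] [CommRing L] [Algebra k L] [IsNoetherianRing L]
    (h : CAlg.IsGeometricallyRegular k L) : _root_.Smoothing.IndSmooth k L := by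
  intro A _ _ hA φ
  refine factor_of_resolvable (⊥ : Ideal L) ?_ A hA φ bot_le
  intro A _ _ hA φ _ q _ hmin
  haveI := hA
  obtain ⟨p, hp⟩ := CharP.exists k
  rcases CharP.char_is_prime_or_zero k p with hprime | rfl
  · haveI := Fact.mk hprime
    exact Insep.resolvable_insep p h φ q hmin
  · haveI : CharZero k := CharP.charP_to_charZero k
    haveI : IsRegularRing (k ⊗[k] L) := h k inferInstance
    haveI : IsRegularRing L := IsRegularRing.of_ringEquiv (Algebra.TensorProduct.lid k L).toRingEquiv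
    haveI : IsRegularLocalRing (Localization.AtPrime q) := IsRegularRing.isRegularLocalRing_localization q
    haveI : Algebra.FormallySmooth k q.ResidueField := Groth.L03.FieldFS.formallySmooth_of_perfectField k _
    haveI : Algebra.IsGeometricallyReduced k q.ResidueField :=
      Groth.L06.SepKaehler.geometricallyReduced_of_formallySmooth k _
    exact Sep.resolvable_of_regular_separable φ q hmin

/-- Ind-smoothness of all fibres at fraction fields of quotients. -/
def FieldsOK (R Λ : Type u) [CommRing R] [CommRing Λ] [Algebra R Λ] : Prop :=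
  ∀ (K : Type u) [Field K] [Algebra R K],
    (∀ x : K, ∃ a b : R, algebraMap R K b ≠ 0 ∧ x * algebraMap R K b = algebraMap R K a) →
      _root_.Smoothing.IndSmooth K (K ⊗[R] Λ)

theorem fieldsOK_of_isRegularHom {R Λ : Type u} [CommRing R] [CommRing Λ] [Algebra R Λ]
    (hreg : CAlg.IsRegularHom R Λ) : FieldsOK R Λ := by
  intro K _ _ hK
  let p : Ideal R := RingHom.ker (algebraMap R K)
  haveI : p.IsPrime := RingHom.ker_isPrime _
  obtain ⟨hN, hG⟩ := hreg.2 p
  haveI := hN
  have hu : ∀ z : p.primeCompl, IsUnit (algebraMap R K z) := fun z => isUnit_iff_ne_zero.mpr fun h => z.2 h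
  let f : Localization.AtPrime p →+* K := IsLocalization.lift (M := p.primeCompl) (g := algebraMap R K) hu
  haveI : IsLocalHom f := by
    refine ⟨fun z hz => ?_⟩
    obtain ⟨x, s, rfl⟩ := IsLocalization.exists_mk'_eq p.primeCompl z
    rw [IsLocalization.AtPrime.isUnit_mk'_iff (Localization.AtPrime p) p]
    intro hx
    have h1 := congrArg f (IsLocalization.mk'_spec (Localization.AtPrime p) x s)
    rw [map_mul, IsLocalization.lift_eq, IsLocalization.lift_eq, show algebraMap R K x = 0 from hx] at h1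
    exact (hz.mul (hu s)).ne_zero h1
  let g : p.ResidueField →+* K := IsLocalRing.ResidueField.lift f
  have hg : ∀ x, g (algebraMap R p.ResidueField x) = algebraMap R K x := fun x => by
    rw [IsScalarTower.algebraMap_apply R (Localization.AtPrime p) p.ResidueField]
    exact (IsLocalRing.ResidueField.lift_residue_apply f _).trans (IsLocalization.lift_eq _ x)
  letI : Algebra p.ResidueField K := g.toAlgebra
  haveI : IsScalarTower R p.ResidueField K := IsScalarTower.of_algebraMap_eq fun x => (hg x).symm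
  have hbij : Function.Bijective (algebraMap p.ResidueField K) := by
    refine ⟨g.injective, fun x => ?_⟩
    obtain ⟨a, b, hb, hab⟩ := hK x
    refine ⟨algebraMap R p.ResidueField a / algebraMap R p.ResidueField b, ?_⟩
    show g _ = x
    rw [map_div₀, hg, hg, div_eq_iff hb, hab]
  let e : p.Fiber Λ ≃ₐ[p.ResidueField] K ⊗[R] Λ :=
    Algebra.TensorProduct.congr (AlgEquiv.ofBijective (Algebra.ofId p.ResidueField K) hbij) (AlgEquiv.refl : Λ ≃ₐ[R] Λ)
  exact Deform.indSmooth_congr hbij e (indSmooth_geometricallyRegular _ _ hG)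

/-- The fibres of a quotient are fibres. -/
theorem fieldsOK_quotient {R Λ : Type u} [CommRing R] [CommRing Λ] [Algebra R Λ] (I : Ideal R)
    (h : FieldsOK R Λ) : FieldsOK (R ⧸ I) (Λ ⧸ I.map (algebraMap R Λ)) := by
  intro K _ _ hK
  letI : Algebra R K := ((algebraMap (R ⧸ I) K).comp (Ideal.Quotient.mk I)).toAlgebra
  haveI : IsScalarTower R (R ⧸ I) K := IsScalarTower.of_algebraMap_eq' rfl
  have h1 := h K fun x => by
    obtain ⟨a, b, hb, hab⟩ := hK x
    obtain ⟨a, rfl⟩ := Ideal.Quotient.mk_surjective a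
    obtain ⟨b, rfl⟩ := Ideal.Quotient.mk_surjective b
    exact ⟨a, b, hb, hab⟩
  let e0 : ((R ⧸ I) ⊗[R] Λ) ≃ₐ[R ⧸ I] (Λ ⧸ I.map (algebraMap R Λ)) :=
    (Algebra.TensorProduct.quotIdealMapEquivQuotTensor Λ I).symm
  let e : K ⊗[R] Λ ≃ₐ[K] K ⊗[R ⧸ I] (Λ ⧸ I.map (algebraMap R Λ)) :=
    (Algebra.TensorProduct.cancelBaseChange R (R ⧸ I) K K Λ).symm.trans
      (Algebra.TensorProduct.congr (AlgEquiv.refl : K ≃ₐ[K] K) e0)
  exact Deform.indSmooth_congr (S := K) (S' := K) Function.bijective_id e h1

/-- Finite products of algebras of finite type are of finite type. -/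
theorem finiteType_pi {K : Type u} [CommRing K] {ι : Type u} [Finite ι] (B : ι → Type u) [∀ i, CommRing (B i)]
    [∀ i, Algebra K (B i)] [∀ i, Algebra.FiniteType K (B i)] : Algebra.FiniteType K (∀ i, B i) := by
  classical
  haveI := Fintype.ofFinite ι
  choose n f hf using fun i => Algebra.FiniteType.iff_quotient_mvPolynomial''.mp
    (inferInstance : Algebra.FiniteType K (B i))
  let gen : (Σ i, Fin (n i)) ⊕ ι → ∀ i, B i :=
    Sum.elim (fun ij => Pi.single ij.1 (f ij.1 (MvPolynomial.X ij.2))) fun i => Pi.single i 1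
  let F : MvPolynomial ((Σ i, Fin (n i)) ⊕ ι) K →ₐ[K] ∀ i, B i := MvPolynomial.aeval gen
  refine Algebra.FiniteType.of_surjective F fun b => ?_
  have hs : ∀ i (x : B i), Pi.single i x ∈ F.range := by
    intro i x
    obtain ⟨q, rfl⟩ := hf i x
    have hX : ∀ z, gen z ∈ F.range := fun z => ⟨MvPolynomial.X z, MvPolynomial.aeval_X gen z⟩
    induction q using MvPolynomial.induction_on with
    | C c =>
      rw [show f i (MvPolynomial.C c) = algebraMap K (B i) c from (f i).commutes c,
        show (Pi.single i (algebraMap K (B i) c) : ∀ i, B i) = algebraMap K (∀ i, B i) c * Pi.single i 1 from by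
          rw [← Pi.single_mul_right, mul_one]; rfl]
      exact F.range.mul_mem (F.range.algebraMap_mem c) (hX (Sum.inr i))
    | add u v hu hv => rw [map_add, Pi.single_add]; exact F.range.add_mem hu hv
    | mul_X u j hu =>
      rw [map_mul, Pi.single_mul]
      exact F.range.mul_mem hu (hX (Sum.inl ⟨i, j⟩))
  have hb : b ∈ F.range := by
    rw [← Finset.univ_sum_single b]
    exact F.range.sum_mem fun i _ => hs i (b i)
  exact hb

/-- Resolution at a regular element whose eighth power gives an ind-smooth quotient. -/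
theorem resolvable_of_eighth {R Λ C : Type u} [CommRing R] [IsNoetherianRing R] [CommRing Λ] [Algebra R Λ]
    [CommRing C] [Algebra R C] [Algebra.FinitePresentation R C] (π : R) (hπR : ∀ x : R, π * x = 0 → x = 0)
    (hπΛ : ∀ x : Λ, algebraMap R Λ π * x = 0 → x = 0) (f : C →ₐ[R] Λ) (q : Ideal Λ) [q.IsPrime]
    (hπq : algebraMap R Λ π ∈ q) (hstd : _root_.Smoothing.IsStrictlyStandard R C (algebraMap R C π))
    (hind : _root_.Smoothing.IndSmooth (R ⧸ Ideal.span {π ^ 8}) (Λ ⧸ (Ideal.span {π ^ 8}).map (algebraMap R Λ))) :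
    _root_.Smoothing.Resolvable R f q := by
  have hbot : ∀ (S : Type u) [CommRing S] (a : S) (i : Fin 1),
      Ideal.span (Set.range fun _ : {j : Fin 1 // (j : ℕ) < (i : ℕ)} => a) = ⊥ := by
    intro S _ a i
    rw [Ideal.span_eq_bot]
    rintro _ ⟨⟨j, hj⟩, rfl⟩
    exact absurd hj (by omega)
  have hann : ∀ (S : Type u) [CommRing S] (s : S), (∀ x, s * x = 0 → x = 0) → ∀ (I : Ideal S), I = ⊥ →
      ∀ x : S ⧸ I, Ideal.Quotient.mk I s ^ 2 * x = 0 → Ideal.Quotient.mk I s * x = 0 := by
    intro S _ s hs I hI x hx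
    subst hI
    obtain ⟨x, rfl⟩ := Ideal.Quotient.mk_surjective x
    rw [← map_pow, ← map_mul, Ideal.Quotient.eq_zero_iff_mem, Ideal.mem_bot, pow_two, mul_assoc] at hx
    rw [hs x (hs _ hx), map_zero, mul_zero]
  have hR := fun i : Fin 1 => hann R π hπR _ (hbot R (π ^ 8) i)
  have hΛ := fun i : Fin 1 => hann Λ _ hπΛ _ (hbot Λ (algebraMap R Λ π ^ 8) i)
  obtain ⟨K, hK⟩ : ∃ K : Ideal R, K = Ideal.span (Set.range fun _ : Fin 1 => π ^ 8) := ⟨_, rfl⟩
  have hK' : K = Ideal.span {π ^ 8} := hK.trans (congrArg Ideal.span Set.range_const)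
  obtain ⟨φK, hφK⟩ : ∃ φK : (C ⧸ K.map (algebraMap R C)) →ₐ[R ⧸ K] (Λ ⧸ K.map (algebraMap R Λ)),
      ∀ c, φK (Ideal.Quotient.mk _ c) = Ideal.Quotient.mk _ (f c) :=
    ⟨{ Ideal.quotientMap (K.map (algebraMap R Λ)) f.toRingHom (Ideal.map_le_iff_le_comap.mpr fun x hx => by
        show f (algebraMap R C x) ∈ K.map (algebraMap R Λ)
        rw [f.commutes]
        exact Ideal.mem_map_of_mem _ hx) with
      commutes' := fun x => by
        obtain ⟨x, rfl⟩ := Ideal.Quotient.mk_surjective x
        exact congrArg (Ideal.Quotient.mk _) (f.commutes x) }, fun c => rfl⟩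
  refine ModPow.resolvable_of_mod_pow f q (fun _ : Fin 1 => π) (fun _ => hπq) hR hΛ (fun _ => hstd) K hK φK hφK ?_
  haveI : Algebra.FinitePresentation (R ⧸ K) (C ⧸ K.map (algebraMap R C)) :=
    Algebra.FinitePresentation.equiv (A := (R ⧸ K) ⊗[R] C)
      (Algebra.TensorProduct.quotIdealMapEquivQuotTensor C K).symm
  have hind' : _root_.Smoothing.IndSmooth (R ⧸ K) (Λ ⧸ K.map (algebraMap R Λ)) := by
    rw [hK']; exact hind
  obtain ⟨D, iD, iA, hD, gD, hh, hghD⟩ := hind' _ inferInstance φK
  haveI := hD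
  have htop : _root_.Smoothing.singRad (R ⧸ K) hh = ⊤ := by
    rw [Ideal.eq_top_iff_one]
    refine Ideal.le_radical ?_
    rw [← map_one hh]
    exact Ideal.mem_map_of_mem _ (DesingApply.mem_singularIdeal_of_forall fun Q _ _ => inferInstance)
  refine ⟨D, iD, iA, inferInstance, gD, hh, hghD, htop ▸ le_top, fun hle => ?_⟩
  have hKq : K.map (algebraMap R Λ) ≤ q := by
    rw [hK', Ideal.map_span, Set.image_singleton, Ideal.span_singleton_le_iff_mem, map_pow]
    exact Ideal.pow_mem_of_mem _ hπq _ (by norm_num)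
  rw [htop, top_le_iff, Ideal.eq_top_iff_one, ← map_one (Ideal.Quotient.mk _), ← Ideal.mem_comap,
    Ideal.comap_map_of_surjective' _ Ideal.Quotient.mk_surjective, Ideal.mk_ker, sup_eq_left.mpr hKq] at hle
  exact Ideal.IsPrime.ne_top ‹_› ((Ideal.eq_top_iff_one q).mpr hle)

set_option maxHeartbeats 1000000 in
/-- A regular element in the singular radical resolves, given ind-smoothness modulo its powers. -/
theorem resolvable_of_regular_element {R Λ : Type u} [CommRing R] [IsNoetherianRing R] [CommRing Λ] [Algebra R Λ]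
    (π : R) (hπR : ∀ x : R, π * x = 0 → x = 0) (hπΛ : ∀ x : Λ, algebraMap R Λ π * x = 0 → x = 0)
    (hmod : ∀ n, 0 < n → _root_.Smoothing.IndSmooth (R ⧸ Ideal.span {π ^ n})
      (Λ ⧸ (Ideal.span {π ^ n}).map (algebraMap R Λ)))
    {A : Type u} [CommRing A] [Algebra R A] [Algebra.FinitePresentation R A] (φ : A →ₐ[R] Λ)
    (hπ : algebraMap R Λ π ∈ _root_.Smoothing.singRad R φ) (q : Ideal Λ) [q.IsPrime]
    (hq : _root_.Smoothing.singRad R φ ≤ q) : _root_.Smoothing.Resolvable R φ q := by
  classical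
  obtain ⟨N, hN⟩ := Ideal.mem_radical_iff.mp hπ
  rw [← map_pow] at hN
  obtain ⟨B, _, _, hB, g, h, hgh, hgle, hcB⟩ := exists_model φ (π ^ N) hN
  haveI := hB
  haveI : IsNoetherianRing B := Algebra.FiniteType.isNoetherianRing R B
  obtain ⟨C, _, _, _, _, hfp, ⟨ρ⟩, hC⟩ := ConormalSym.exists_smooth_free_retract R B
  haveI := hfp
  obtain ⟨h1, h2⟩ := hC _ (Desing.smooth_away_of_mem_singularIdeal hcB)
  rw [← IsScalarTower.algebraMap_apply R B C] at h1 h2
  haveI := h1
  haveI := h2
  let Ct := Localization.Away (algebraMap R C (π ^ N))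
  let b := Module.Free.chooseBasis Ct Ω[Ct⁄R]
  haveI := Fintype.ofFinite (Module.Free.ChooseBasisIndex Ct Ω[Ct⁄R])
  let ee : (Ω[Ct⁄R] × (Fin 0 → Ct)) ≃ₗ[Ct] (Fin (Fintype.card (Module.Free.ChooseBasisIndex Ct Ω[Ct⁄R])) → Ct) :=
    LinearEquiv.prodUnique ≪≫ₗ (b.reindex (Fintype.equivFin _)).equivFun
  obtain ⟨e₀, he₀⟩ := Groth.L14.Smoothing.pow_isStrictlyStandard (algebraMap R C (π ^ N)) 0 _ ee
  let hC' : C →ₐ[R] Λ := h.comp (ρ.restrictScalars R)
  let gC : A →ₐ[R] C := (IsScalarTower.toAlgHom R B C).comp g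
  have hghC : hC'.comp gC = φ := by
    refine AlgHom.ext fun x => ?_
    show h (ρ (algebraMap B C (g x))) = φ x
    rw [ρ.commutes]
    exact AlgHom.congr_fun hgh x
  have hle : _root_.Smoothing.singRad R φ ≤ _root_.Smoothing.singRad R hC' := by
    refine Ideal.radical_mono ?_
    rw [← hghC, Ideal.map_le_iff_le_comap]
    intro a ha
    refine Ideal.mem_map_of_mem hC' ?_
    exact Desing.mem_singularIdeal_of_smooth
      (hC _ (Desing.smooth_away_of_mem_singularIdeal (hgle (Ideal.mem_map_of_mem g ha)))).1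
  have hπq : algebraMap R Λ π ∈ q := hq hπ
  have hNpos : 0 < N := by
    rcases Nat.eq_zero_or_pos N with rfl | hN0
    · exfalso
      rw [pow_zero, map_one] at hN
      exact Ideal.IsPrime.ne_top ‹_› ((Ideal.eq_top_iff_one q).mpr (hq (Ideal.le_radical hN)))
    · exact hN0
  obtain ⟨π', hπ'⟩ : ∃ π' : R, π' = (π ^ N) ^ (e₀ + 1) := ⟨_, rfl⟩
  have hπ'' : π' = π ^ (N * (e₀ + 1)) := by rw [hπ', ← pow_mul]
  have hnz : ∀ (S : Type u) [CommRing S] (s : S), (∀ x, s * x = 0 → x = 0) → ∀ n (x : S), s ^ n * x = 0 → x = 0 := by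
    intro S _ s hs n
    induction n with
    | zero => intro x hx; simpa using hx
    | succ n ih => intro x hx; exact hs x (ih _ (by rwa [← mul_assoc, ← pow_succ]))
  have hres : _root_.Smoothing.Resolvable R hC' q := by
    refine resolvable_of_eighth π' (fun x hx => hnz R π hπR _ x (hπ'' ▸ hx)) (fun x hx => ?_) hC' q ?_ ?_ ?_
    · rw [hπ'', map_pow] at hx
      exact hnz Λ _ hπΛ _ x hx
    · rw [hπ'', map_pow]
      exact Ideal.pow_mem_of_mem _ hπq _ (by positivity)
    · rw [hπ', map_pow]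
      exact he₀ _ (Nat.le_succ _)
    · rw [hπ'', ← pow_mul]
      exact hmod _ (by positivity)
  obtain ⟨D, iD, iA, hD, gD, hh, hghD, hleD, hnot⟩ := hres
  exact ⟨D, iD, iA, hD, gD.comp gC, hh, by rw [← AlgHom.comp_assoc, hghD, hghC], hle.trans hleD, hnot⟩

/-- The product of the residue fields at the minimal primes localises a reduced Noetherian ring. -/
theorem isLocalization_pi_minimal (R : Type u) [CommRing R] [IsReduced R] [IsNoetherianRing R]
    [∀ p : ↥(minimalPrimes R), p.1.IsPrime] (S : Submonoid R)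
    (hS : ∀ s, s ∈ S ↔ ∀ p : ↥(minimalPrimes R), s ∉ p.1) :
    IsLocalization S (∀ p : ↥(minimalPrimes R), p.1.ResidueField) := by
  classical
  haveI : Finite ↥(minimalPrimes R) := (minimalPrimes.finite_of_isNoetherianRing R).to_subtype
  haveI := Fintype.ofFinite ↥(minimalPrimes R)
  have hzero : ∀ (p : ↥(minimalPrimes R)) (x : R), algebraMap R p.1.ResidueField x = 0 ↔ x ∈ p.1 := fun p x =>
    Ideal.algebraMap_residueField_eq_zero
  have hsep : ∀ p : ↥(minimalPrimes R), ∃ e : R, e ∉ p.1 ∧ ∀ p' : ↥(minimalPrimes R), p' ≠ p → e ∈ p'.1 := by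
    intro p
    have h1 : ∀ p' : ↥(minimalPrimes R), p' ≠ p → ∃ x ∈ p'.1, x ∉ p.1 := fun p' hne => by
      by_contra hno
      push Not at hno
      exact hne (Subtype.ext (le_antisymm hno (p.2.2 ⟨inferInstance, bot_le⟩ hno)))
    choose! x hx hxp using h1
    refine ⟨∏ p' ∈ Finset.univ.erase p, x p', fun h => ?_, fun p' hne => ?_⟩
    · obtain ⟨p', hp', hmem⟩ := (Ideal.IsPrime.prod_mem_iff (p := p.1)).mp h
      exact hxp p' (Finset.ne_of_mem_erase hp') hmem
    · exact Ideal.mem_of_dvd _ (Finset.dvd_prod_of_mem _ (Finset.mem_erase.mpr ⟨hne, Finset.mem_univ p'⟩)) (hx p' hne)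
  choose e he he' using hsep
  constructor
  constructor
  · rintro ⟨s, hs⟩
    rw [Pi.isUnit_iff]
    exact fun p => isUnit_iff_ne_zero.mpr fun h => (hS s).mp hs p ((hzero p s).mp h)
  · intro z
    have hfrac : ∀ p : ↥(minimalPrimes R), ∃ a b : R, b ∉ p.1 ∧
        z p * algebraMap R p.1.ResidueField b = algebraMap R p.1.ResidueField a := fun p => by
      obtain ⟨w, hw⟩ := IsLocalRing.residue_surjective (z p)
      obtain ⟨⟨a, b⟩, hab⟩ := IsLocalization.surj p.1.primeCompl w
      refine ⟨a, b, b.2, ?_⟩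
      rw [IsScalarTower.algebraMap_apply R (Localization.AtPrime p.1) p.1.ResidueField,
        IsScalarTower.algebraMap_apply R (Localization.AtPrime p.1) p.1.ResidueField, ← hw, ← hab]
      exact (map_mul (IsLocalRing.residue _) w _).symm
    choose a b hb hab using hfrac
    have hval : ∀ (c : ↥(minimalPrimes R) → R) (p : ↥(minimalPrimes R)),
        algebraMap R p.1.ResidueField (∑ p', e p' * c p') = algebraMap R p.1.ResidueField (e p * c p) := fun c p => by
      rw [map_sum, Finset.sum_eq_single p (fun p' _ hne => (hzero p _).mpr (p.1.mul_mem_right _ (he' p' p hne.symm)))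
        (fun h => absurd (Finset.mem_univ p) h)]
    refine ⟨⟨∑ p, e p * a p, ∑ p, e p * b p, (hS _).mpr fun p hmem => ?_⟩, funext fun p => ?_⟩
    · rw [← hzero, hval, hzero] at hmem
      exact (Ideal.IsPrime.mem_or_mem inferInstance hmem).elim (he p) (hb p)
    · show z p * algebraMap R p.1.ResidueField (∑ p', e p' * b p') = algebraMap R p.1.ResidueField (∑ p', e p' * a p')
      rw [hval, hval, map_mul, map_mul, ← hab]
      ring
  · intro x y hxy
    refine ⟨1, ?_⟩
    have hmem : x - y ∈ nilradical R := by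
      rw [nilradical_eq_sInf, Ideal.mem_sInf]
      intro P hP
      haveI : P.IsPrime := hP
      obtain ⟨p, hp, hpP⟩ := Ideal.exists_minimalPrimes_le (bot_le : ⊥ ≤ P)
      refine hpP ((hzero ⟨p, hp⟩ _).mp ?_)
      rw [map_sub, sub_eq_zero]
      exact congrFun hxy ⟨p, hp⟩
    rw [nilradical_eq_zero, Ideal.zero_eq_bot, Submodule.mem_bot] at hmem
    rw [sub_eq_zero.mp hmem]

/-- Ind-smoothness descends to a finite product. -/
theorem indSmooth_of_pi {R Λ K : Type u} [CommRing R] [CommRing Λ] [Algebra R Λ] [CommRing K] [Algebra R K]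
    [IsNoetherianRing K] {ι : Type u} [Finite ι] (κ : ι → Type u) [∀ i, CommRing (κ i)] [∀ i, Algebra R (κ i)]
    [∀ i, Algebra K (κ i)] [∀ i, IsScalarTower R K (κ i)] (hbij : Function.Bijective (algebraMap K (∀ i, κ i)))
    (h : ∀ i, _root_.Smoothing.IndSmooth (κ i) (κ i ⊗[R] Λ)) :
    _root_.Smoothing.IndSmooth K (K ⊗[R] Λ) := by
  classical
  haveI := Fintype.ofFinite ι
  intro A _ _ hA φ
  haveI := hA
  have hfp : ∀ i, Algebra.FiniteType K (κ i) := fun i =>
    Algebra.FiniteType.of_surjective (Algebra.ofId K (κ i)) fun x => by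
      obtain ⟨y, hy⟩ := hbij.2 (Pi.single i x)
      exact ⟨y, (congrFun hy i).trans (Pi.single_eq_same i x)⟩
  haveI : ∀ i, Algebra.FormallySmooth K (κ i) := (Algebra.FormallySmooth.pi_iff κ).mp
    (Algebra.FormallySmooth.of_equiv (A := K) (AlgEquiv.ofBijective (Algebra.ofId K (∀ i, κ i)) hbij))
  have hfac : ∀ i, ∃ (B : Type u) (_ : CommRing B) (_ : Algebra (κ i) B), Algebra.Smooth (κ i) B ∧
      ∃ (g : κ i ⊗[K] A →ₐ[κ i] B) (hh : B →ₐ[κ i] κ i ⊗[R] Λ), ∀ x,
        hh (g ((1 : κ i) ⊗ₜ x)) =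
          Algebra.TensorProduct.map (IsScalarTower.toAlgHom R K (κ i)) (AlgHom.id R Λ) (φ x) := by
    intro i
    let ev : K ⊗[R] Λ →ₐ[R] κ i ⊗[R] Λ :=
      Algebra.TensorProduct.map (IsScalarTower.toAlgHom R K (κ i)) (AlgHom.id R Λ)
    let evK : A →ₐ[K] κ i ⊗[R] Λ :=
      { ev.toRingHom.comp φ.toRingHom with
        commutes' := fun c => by
          show ev (φ (algebraMap K A c)) = _
          rw [AlgHom.commutes]
          show ev (c ⊗ₜ 1) = _
          rw [Algebra.TensorProduct.map_tmul]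
          rfl }
    obtain ⟨B, iB, iA, hB, g, hh, hgh⟩ := h i (κ i ⊗[K] A) inferInstance
      (Algebra.TensorProduct.lift (Algebra.ofId (κ i) _) evK fun _ _ => Commute.all _ _)
    refine ⟨B, iB, iA, hB, g, hh, fun x => ?_⟩
    rw [show hh (g ((1 : κ i) ⊗ₜ x)) = _ from AlgHom.congr_fun hgh _, Algebra.TensorProduct.lift_tmul, map_one, one_mul]
    rfl
  choose B iB iAB hB g hh hgh using hfac
  letI : ∀ i, Algebra K (B i) := fun i => ((algebraMap (κ i) (B i)).comp (algebraMap K (κ i))).toAlgebra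
  haveI : ∀ i, IsScalarTower K (κ i) (B i) := fun i => IsScalarTower.of_algebraMap_eq' rfl
  haveI : ∀ i, Algebra.FormallySmooth K (B i) := fun i =>
    haveI := hB i
    Algebra.FormallySmooth.comp K (κ i) (B i)
  haveI : ∀ i, Algebra.FiniteType K (B i) := fun i =>
    haveI := hB i
    Algebra.FiniteType.trans (hfp i) (inferInstance : Algebra.FiniteType (κ i) (B i))
  haveI : Algebra.FormallySmooth K (∀ i, B i) := (Algebra.FormallySmooth.pi_iff B).mpr inferInstance
  haveI := finiteType_pi (K := K) B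
  haveI : Algebra.FinitePresentation K (∀ i, B i) := Algebra.FinitePresentation.of_finiteType.mp inferInstance
  let gA : A →ₐ[K] ∀ i, B i := AlgHom.mk
    (Pi.ringHom fun i => (g i).toRingHom.comp (Algebra.TensorProduct.includeRight : A →ₐ[K] κ i ⊗[K] A).toRingHom)
    fun c => funext fun i => by
      show g i ((1 : κ i) ⊗ₜ algebraMap K A c) = algebraMap (κ i) (B i) (algebraMap K (κ i) c)
      rw [show (1 : κ i) ⊗ₜ[K] algebraMap K A c = algebraMap (κ i) (κ i ⊗[K] A) (algebraMap K (κ i) c) from by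
        rw [← IsScalarTower.algebraMap_apply K (κ i) (κ i ⊗[K] A)]
        exact (Algebra.TensorProduct.includeRight : A →ₐ[K] κ i ⊗[K] A).commutes c, AlgHom.commutes]
  let toPi : K ⊗[R] Λ →+* ∀ i, κ i ⊗[R] Λ :=
    Pi.ringHom fun i => (Algebra.TensorProduct.map (IsScalarTower.toAlgHom R K (κ i)) (AlgHom.id R Λ)).toRingHom
  have hbijPi : Function.Bijective toPi := by
    let eK : K ≃ₐ[R] ∀ i, κ i := AlgEquiv.ofBijective
      (AlgHom.mk (algebraMap K (∀ i, κ i)) fun c => funext fun i => (IsScalarTower.algebraMap_apply R K (κ i) c).symm) hbij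
    let E : K ⊗[R] Λ ≃ₐ[R] ∀ i, κ i ⊗[R] Λ :=
      (Algebra.TensorProduct.congr eK (AlgEquiv.refl : Λ ≃ₐ[R] Λ)).trans
        ((Algebra.TensorProduct.comm R (∀ i, κ i) Λ).trans
          ((Algebra.TensorProduct.piRight R R Λ κ).trans
            (AlgEquiv.piCongrRight fun i => Algebra.TensorProduct.comm R Λ (κ i))))
    have hE : ∀ w, toPi w = E w := fun w => by
      induction w using TensorProduct.induction_on with
      | zero => simp
      | add a b ha hb => simp only [map_add, ha, hb]
      | tmul a b => rfl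
    rw [show (toPi : K ⊗[R] Λ → _) = E from funext hE]
    exact E.bijective
  let Φ := RingEquiv.ofBijective toPi hbijPi
  let hAll : (∀ i, B i) →ₐ[K] K ⊗[R] Λ := AlgHom.mk
    (Φ.symm.toRingHom.comp (Pi.ringHom fun i => (hh i).toRingHom.comp (Pi.evalRingHom B i))) fun c => by
    refine Φ.injective ?_
    show Φ (Φ.symm _) = Φ _
    rw [RingEquiv.apply_symm_apply]
    funext i
    show hh i (algebraMap (κ i) (B i) (algebraMap K (κ i) c)) =
      Algebra.TensorProduct.map (IsScalarTower.toAlgHom R K (κ i)) (AlgHom.id R Λ) (c ⊗ₜ 1)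
    rw [AlgHom.commutes, Algebra.TensorProduct.map_tmul]
    rfl
  refine ⟨∀ i, B i, inferInstance, inferInstance, { }, gA, hAll, AlgHom.ext fun x => Φ.injective ?_⟩
  show Φ (Φ.symm _) = Φ _
  rw [RingEquiv.apply_symm_apply]
  funext i
  exact hgh i x

/-- Ind-smoothness over the product of the residue fields at the minimal primes. -/
theorem indSmooth_pi {R Λ : Type u} [CommRing R] [CommRing Λ] [Algebra R Λ] [IsNoetherianRing R] (h : FieldsOK R Λ)
    {ι : Type u} [Finite ι] (p : ι → Ideal R) [∀ i, (p i).IsPrime] :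
    _root_.Smoothing.IndSmooth (∀ i, (p i).ResidueField) ((∀ i, (p i).ResidueField) ⊗[R] Λ) := by
  have hK : ∀ i, ∀ x : (p i).ResidueField, ∃ a b : R, algebraMap R (p i).ResidueField b ≠ 0 ∧
      x * algebraMap R (p i).ResidueField b = algebraMap R (p i).ResidueField a := by
    intro i x
    obtain ⟨w, hw⟩ := IsLocalRing.residue_surjective x
    obtain ⟨⟨a, b⟩, hab⟩ := IsLocalization.surj (p i).primeCompl w
    refine ⟨a, b, fun h0 => b.2 (Ideal.algebraMap_residueField_eq_zero.mp h0), ?_⟩
    rw [IsScalarTower.algebraMap_apply R (Localization.AtPrime (p i)) (p i).ResidueField,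
      IsScalarTower.algebraMap_apply R (Localization.AtPrime (p i)) (p i).ResidueField, ← hw, ← hab]
    exact (map_mul (IsLocalRing.residue _) w _).symm
  exact @indSmooth_of_pi R Λ (∀ i, (p i).ResidueField) _ _ _ _ _ inferInstance ι _ (fun i => (p i).ResidueField) _ _
    (fun i => (Pi.evalRingHom (fun i => (p i).ResidueField) i).toAlgebra)
    (fun i => @IsScalarTower.of_algebraMap_eq R _ _ _ _ _ _
      (Pi.evalRingHom (fun i => (p i).ResidueField) i).toAlgebra _ fun x => rfl)
    Function.bijective_id (fun i => h _ (hK i))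

/-- Flat base change keeps an element regular. -/
theorem regular_map_of_flat {R Λ : Type u} [CommRing R] [CommRing Λ] [Algebra R Λ] [Module.Flat R Λ] (π : R)
    (hπR : ∀ x : R, π * x = 0 → x = 0) (x : Λ) (hx : algebraMap R Λ π * x = 0) : x = 0 := by
  have hl : IsLeftRegular π := fun a b (hab : π * a = π * b) => sub_eq_zero.mp (hπR (a - b) (by
    rw [mul_sub, sub_eq_zero]; exact hab))
  have hreg : IsSMulRegular Λ π := Module.Flat.isSMulRegular_of_isRegular
    ⟨hl, fun a b (hab : a * π = b * π) => hl (show π * a = π * b by rw [mul_comm π a, mul_comm π b]; exact hab)⟩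
  exact hreg (show π • x = π • (0 : Λ) by rw [smul_zero, Algebra.smul_def, hx])

set_option maxHeartbeats 1000000 in
/-- Ind-smoothness descends along a localisation at regular elements. -/
theorem indSmooth_of_localization {R Λ Ks : Type u} [CommRing R] [IsNoetherianRing R] [CommRing Λ]
    [IsNoetherianRing Λ] [Algebra R Λ] [Nontrivial R] [CommRing Ks] [Algebra R Ks] (S : Submonoid R) [IsLocalization S Ks]
    (hS : ∀ s ∈ S, ∀ x : R, s * x = 0 → x = 0) [Module.Flat R Λ]
    (hKs : _root_.Smoothing.IndSmooth Ks (Ks ⊗[R] Λ))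
    (h : ∀ J : Ideal R, J ≠ ⊥ → _root_.Smoothing.IndSmooth (R ⧸ J) (Λ ⧸ J.map (algebraMap R Λ))) :
    _root_.Smoothing.IndSmooth R Λ := by
  classical
  intro A _ _ hA φ
  haveI := hA
  obtain ⟨B', iB', iKB', hB', g', h', hgh'⟩ := hKs (Ks ⊗[R] A) inferInstance
    (Algebra.TensorProduct.map (AlgHom.id Ks Ks) φ)
  haveI := hB'
  letI : Algebra R B' := ((algebraMap Ks B').comp (algebraMap R Ks)).toAlgebra
  haveI : IsScalarTower R Ks B' := IsScalarTower.of_algebraMap_eq' rfl
  obtain ⟨B, _, _, α, β, hβα, π, hπS, hel⟩ := Delocalize.delocalize S φ g' h' hgh'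
  haveI : Algebra.FinitePresentation R B := finitePresentation_of_marked hel.choose
  haveI := isStandardSmooth_of_elementary _ hel
  have hπR : ∀ x : R, π * x = 0 → x = 0 := hS π hπS
  have hπΛ : ∀ x : Λ, algebraMap R Λ π * x = 0 → x = 0 := regular_map_of_flat π hπR
  have hmod : ∀ n, 0 < n → _root_.Smoothing.IndSmooth (R ⧸ Ideal.span {π ^ n})
      (Λ ⧸ (Ideal.span {π ^ n}).map (algebraMap R Λ)) := fun n _ => by
    refine h _ fun hbot => ?_
    rw [Ideal.span_singleton_eq_bot] at hbot
    have key : ∀ k (y : R), π ^ k * y = 0 → y = 0 := fun k => by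
      induction k with
      | zero => intro y hy; simpa using hy
      | succ k ihk => intro y hy; exact hπR y (ihk _ (by rwa [← mul_assoc, ← pow_succ]))
    exact one_ne_zero (key n 1 (by rw [mul_one]; exact hbot))
  have hπβ : algebraMap R Λ π ∈ _root_.Smoothing.singRad R β := by
    refine Ideal.le_radical ?_
    rw [← β.commutes π]
    exact Ideal.mem_map_of_mem _ (Desing.mem_singularIdeal_of_smooth inferInstance)
  obtain ⟨D, iD, iA, hD, g, hh, hgh⟩ := factor_of_resolvable (Ideal.span {algebraMap R Λ π})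
    (fun A' _ _ hA' φ' hle q _ hmin =>
      haveI := hA'
      resolvable_of_regular_element π hπR hπΛ hmod φ' (hle (Ideal.mem_span_singleton_self _)) q hmin.1.2)
    B inferInstance β ((Ideal.span_singleton_le_iff_mem _).mpr hπβ)
  exact ⟨D, iD, iA, hD, g.comp α, hh, by rw [← AlgHom.comp_assoc, hgh, hβα]⟩

set_option maxHeartbeats 1000000 in
/-- The inductive step. -/
theorem indSmooth_of_quotients {R Λ : Type u} [CommRing R] [IsNoetherianRing R] [CommRing Λ] [IsNoetherianRing Λ]
    [Algebra R Λ] [Module.Flat R Λ] (hF : FieldsOK R Λ)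
    (h : ∀ J : Ideal R, J ≠ ⊥ → _root_.Smoothing.IndSmooth (R ⧸ J) (Λ ⧸ J.map (algebraMap R Λ))) :
    _root_.Smoothing.IndSmooth R Λ := by
  classical
  by_cases hnil : nilradical R = ⊥
  swap
  · obtain ⟨n, hn⟩ := IsNoetherianRing.isNilpotent_nilradical R
    exact Deform.indSmooth_of_nilpotent n (nilradical R) hn (h _ hnil)
  haveI : IsReduced R := by
    rw [← nilradical_eq_bot_iff]
    exact hnil
  intro A _ _ hA φ
  haveI := hA
  rcases subsingleton_or_nontrivial R with hR | hR
  · haveI : Subsingleton A := Module.subsingleton R A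
    haveI : Subsingleton Λ := Module.subsingleton R Λ
    exact ⟨R, inferInstance, inferInstance, inferInstance,
      { toFun := fun _ => 0
        map_one' := Subsingleton.elim _ _
        map_mul' := fun _ _ => Subsingleton.elim _ _
        map_zero' := rfl
        map_add' := fun _ _ => Subsingleton.elim _ _
        commutes' := fun _ => Subsingleton.elim _ _ },
      Algebra.ofId R Λ, AlgHom.ext fun _ => Subsingleton.elim _ _⟩
  haveI : Finite ↥(minimalPrimes R) := (minimalPrimes.finite_of_isNoetherianRing R).to_subtype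
  haveI : ∀ p : ↥(minimalPrimes R), p.1.IsPrime := fun p => p.2.1.1
  let S : Submonoid R :=
    { carrier := {s | ∀ p : ↥(minimalPrimes R), s ∉ p.1}
      one_mem' := fun p => (Ideal.ne_top_iff_one _).mp (Ideal.IsPrime.ne_top inferInstance)
      mul_mem' := fun hx hy p hxy => (Ideal.IsPrime.mem_or_mem inferInstance hxy).elim (hx p) (hy p) }
  haveI : IsLocalization S (∀ p : ↥(minimalPrimes R), p.1.ResidueField) :=
    isLocalization_pi_minimal R S fun s => Iff.rfl
  refine indSmooth_of_localization (Ks := ∀ p : ↥(minimalPrimes R), p.1.ResidueField) S (fun s hs x hx => ?_)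
    (indSmooth_pi hF fun p : ↥(minimalPrimes R) => p.1) h A hA φ
  have hmem : x ∈ nilradical R := by
    rw [nilradical_eq_sInf, Ideal.mem_sInf]
    intro P hP
    haveI : P.IsPrime := hP
    obtain ⟨p, hp, hpP⟩ := Ideal.exists_minimalPrimes_le (bot_le : ⊥ ≤ P)
    haveI := hp.1.1
    exact hpP ((Ideal.IsPrime.mem_or_mem inferInstance (hx ▸ p.zero_mem : s * x ∈ p)).resolve_left (hs ⟨p, hp⟩))
  rwa [hnil, Submodule.mem_bot] at hmem

/-- Popescu's theorem. -/
theorem indSmooth_of_isRegularHom {R Λ : Type u} [CommRing R] [IsNoetherianRing R] [CommRing Λ] [IsNoetherianRing Λ]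
    [Algebra R Λ] (hreg : CAlg.IsRegularHom R Λ) : _root_.Smoothing.IndSmooth R Λ := by
  haveI : Module.Flat R Λ := hreg.1
  have hF := fieldsOK_of_isRegularHom hreg
  have key : ∀ I : Ideal R, I ≠ ⊥ → _root_.Smoothing.IndSmooth (R ⧸ I) (Λ ⧸ I.map (algebraMap R Λ)) := by
    intro I
    induction I using WellFoundedGT.induction with
    | ind I ih =>
      intro hI
      haveI : Module.Flat (R ⧸ I) (Λ ⧸ I.map (algebraMap R Λ)) :=
        Module.Flat.of_linearEquiv (Algebra.TensorProduct.quotIdealMapEquivQuotTensor Λ I).toLinearEquiv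
      refine indSmooth_of_quotients (fieldsOK_quotient I hF) fun J hJ => ?_
      let J' := J.comap (Ideal.Quotient.mk I)
      have hIJ : I ≤ J' := fun x hx => by
        show Ideal.Quotient.mk I x ∈ J
        rw [Ideal.Quotient.eq_zero_iff_mem.mpr hx]
        exact J.zero_mem
      have hJ' : J'.map (Ideal.Quotient.mk I) = J := Ideal.map_comap_of_surjective _ Ideal.Quotient.mk_surjective J
      have hlt : I < J' := lt_of_le_of_ne hIJ fun heq => hJ (by rw [← hJ', ← heq, Ideal.map_quotient_self])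
      have hne : J' ≠ ⊥ := fun h0 => hI (le_bot_iff.mp (h0 ▸ hIJ))
      have h1 := Deform.indSmooth_quotient hIJ (ih J' hlt hne)
      rwa [hJ'] at h1
  exact indSmooth_of_quotients hF key

end Groth.L14.Popescu
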