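import Groth.Agent.L14.Popescu.Approx
import Mathlib.RingTheory.Finiteness.Nakayama
import Mathlib.RingTheory.Etale.Basic

/-!
Etale neighbourhoods with trivial closed subscheme.
-/

set_option autoImplicit false
set_option linter.style.haveILetI false

noncomputable section

namespace Groth.L14.Popescu

universe u

/-- An element which is one at the section and kills its kernel modulo the ideal. -/
theorem exists_cut {C C' : Type u} [CommRing C] [CommRing C'] [Algebra C C'] [Algebra.FormallyUnramified C C']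
    [IsNoetherianRing C'] (J : Ideal C) (s : C' →ₐ[C] C ⧸ J) :
    ∃ f : C', s f = 1 ∧ ∀ z, s z = 0 → f * z ∈ J.map (algebraMap C C') := by
  let K : Ideal C' := RingHom.ker s.toRingHom
  have hJK : J.map (algebraMap C C') ≤ K := Ideal.map_le_iff_le_comap.mpr fun x hx => by
    show s (algebraMap C C' x) = 0
    rw [s.commutes, Ideal.Quotient.algebraMap_eq, Ideal.Quotient.eq_zero_iff_mem.mpr hx]
  let L : Ideal C' := K ^ 2 ⊔ J.map (algebraMap C C')
  have hL : ∀ z ∈ K, z ∈ L := by
    intro z hz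
    let g : (C ⧸ J) →ₐ[C] C' ⧸ L := Ideal.Quotient.liftₐ J (Algebra.ofId C (C' ⧸ L)) fun x hx => by
      show Ideal.Quotient.mk L (algebraMap C C' x) = 0
      exact Ideal.Quotient.eq_zero_iff_mem.mpr (Ideal.mem_sup_right (Ideal.mem_map_of_mem _ hx))
    have hnil : IsNilpotent (K.map (Ideal.Quotient.mk L)) := ⟨2, by
      rw [Ideal.zero_eq_bot, ← Ideal.map_pow, Ideal.map_eq_bot_iff_le_ker, Ideal.mk_ker]
      exact le_sup_left⟩
    have key := Algebra.FormallyUnramified.lift_unique (R := C) (A := C') (B := C' ⧸ L)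
      (K.map (Ideal.Quotient.mk L)) hnil (Ideal.Quotient.mkₐ C L) (g.comp s) (AlgHom.ext fun w => by
        refine Ideal.Quotient.eq.mpr ?_
        obtain ⟨c, hc⟩ := Ideal.Quotient.mk_surjective (s w)
        show Ideal.Quotient.mk L w - g (s w) ∈ _
        rw [← hc, show g (Ideal.Quotient.mk J c) = Ideal.Quotient.mk L (algebraMap C C' c) from rfl, ← map_sub]
        refine Ideal.mem_map_of_mem _ ?_
        show s (w - algebraMap C C' c) = 0
        rw [map_sub, s.commutes, Ideal.Quotient.algebraMap_eq, hc, sub_self])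
    have h := AlgHom.congr_fun key z
    rw [← Ideal.Quotient.eq_zero_iff_mem]
    refine h.trans ?_
    show g (s z) = 0
    rw [show s z = 0 from hz, map_zero]
  let D := C' ⧸ J.map (algebraMap C C')
  let Kb : Ideal D := K.map (Ideal.Quotient.mk _)
  have hle : Kb ≤ Kb • Kb := by
    rw [smul_eq_mul, ← pow_two, ← Ideal.map_pow]
    refine Ideal.map_le_iff_le_comap.mpr fun z hz => ?_
    rw [Ideal.mem_comap, ← Ideal.mem_comap, Ideal.comap_map_of_surjective' _ Ideal.Quotient.mk_surjective, Ideal.mk_ker]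
    exact hL z hz
  obtain ⟨r, hr1, hr2⟩ := Submodule.exists_sub_one_mem_and_smul_eq_zero_of_fg_of_le_smul Kb Kb
    (IsNoetherian.noetherian _) hle
  obtain ⟨f, rfl⟩ := Ideal.Quotient.mk_surjective r
  refine ⟨f, ?_, fun z hz => ?_⟩
  · rw [← map_one (Ideal.Quotient.mk (J.map (algebraMap C C'))), ← map_sub, ← Ideal.mem_comap,
      Ideal.comap_map_of_surjective' _ Ideal.Quotient.mk_surjective, Ideal.mk_ker, sup_eq_left.mpr hJK] at hr1
    have h : s (f - 1) = 0 := hr1
    rwa [map_sub, map_one, sub_eq_zero] at h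
  · rw [← Ideal.Quotient.eq_zero_iff_mem, map_mul]
    exact hr2 _ (Ideal.mem_map_of_mem _ hz)

/-- Surjectivity modulo an ideal gives surjectivity modulo its powers. -/
theorem exists_sub_mem_pow {C C' : Type u} [CommRing C] [CommRing C'] [Algebra C C'] (J : Ideal C)
    (h : ∀ z : C', ∃ c : C, z - algebraMap C C' c ∈ J.map (algebraMap C C')) (n : ℕ) :
    ∀ z : C', ∃ c : C, z - algebraMap C C' c ∈ (J ^ n).map (algebraMap C C') := by
  induction n with
  | zero =>
    intro z
    refine ⟨0, ?_⟩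
    rw [pow_zero, Ideal.one_eq_top, Ideal.map_top]
    trivial
  | succ n ih =>
    intro z
    obtain ⟨c, hc⟩ := ih z
    have : ∀ w ∈ (J ^ n).map (algebraMap C C'),
        ∃ d : C, w - algebraMap C C' d ∈ (J ^ (n + 1)).map (algebraMap C C') := by
      intro w hw
      rw [Ideal.map] at hw
      induction hw using Submodule.span_induction with
      | mem x hx =>
        obtain ⟨a, ha, rfl⟩ := hx
        exact ⟨a, by simp⟩
      | zero => exact ⟨0, by simp⟩
      | add x y _ _ hx hy =>
        obtain ⟨d, hd⟩ := hx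
        obtain ⟨e, he⟩ := hy
        refine ⟨d + e, ?_⟩
        rw [map_add, add_sub_add_comm]
        exact Ideal.add_mem _ hd he
      | smul t x hx ihx =>
        obtain ⟨d, hd⟩ := ihx
        obtain ⟨e, he⟩ := h t
        refine ⟨e * d, ?_⟩
        rw [smul_eq_mul, map_mul, show t * x - algebraMap C C' e * algebraMap C C' d =
          algebraMap C C' e * (x - algebraMap C C' d) + (t - algebraMap C C' e) * x by ring]
        refine Ideal.add_mem _ (Ideal.mul_mem_left _ _ hd) ?_
        rw [Ideal.map_pow, pow_succ']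
        rw [← Ideal.map_pow]
        exact Ideal.mul_mem_mul he hx
    obtain ⟨d, hd⟩ := this _ hc
    exact ⟨c + d, by rw [map_add, ← sub_sub]; exact hd⟩

/-- Approximation by etale neighbourhoods inducing a bijection modulo the ideal. -/
theorem exists_nbhd_approx {C : Type u} [CommRing C] [IsNoetherianRing C] (J : Ideal C)
    (hreg : CAlg.IsRegularHom C (AdicCompletion J C)) {D : Type u} [CommRing D] [Algebra C D]
    [Algebra.FinitePresentation C D] (φ : D →ₐ[C] AdicCompletion J C) (N : ℕ) (hN : 1 ≤ N) :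
    ∃ (C' : Type u) (_ : CommRing C') (_ : Algebra C C'), Algebra.Etale C C' ∧
      ∃ (ω : D →ₐ[C] C') (r : C' →ₐ[C] C ⧸ J ^ N),
        (∀ z : C', ∃ c : C, z - algebraMap C C' c ∈ J.map (algebraMap C C')) ∧
        (∀ c : C, algebraMap C C' c ∈ J.map (algebraMap C C') → c ∈ J) ∧
        (∀ d, r (ω d) = AdicCompletion.evalₐ J N (φ d)) ∧
        ∀ z, r z = 0 → z ∈ (J ^ N).map (algebraMap C C') := by
  obtain ⟨C₁, _, _, hE, ψ, ω, hψ⟩ := exists_etale_approx J hreg φ N
  haveI := hE
  haveI : IsNoetherianRing C₁ := Algebra.FiniteType.isNoetherianRing C C₁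
  let r₁ : C₁ →ₐ[C] C ⧸ J ^ N := (AdicCompletion.evalₐ J N).comp ψ
  let fac : (C ⧸ J ^ N) →ₐ[C] C ⧸ J :=
    { Ideal.Quotient.factor (Ideal.pow_le_self (by omega : N ≠ 0)) with commutes' := fun _ => rfl }
  obtain ⟨f, hf1, hfK⟩ := exists_cut J (fac.comp r₁)
  let C' := Localization.Away f
  have hunit : IsUnit (r₁ f) := by
    obtain ⟨c, hc⟩ := Ideal.Quotient.mk_surjective (r₁ f)
    have h1 : fac (Ideal.Quotient.mk (J ^ N) c) = 1 := (congrArg fac hc).trans hf1
    have h2 : c - 1 ∈ J := Ideal.Quotient.eq.mp (h1.trans (map_one (Ideal.Quotient.mk J)).symm)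
    have h3 : IsNilpotent (Ideal.Quotient.mk (J ^ N) (c - 1)) :=
      ⟨N, by rw [← map_pow, Ideal.Quotient.eq_zero_iff_mem]; exact Ideal.pow_mem_pow h2 N⟩
    rw [← hc, show c = 1 + (c - 1) by ring, map_add, map_one]
    exact h3.isUnit_one_add
  let r : C' →ₐ[C] C ⧸ J ^ N := IsLocalization.liftAlgHom (M := Submonoid.powers f) (f := r₁) fun z => by
    obtain ⟨k, hk⟩ := z.2
    rw [← hk, map_pow]
    exact hunit.pow k
  haveI : Algebra.Etale C C' := inferInstance
  have hr : ∀ z, r (algebraMap C₁ C' z) = r₁ z := fun z => IsLocalization.lift_eq _ z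
  have hf0 : algebraMap C₁ C' f - 1 ∈ J.map (algebraMap C C') := by
    have h := Ideal.mem_map_of_mem (algebraMap C₁ C') (hfK (f - 1) (by rw [map_sub, map_one, hf1, sub_self]))
    rw [Ideal.map_map, ← IsScalarTower.algebraMap_eq, map_mul, map_sub, map_one] at h
    have hu : IsUnit (algebraMap C₁ C' f) := IsLocalization.Away.algebraMap_isUnit f
    obtain ⟨v, hv⟩ := hu.exists_left_inv
    have := Ideal.mul_mem_left _ v h
    rwa [← mul_assoc, hv, one_mul] at this
  have hsurj : ∀ z : C', ∃ c : C, z - algebraMap C C' c ∈ J.map (algebraMap C C') := by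
    intro z
    obtain ⟨⟨w, ⟨_, k, rfl⟩⟩, hw⟩ := IsLocalization.surj (Submonoid.powers f) z
    obtain ⟨c, hc⟩ := Ideal.Quotient.mk_surjective (fac (r₁ w))
    refine ⟨c, ?_⟩
    have hwc : algebraMap C₁ C' w - algebraMap C C' c ∈ J.map (algebraMap C C') := by
      have h := Ideal.mem_map_of_mem (algebraMap C₁ C') (hfK (w - algebraMap C C₁ c) (by
        rw [map_sub, AlgHom.commutes, Ideal.Quotient.algebraMap_eq, hc]; exact sub_self _))
      rw [Ideal.map_map, ← IsScalarTower.algebraMap_eq, map_mul, map_sub,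
        ← IsScalarTower.algebraMap_apply] at h
      obtain ⟨v, hv⟩ := (IsLocalization.Away.algebraMap_isUnit (S := C') f).exists_left_inv
      have := Ideal.mul_mem_left _ v h
      rwa [← mul_assoc, hv, one_mul] at this
    have hfk : algebraMap C₁ C' (f ^ k) - 1 ∈ J.map (algebraMap C C') := by
      rw [map_pow]
      exact Ideal.mem_of_dvd _ (sub_one_dvd_pow_sub_one _ k) hf0
    rw [show z - algebraMap C C' c = (algebraMap C₁ C' w - algebraMap C C' c) - z * (algebraMap C₁ C' (f ^ k) - 1) from by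
      rw [← hw]; ring]
    exact Ideal.sub_mem _ hwc (Ideal.mul_mem_left _ _ hfk)
  have hmapr : ∀ (n : ℕ) (hn : n ≤ N) (z : C'), z ∈ (J ^ n).map (algebraMap C C') →
      r z ∈ (J ^ n).map (Ideal.Quotient.mk (J ^ N)) := fun n hn z hz => by
    have h := Ideal.mem_map_of_mem r.toRingHom hz
    rwa [Ideal.map_map, AlgHom.toRingHom_eq_coe, AlgHom.comp_algebraMap] at h
  refine ⟨C', inferInstance, inferInstance, inferInstance, (IsScalarTower.toAlgHom C C₁ C').comp ω, r, hsurj,
    fun c hc => ?_, fun d => (hr (ω d)).trans (hψ d), fun z hz => ?_⟩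
  · rw [← pow_one J] at hc
    have h := hmapr 1 hN _ hc
    rw [r.commutes, Ideal.Quotient.algebraMap_eq, pow_one, ← Ideal.mem_comap,
      Ideal.comap_map_of_surjective' _ Ideal.Quotient.mk_surjective, Ideal.mk_ker,
      sup_eq_left.mpr (Ideal.pow_le_self (by omega : N ≠ 0))] at h
    exact h
  · obtain ⟨c, hc⟩ := exists_sub_mem_pow J hsurj N z
    have h := hmapr N le_rfl _ hc
    rw [Ideal.map_quotient_self, Ideal.mem_bot, map_sub, hz, zero_sub, neg_eq_zero, r.commutes,
      Ideal.Quotient.algebraMap_eq, Ideal.Quotient.eq_zero_iff_mem] at h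
    have := Ideal.add_mem _ hc (Ideal.mem_map_of_mem (algebraMap C C') h)
    rwa [sub_add_cancel] at this

end Groth.L14.Popescu
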