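import Groth.Agent.L14.Popescu.SchemeEtale
import Groth.Agent.S9560
import Mathlib.RingTheory.Unramified.LocalRing
import Mathlib.RingTheory.Etale.Locus

/-!
Common etale neighbourhoods of two algebras of finite type with the same completed local rings.
-/

set_option autoImplicit false
set_option linter.style.haveILetI false

noncomputable section

open IsLocalRing TensorProduct

namespace Groth.L14.Popescu

universe u

set_option maxHeartbeats 1000000 in
/-- A common etale neighbourhood of two algebras of finite type over a G-ring. -/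
theorem exists_common_etale {R D E : Type u} [CommRing R] (hR : CAlg.IsGRing R) [CommRing D] [Algebra R D]
    [Algebra.FiniteType R D] [CommRing E] [Algebra R E] [Algebra.FiniteType R E] (q : Ideal D) [q.IsPrime]
    (p : Ideal E) [p.IsPrime]
    (θ : E →+* AdicCompletion (maximalIdeal (Localization.AtPrime q)) (Localization.AtPrime q))
    (hθR : ∀ r : R, θ (algebraMap R E r) =
      algebraMap R (AdicCompletion (maximalIdeal (Localization.AtPrime q)) (Localization.AtPrime q)) r)
    (θ₂ : Localization.AtPrime p →+* AdicCompletion (maximalIdeal (Localization.AtPrime q)) (Localization.AtPrime q))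
    (hθ₂ : ∀ e : E, θ₂ (algebraMap E (Localization.AtPrime p) e) = θ e)
    (hden : ∀ (k : ℕ) (c : Localization.AtPrime q), ∃ a : Localization.AtPrime p,
      AdicCompletion.evalₐ (maximalIdeal (Localization.AtPrime q)) k (θ₂ a) = Ideal.Quotient.mk _ c)
    (hker : ∀ (k : ℕ) (a : Localization.AtPrime p),
      AdicCompletion.evalₐ (maximalIdeal (Localization.AtPrime q)) k (θ₂ a) = 0 ↔
        a ∈ maximalIdeal (Localization.AtPrime p) ^ k) :
    ∃ (W : Type u) (_ : CommRing W) (_ : Algebra R W) (α : D →ₐ[R] W) (β : E →ₐ[R] W)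
      (χ : W →+* Localization.AtPrime q ⧸ maximalIdeal (Localization.AtPrime q) ^ 1),
      α.toRingHom.Etale ∧ β.toRingHom.Etale ∧
      (∀ d, χ (α d) = Ideal.Quotient.mk _ (algebraMap D (Localization.AtPrime q) d)) ∧
      ∀ e, χ (β e) = AdicCompletion.evalₐ (maximalIdeal (Localization.AtPrime q)) 1 (θ e) := by
  haveI : IsNoetherianRing R := hR.1
  haveI : IsNoetherianRing D := Algebra.FiniteType.isNoetherianRing R D
  haveI : IsNoetherianRing E := Algebra.FiniteType.isNoetherianRing R E
  haveI : Algebra.FinitePresentation R E := Algebra.FinitePresentation.of_finiteType.mp inferInstance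
  let A₁ := Localization.AtPrime q
  let m := maximalIdeal A₁
  have hG₁ : CAlg.IsGRing A₁ :=
    Groth.L06.GRingFT.isGRing_localization q.primeCompl A₁ (Groth.L06.GRingFT.isGRing_finiteType hR)
  have hreg := isRegularHom_completion_of_isLocalization (A := A₁) q hG₁
  let θR : E →ₐ[R] AdicCompletion m A₁ := { θ with commutes' := hθR }
  let φD : D ⊗[R] E →ₐ[D] AdicCompletion m A₁ :=
    Algebra.TensorProduct.lift (Algebra.ofId D _) θR fun _ _ => Commute.all _ _
  obtain ⟨W', iW, iDW, hE, ψ, ω, hψ⟩ := exists_etale_approx_of_isLocalization q.primeCompl m hreg φD 2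
  haveI := hE
  letI : Algebra R W' := ((algebraMap D W').comp (algebraMap R D)).toAlgebra
  haveI : IsScalarTower R D W' := IsScalarTower.of_algebraMap_eq' rfl
  haveI : Algebra.FiniteType R W' := Algebra.FiniteType.trans (inferInstance : Algebra.FiniteType R D) inferInstance
  let β : E →ₐ[R] W' := (ω.restrictScalars R).comp Algebra.TensorProduct.includeRight
  letI : Algebra E W' := β.toRingHom.toAlgebra
  haveI : IsScalarTower R E W' := IsScalarTower.of_algebraMap_eq fun r => (β.commutes r).symm
  haveI : Algebra.FiniteType E W' := Algebra.FiniteType.of_restrictScalars_finiteType R E W'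
  haveI : IsNoetherianRing W' := Algebra.FiniteType.isNoetherianRing R W'
  let ψN : W' →+* A₁ ⧸ m ^ 2 := (AdicCompletion.evalₐ m 2).toRingHom.comp ψ.toRingHom
  haveI : Nontrivial (A₁ ⧸ m ^ 2) := Ideal.Quotient.nontrivial_iff.mpr
    (ne_top_of_le_ne_top (maximalIdeal.isMaximal A₁).ne_top (Ideal.pow_le_self (by norm_num)))
  haveI : IsLocalRing (A₁ ⧸ m ^ 2) := IsLocalRing.of_surjective' (Ideal.Quotient.mk (m ^ 2)) Ideal.Quotient.mk_surjective
  have hψD : ∀ d : D, ψN (algebraMap D W' d) = Ideal.Quotient.mk (m ^ 2) (algebraMap D A₁ d) := fun d => by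
    show AdicCompletion.evalₐ m 2 (ψ (algebraMap D W' d)) = _
    rw [ψ.commutes, IsScalarTower.algebraMap_apply D A₁ (AdicCompletion m A₁), AlgHom.commutes]
    rfl
  have hψE : ∀ e : E, ψN (algebraMap E W' e) = AdicCompletion.evalₐ m 2 (θ e) := fun e => by
    show AdicCompletion.evalₐ m 2 (ψ (ω ((1 : D) ⊗ₜ e))) = _
    rw [hψ]
    show AdicCompletion.evalₐ m 2 (Algebra.TensorProduct.lift (Algebra.ofId D _) θR (fun _ _ => Commute.all _ _) ((1 : D) ⊗ₜ e)) = _
    rw [Algebra.TensorProduct.lift_tmul, map_one, one_mul]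
    rfl
  let u : Ideal W' := (maximalIdeal (A₁ ⧸ m ^ 2)).comap ψN
  haveI : u.IsPrime := Ideal.IsPrime.comap _
  have hunit : ∀ w : u.primeCompl, IsUnit (ψN w) := fun w => by
    by_contra h
    exact w.2 h
  let Φ : Localization.AtPrime u →+* A₁ ⧸ m ^ 2 := IsLocalization.lift (M := u.primeCompl) (g := ψN) hunit
  have hΦ : ∀ w, Φ (algebraMap W' (Localization.AtPrime u) w) = ψN w := fun w => IsLocalization.lift_eq _ w
  haveI : IsLocalHom Φ := ⟨fun z hz => by
    obtain ⟨w, s, rfl⟩ := IsLocalization.exists_mk'_eq u.primeCompl z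
    rw [IsLocalization.AtPrime.isUnit_mk'_iff (Localization.AtPrime u) u]
    intro hw
    have h1 := congrArg Φ (IsLocalization.mk'_spec (Localization.AtPrime u) w s)
    rw [map_mul, hΦ, hΦ] at h1
    exact hw (h1 ▸ hz.mul (hunit s))⟩
  have hθ₂ker : ∀ e : E, e ∈ p ↔ AdicCompletion.evalₐ m 1 (θ e) = 0 := fun e => by
    rw [← hθ₂, hker, pow_one]
    exact (IsLocalization.AtPrime.to_map_mem_maximal_iff (Localization.AtPrime p) p e).symm
  have hmaxT : ∀ c : A₁, Ideal.Quotient.mk (m ^ 2) c ∈ maximalIdeal (A₁ ⧸ m ^ 2) ↔ c ∈ m := fun c => by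
    haveI : IsLocalHom (Ideal.Quotient.mk (m ^ 2)) := IsLocalHom.of_surjective _ Ideal.Quotient.mk_surjective
    rw [mem_maximalIdeal, mem_maximalIdeal, mem_nonunits_iff, mem_nonunits_iff, isUnit_map_iff]
  have hqu : q = u.comap (algebraMap D W') := by
    ext d
    rw [Ideal.mem_comap, Ideal.mem_comap, hψD, hmaxT]
    exact (IsLocalization.AtPrime.to_map_mem_maximal_iff A₁ q d).symm
  have hpu : p = u.comap (algebraMap E W') := by
    ext e
    rw [Ideal.mem_comap, Ideal.mem_comap, hψE, hθ₂ker]
    obtain ⟨c, hc⟩ := Ideal.Quotient.mk_surjective (AdicCompletion.evalₐ m 2 (θ e))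
    rw [← hc, hmaxT, ← factor_evalₐ m (by norm_num : (1 : ℕ) ≤ 2), ← hc, Ideal.Quotient.factor_mk,
      Ideal.Quotient.eq_zero_iff_mem, pow_one]
  haveI : u.LiesOver q := ⟨hqu⟩
  haveI : u.LiesOver p := ⟨hpu⟩
  letI : Algebra A₁ (Localization.AtPrime u) := Localization.AtPrime.algebraOfLiesOver q u
  letI : Algebra (Localization.AtPrime p) (Localization.AtPrime u) := Localization.AtPrime.algebraOfLiesOver p u
  let g := algebraMap (Localization.AtPrime p) (Localization.AtPrime u)
  let h := algebraMap A₁ (Localization.AtPrime u)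
  have hh : ∀ c : A₁, Φ (h c) = Ideal.Quotient.mk (m ^ 2) c := fun c => by
    refine RingHom.congr_fun (IsLocalization.ringHom_ext q.primeCompl (RingHom.ext fun d => ?_) :
      Φ.comp h = Ideal.Quotient.mk (m ^ 2)) c
    show Φ (Localization.localRingHom q u (algebraMap D W') hqu (algebraMap D A₁ d)) = _
    rw [Localization.localRingHom_to_map, hΦ, hψD]
    rfl
  have hg : ∀ a, Φ (g a) = AdicCompletion.evalₐ m 2 (θ₂ a) := fun a => by
    refine RingHom.congr_fun (IsLocalization.ringHom_ext p.primeCompl (RingHom.ext fun e => ?_) :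
      Φ.comp g = (AdicCompletion.evalₐ m 2).toRingHom.comp θ₂) a
    show Φ (Localization.localRingHom p u (algebraMap E W') hpu (algebraMap E (Localization.AtPrime p) e)) =
      AdicCompletion.evalₐ m 2 (θ₂ (algebraMap E (Localization.AtPrime p) e))
    rw [Localization.localRingHom_to_map, hΦ, hψE, hθ₂]
  haveI : IsLocalHom g := inferInstanceAs (IsLocalHom (Localization.localRingHom p u (algebraMap E W') hpu))
  haveI : IsLocalHom h := inferInstanceAs (IsLocalHom (Localization.localRingHom q u (algebraMap D W') hqu))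
  haveI : IsScalarTower D A₁ (Localization.AtPrime u) := IsScalarTower.of_algebraMap_eq fun d => by
    show _ = Localization.localRingHom q u (algebraMap D W') hqu (algebraMap D A₁ d)
    rw [Localization.localRingHom_to_map, ← IsScalarTower.algebraMap_apply]
  have hflat : h.Flat := by
    haveI : Module.Flat D W' := Algebra.Smooth.flat D W'
    haveI : Module.Flat W' (Localization.AtPrime u) := IsLocalization.flat _ u.primeCompl
    haveI : Module.Flat D (Localization.AtPrime u) := Module.Flat.trans D W' _
    exact RingHom.flat_algebraMap_iff.mpr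
      ((Module.flat_iff_of_isLocalization A₁ q.primeCompl (Localization.AtPrime u)).mpr inferInstance)
  have hm : m.map h = maximalIdeal (Localization.AtPrime u) := by
    haveI : Algebra.FormallyUnramified D (Localization.AtPrime u) :=
      Algebra.FormallyUnramified.comp D W' (Localization.AtPrime u)
    haveI : Algebra.FormallyUnramified A₁ (Localization.AtPrime u) :=
      Algebra.FormallyUnramified.of_restrictScalars D A₁ (Localization.AtPrime u)
    haveI : Algebra.EssFiniteType W' (Localization.AtPrime u) :=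
      Algebra.EssFiniteType.of_isLocalization _ u.primeCompl
    haveI : Algebra.EssFiniteType D (Localization.AtPrime u) := Algebra.EssFiniteType.comp D W' _
    haveI : Algebra.EssFiniteType A₁ (Localization.AtPrime u) := Algebra.EssFiniteType.of_comp D A₁ _
    exact Algebra.FormallyUnramified.map_maximalIdeal
  have hres : ∀ z, ∃ c : A₁, z - h c ∈ maximalIdeal (Localization.AtPrime u) := fun z => by
    obtain ⟨c, hc⟩ := Ideal.Quotient.mk_surjective (Φ z)
    refine ⟨c, ?_⟩
    rw [mem_maximalIdeal, mem_nonunits_iff]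
    intro hu
    have := hu.map Φ
    rw [map_sub, hh, hc, sub_self, isUnit_zero_iff] at this
    exact zero_ne_one this
  have hkerΦ : ∀ z, Φ z = 0 → z ∈ maximalIdeal (Localization.AtPrime u) ^ 2 := fun z hz => by
    obtain ⟨c, hc⟩ := exists_sub_mem_pow (C := A₁) (C' := Localization.AtPrime u) m
      (fun z => by obtain ⟨c, hc⟩ := hres z; exact ⟨c, hm.ge hc⟩) 2 z
    have h0 := Ideal.mem_map_of_mem Φ hc
    rw [Ideal.map_map, show Φ.comp (algebraMap A₁ (Localization.AtPrime u)) = Ideal.Quotient.mk (m ^ 2) from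
      RingHom.ext hh, Ideal.map_quotient_self, Ideal.mem_bot, map_sub, hz, zero_sub, neg_eq_zero, hh,
      Ideal.Quotient.eq_zero_iff_mem] at h0
    have := Ideal.add_mem _ hc (Ideal.mem_map_of_mem h h0)
    rwa [sub_add_cancel, Ideal.map_pow, hm] at this
  obtain ⟨hgf, hgm, hgr⟩ := flat_unramified_of_truncations g h hflat hm hres θ₂ hden hker 2 le_rfl Φ hkerΦ hg
  have hEt : Algebra.IsEtaleAt E u := by
    rw [Groth.Agent.S9560.result E W' p u]
    have hsurj : Function.Surjective (algebraMap p.ResidueField u.ResidueField) := fun k => by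
      obtain ⟨z, rfl⟩ := residue_surjective (R := Localization.AtPrime u) k
      obtain ⟨a, ha⟩ := hgr z
      refine ⟨residue (Localization.AtPrime p) a, ?_⟩
      refine (?_ : _ = residue (Localization.AtPrime u) (g a)).trans ?_
      · rfl
      · symm
        rw [← sub_eq_zero, ← map_sub, residue_eq_zero_iff]
        exact ha
    refine ⟨RingHom.flat_algebraMap_iff.mp hgf, ?_,
      Module.Finite.of_surjective (Algebra.linearMap p.ResidueField u.ResidueField) hsurj, ⟨fun k => ?_⟩⟩
    · rw [← hgm, ← Localization.AtPrime.map_eq_maximalIdeal, Ideal.map_map]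
      congr 1
      refine RingHom.ext fun e => ?_
      show _ = Localization.localRingHom p u (algebraMap E W') hpu (algebraMap E (Localization.AtPrime p) e)
      rw [Localization.localRingHom_to_map, ← IsScalarTower.algebraMap_apply]
    · obtain ⟨k, rfl⟩ := hsurj k
      exact isSeparable_algebraMap k
  haveI : Algebra.FinitePresentation E W' := Algebra.FinitePresentation.of_finiteType.mp inferInstance
  obtain ⟨f, hf, hfE⟩ := Algebra.exists_etale_of_isEtaleAt (R := E) u
  let W := Localization.Away f
  let fac : A₁ ⧸ m ^ 2 →+* A₁ ⧸ m ^ 1 := Ideal.Quotient.factor (Ideal.pow_le_pow_right (by norm_num))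
  let χ : W →+* A₁ ⧸ m ^ 1 := IsLocalization.Away.lift (g := fac.comp ψN) f ((hunit ⟨f, hf⟩).map fac)
  have hχ : ∀ w, χ (algebraMap W' W w) = fac (ψN w) := fun w => IsLocalization.Away.lift_eq _ _ w
  refine ⟨W, inferInstance, inferInstance, IsScalarTower.toAlgHom R D W, IsScalarTower.toAlgHom R E W, χ,
    RingHom.etale_algebraMap.mpr inferInstance, RingHom.etale_algebraMap.mpr hfE, fun d => ?_, fun e => ?_⟩
  · show χ (algebraMap D W d) = _
    rw [IsScalarTower.algebraMap_apply D W' W, hχ, hψD]
    rfl
  · show χ (algebraMap E W e) = _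
    rw [IsScalarTower.algebraMap_apply E W' W, hχ, hψE]
    exact factor_evalₐ m (by norm_num) _

end Groth.L14.Popescu
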