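import Groth.Agent.L14.Popescu.Solutions
import Groth.Agent.L14.Popescu.Nbhd
import Groth.Agent.L06.GRingFT
import Groth.Agent.L21.CurvFib.EtaleField
import Mathlib.AlgebraicGeometry.Morphisms.Etale
import Mathlib.AlgebraicGeometry.Stalk

/-!
Elementary etale neighbourhoods approximating maps to completions.
-/

set_option autoImplicit false
set_option linter.style.haveILetI false

noncomputable section

open AlgebraicGeometry CategoryTheory IsLocalRing TensorProduct

namespace Groth.L14.Popescu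

universe u

/-- Local rings of algebras of finite type inherit the G-ring property from the base local ring. -/
theorem isGRing_atPrime_of_finiteType {A C Aq Cp : Type u} [CommRing A] [CommRing C] [Algebra A C]
    [Algebra.FiniteType A C] (p : Ideal C) [p.IsPrime] [CommRing Aq] [Algebra A Aq]
    [IsLocalization.AtPrime Aq (p.comap (algebraMap A C))] [CommRing Cp] [Algebra C Cp]
    [IsLocalization.AtPrime Cp p] (hG : CAlg.IsGRing Aq) : CAlg.IsGRing Cp := by
  let M : Submonoid C := (p.comap (algebraMap A C)).primeCompl.map (algebraMap A C)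
  let C' := Localization M
  letI : Algebra Aq C' := (IsLocalization.lift (M := (p.comap (algebraMap A C)).primeCompl)
    (g := algebraMap A C') fun s => by
      rw [IsScalarTower.algebraMap_apply A C C']
      exact IsLocalization.map_units C' (⟨algebraMap A C s, s, s.2, rfl⟩ : M)).toAlgebra
  haveI : IsScalarTower A Aq C' := IsScalarTower.of_algebraMap_eq fun x => (IsLocalization.lift_eq _ x).symm
  haveI : Algebra.FiniteType Aq C' := by
    obtain ⟨n, f, hf⟩ := Algebra.FiniteType.iff_quotient_mvPolynomial''.mp (inferInstance : Algebra.FiniteType A C)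
    refine Algebra.FiniteType.of_surjective (MvPolynomial.aeval (R := Aq) fun i => algebraMap C C' (f (MvPolynomial.X i)))
      fun z => ?_
    obtain ⟨⟨c, m⟩, hc⟩ := IsLocalization.surj M z
    obtain ⟨q, rfl⟩ := hf c
    obtain ⟨s, hs, hsm⟩ := m.2
    refine ⟨MvPolynomial.C (IsLocalization.mk' Aq (1 : A) (⟨s, hs⟩ : (p.comap (algebraMap A C)).primeCompl)) *
      MvPolynomial.map (algebraMap A Aq) q, ?_⟩
    have h1 : MvPolynomial.aeval (fun i => algebraMap C C' (f (MvPolynomial.X i))) q = algebraMap C C' (f q) :=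
      AlgHom.congr_fun (MvPolynomial.algHom_ext (f := MvPolynomial.aeval _)
        (g := (IsScalarTower.toAlgHom A C C').comp f) fun i => by simp) q
    rw [map_mul, MvPolynomial.aeval_map_algebraMap, MvPolynomial.aeval_C, h1, ← hc, ← hsm,
      ← IsScalarTower.algebraMap_apply, IsScalarTower.algebraMap_apply A Aq C', mul_left_comm, ← map_mul,
      IsLocalization.mk'_spec, map_one, map_one, mul_one]
  have hC' : CAlg.IsGRing C' := Groth.L06.GRingFT.isGRing_finiteType hG
  have hM : M ≤ p.primeCompl := by rintro _ ⟨s, hs, rfl⟩; exact hs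
  let p' : Ideal C' := p.map (algebraMap C C')
  have hdisj : Disjoint (M : Set C) (p : Set C) := Set.disjoint_left.mpr fun x hx hxp => hM hx hxp
  haveI : p'.IsPrime := IsLocalization.isPrime_of_isPrime_disjoint M C' p inferInstance hdisj
  have hcomap : p'.comap (algebraMap C C') = p :=
    IsLocalization.comap_map_of_isPrime_disjoint M C' inferInstance hdisj
  have h1 : CAlg.IsGRing (Localization.AtPrime p') :=
    Groth.L06.GRingFT.isGRing_localization p'.primeCompl _ hC'
  haveI : IsLocalization.AtPrime (Localization.AtPrime p') (p'.comap (algebraMap C C')) :=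
    IsLocalization.isLocalization_isLocalization_atPrime_isLocalization M (Localization.AtPrime p') p'
  haveI : IsLocalization p.primeCompl (Localization.AtPrime p') := by
    have h := (inferInstance : IsLocalization (p'.comap (algebraMap C C')).primeCompl (Localization.AtPrime p'))
    have he : (p'.comap (algebraMap C C')).primeCompl = p.primeCompl := by
      ext z
      show z ∉ p'.comap (algebraMap C C') ↔ z ∉ p
      rw [hcomap]
    rwa [he] at h
  exact Groth.L06.GRingFT.isGRing_of_ringEquiv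
    (IsLocalization.algEquiv p.primeCompl (Localization.AtPrime p') Cp).toRingEquiv h1

theorem map_maximalIdeal_equiv {R S : Type u} [CommRing R] [CommRing S] [IsLocalRing R] [IsLocalRing S] (e : R ≃+* S) :
    (maximalIdeal R).map e.toRingHom = maximalIdeal S :=
  IsLocalRing.eq_maximalIdeal ((Ideal.map_isMaximal_of_equiv e))

variable {X : Scheme.{u}}

/-- A morphism out of a local spectrum written through an affine chart. -/
theorem closedPoint_stalkTo {T : CommRingCat.{u}} [IsLocalRing T] {V : X.Opens} (hV : IsAffineOpen V) {x : X}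
    (hx : x ∈ V) (g : X.presheaf.stalk x ⟶ T) [IsLocalHom g.hom] (a : Spec T ⟶ X)
    (ha : a = Spec.map (X.presheaf.germ V x hx ≫ g) ≫ hV.fromSpec) :
    ∃ h : a (closedPoint T) = x,
      Scheme.stalkClosedPointTo a = (X.presheaf.stalkCongr (Inseparable.of_eq h)).hom ≫ g := by
  have ha' : a = (SpecToEquivOfLocalRing X T).symm ⟨x, g, inferInstance⟩ := by
    rw [ha, Spec.map_comp, Category.assoc]
    exact congrArg (Spec.map g ≫ ·) (hV.fromSpecStalk_eq_fromSpecStalk hx)
  obtain ⟨h, h'⟩ := SpecToEquivOfLocalRing_eq_iff.mp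
    ((congrArg (SpecToEquivOfLocalRing X T) ha').trans (Equiv.apply_symm_apply _ _))
  exact ⟨h, h'⟩

theorem germ_congr {s t : X} (h : s = t) (W : X.Opens) (hs : s ∈ W) (ht : t ∈ W) :
    X.presheaf.germ W s hs ≫ (X.presheaf.stalkCongr (Inseparable.of_eq h)).hom = X.presheaf.germ W t ht := by
  subst h
  simp

theorem germ_stalkMap_appLE {Y : Scheme.{u}} (f : X ⟶ Y) (W : Y.Opens) (U : X.Opens) (e : U ≤ f ⁻¹ᵁ W) (x : X)
    (hxW : f x ∈ W) (hxU : x ∈ U) :
    Y.presheaf.germ W (f x) hxW ≫ f.stalkMap x = f.appLE W U e ≫ X.presheaf.germ U x hxU := by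
  rw [Scheme.Hom.germ_stalkMap]
  show _ = (f.app W ≫ X.presheaf.map (homOfLE e).op) ≫ _
  rw [Category.assoc, TopCat.Presheaf.germ_res]

set_option maxHeartbeats 1000000 in
/-- Approximation of a map to the completion by an elementary etale neighbourhood. -/
theorem exists_elementary_approx {Y S : Scheme.{u}} [IsLocallyNoetherian S]
    (p : X ⟶ S) (q : Y ⟶ S) [LocallyOfFiniteType p] [LocallyOfFiniteType q] (x : X) (y : Y) (hxy : p x = q y)
    (hG : CAlg.IsGRing ↑(S.presheaf.stalk (p x)))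
    (φ : ↑(Y.presheaf.stalk y) →+* AdicCompletion (maximalIdeal ↑(X.presheaf.stalk x)) ↑(X.presheaf.stalk x))
    (hφ : φ.comp ((q.stalkMap y).hom.comp (S.presheaf.stalkCongr (Inseparable.of_eq hxy)).hom.hom) =
      (algebraMap ↑(X.presheaf.stalk x)
        (AdicCompletion (maximalIdeal ↑(X.presheaf.stalk x)) ↑(X.presheaf.stalk x))).comp (p.stalkMap x).hom)
    (hloc : ∀ b ∈ maximalIdeal ↑(Y.presheaf.stalk y),
      φ b ∈ (maximalIdeal ↑(X.presheaf.stalk x)).map (algebraMap ↑(X.presheaf.stalk x)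
        (AdicCompletion (maximalIdeal ↑(X.presheaf.stalk x)) ↑(X.presheaf.stalk x))))
    (N : ℕ) (hN : 1 ≤ N) :
    ∃ (U : Scheme.{u}) (e : U ⟶ X) (u : U) (heu : e u = x) (f : U ⟶ Y) (hfu : f u = y)
      (Φ : ↑(U.presheaf.stalk u) →+* ↑(X.presheaf.stalk x) ⧸ maximalIdeal ↑(X.presheaf.stalk x) ^ N),
      Etale e ∧ Function.Bijective (e.residueFieldMap u) ∧ f ≫ q = e ≫ p ∧
      (∀ c, Φ ((e.stalkMap u).hom ((X.presheaf.stalkCongr (Inseparable.of_eq heu)).inv.hom c)) =
        Ideal.Quotient.mk _ c) ∧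
      (∀ b, Φ ((f.stalkMap u).hom ((Y.presheaf.stalkCongr (Inseparable.of_eq hfu)).inv.hom b)) =
        AdicCompletion.evalₐ (maximalIdeal ↑(X.presheaf.stalk x)) N (φ b)) ∧
      ∀ z, Φ z = 0 → z ∈ maximalIdeal ↑(U.presheaf.stalk u) ^ N := by
  obtain ⟨_, ⟨W, hW, rfl⟩, hsW, -⟩ :=
    S.isBasis_affineOpens.exists_subset_of_mem_open (Set.mem_univ (p x)) isOpen_univ
  obtain ⟨_, ⟨U₀, hU₀, rfl⟩, hxU₀, hU₀W⟩ :=
    X.isBasis_affineOpens.exists_subset_of_mem_open (show x ∈ p ⁻¹ᵁ W from hsW) (p ⁻¹ᵁ W).isOpen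
  obtain ⟨_, ⟨V₀, hV₀, rfl⟩, hyV₀, hV₀W⟩ :=
    Y.isBasis_affineOpens.exists_subset_of_mem_open (show y ∈ q ⁻¹ᵁ W from (hxy ▸ hsW : q y ∈ W)) (q ⁻¹ᵁ W).isOpen
  change x ∈ U₀ at hxU₀
  change y ∈ V₀ at hyV₀
  let A := Γ(S, W)
  let C := Γ(X, U₀)
  let B := Γ(Y, V₀)
  letI : Algebra A C := (p.appLE W U₀ hU₀W).hom.toAlgebra
  letI : Algebra A B := (q.appLE W V₀ hV₀W).hom.toAlgebra
  haveI : Algebra.FiniteType A C := p.finiteType_appLE hW hU₀ hU₀W
  haveI : Algebra.FiniteType A B := q.finiteType_appLE hW hV₀ hV₀W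
  haveI : IsNoetherianRing A := IsLocallyNoetherian.component_noetherian ⟨W, hW⟩
  haveI : IsNoetherianRing C := Algebra.FiniteType.isNoetherianRing A C
  let Ox := X.presheaf.stalk x
  letI : Algebra C Ox := (X.presheaf.germ U₀ x hxU₀).hom.toAlgebra
  let pp : Ideal C := (hU₀.primeIdealOf ⟨x, hxU₀⟩).asIdeal
  haveI : IsLocalization.AtPrime Ox pp := hU₀.isLocalization_stalk ⟨x, hxU₀⟩
  letI : Algebra A (S.presheaf.stalk (p x)) := (S.presheaf.germ W (p x) hsW).hom.toAlgebra
  haveI : IsLocalization.AtPrime (S.presheaf.stalk (p x)) (pp.comap (algebraMap A C)) := by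
    have h := congrArg PrimeSpectrum.asIdeal (IsAffineOpen.comap_primeIdealOf_appLE W hW U₀ hU₀ hU₀W hxU₀ (f := p))
    have h2 := hW.isLocalization_stalk ⟨p x, hsW⟩
    have h3 : (hW.primeIdealOf ⟨p x, hsW⟩).asIdeal.primeCompl = (pp.comap (algebraMap A C)).primeCompl := by
      ext z
      show z ∉ (hW.primeIdealOf ⟨p x, hsW⟩).asIdeal ↔ z ∉ pp.comap (algebraMap A C)
      rw [show pp.comap (algebraMap A C) = (hW.primeIdealOf ⟨p x, hsW⟩).asIdeal from h]
    have h4 : IsLocalization (hW.primeIdealOf ⟨p x, hsW⟩).asIdeal.primeCompl (S.presheaf.stalk (p x)) := h2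
    rw [h3] at h4
    exact h4
  have hGx : CAlg.IsGRing Ox :=
    isGRing_atPrime_of_finiteType (A := A) (Aq := S.presheaf.stalk (p x)) pp hG
  haveI : IsNoetherianRing Ox := hGx.1
  let m := maximalIdeal Ox
  have hreg := isRegularHom_completion_of_isLocalization (A := Ox) pp hGx
  letI : Algebra A Ox := ((algebraMap C Ox).comp (algebraMap A C)).toAlgebra
  haveI : IsScalarTower A C Ox := IsScalarTower.of_algebraMap_eq' rfl
  let φB : B →+* AdicCompletion m Ox := φ.comp (Y.presheaf.germ V₀ y hyV₀).hom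
  have hφB : ∀ a : A, φB (algebraMap A B a) = algebraMap C (AdicCompletion m Ox) (algebraMap A C a) := fun a => by
    have h := RingHom.congr_fun hφ (S.presheaf.germ W (p x) hsW a)
    have g1 : S.presheaf.germ W (p x) hsW ≫ (S.presheaf.stalkCongr (Inseparable.of_eq hxy)).hom ≫ q.stalkMap y =
        q.appLE W V₀ hV₀W ≫ Y.presheaf.germ V₀ y hyV₀ :=
      (Category.assoc _ _ _).symm.trans ((congrArg (· ≫ q.stalkMap y) (germ_congr hxy W hsW (hV₀W hyV₀))).trans
        (germ_stalkMap_appLE q W V₀ hV₀W y (hV₀W hyV₀) hyV₀))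
    have g2 : S.presheaf.germ W (p x) hsW ≫ p.stalkMap x = p.appLE W U₀ hU₀W ≫ X.presheaf.germ U₀ x hxU₀ :=
      germ_stalkMap_appLE p W U₀ hU₀W x hsW hxU₀
    have e1 := CategoryTheory.congr_fun g1 a
    have e2 := CategoryTheory.congr_fun g2 a
    replace h := ((congrArg φ e1).symm.trans h).trans (congrArg (algebraMap Ox (AdicCompletion m Ox)) e2)
    rw [IsScalarTower.algebraMap_apply C Ox (AdicCompletion m Ox)]
    exact h
  haveI : IsScalarTower A C (AdicCompletion m Ox) := IsScalarTower.of_algebraMap_eq fun _ => rfl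
  let φA : B →ₐ[A] AdicCompletion m Ox :=
    { φB with commutes' := fun a => (hφB a).trans (IsScalarTower.algebraMap_apply A C (AdicCompletion m Ox) a).symm }
  let φD : C ⊗[A] B →ₐ[C] AdicCompletion m Ox :=
    Algebra.TensorProduct.lift (Algebra.ofId C _) φA fun _ _ => Commute.all _ _
  haveI : Algebra.FinitePresentation A B := Algebra.FinitePresentation.of_finiteType.mp inferInstance
  obtain ⟨R', _, _, hE, ψ, ω, hψ⟩ := exists_etale_approx_of_isLocalization pp.primeCompl m hreg φD N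
  haveI := hE
  let T : CommRingCat.{u} := CommRingCat.of (Ox ⧸ m ^ N)
  haveI : Nontrivial (Ox ⧸ m ^ N) := Ideal.Quotient.nontrivial_iff.mpr
    (ne_top_of_le_ne_top (maximalIdeal.isMaximal Ox).ne_top (Ideal.pow_le_self (by omega)))
  haveI : IsLocalRing T := IsLocalRing.of_surjective' (Ideal.Quotient.mk (m ^ N)) Ideal.Quotient.mk_surjective
  let ev : AdicCompletion m Ox →ₐ[Ox] Ox ⧸ m ^ N := AdicCompletion.evalₐ m N
  have hfg : m.FG := IsNoetherian.noetherian _
  let gX : X.presheaf.stalk x ⟶ T := CommRingCat.ofHom (Ideal.Quotient.mk (m ^ N))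
  haveI : IsLocalHom gX.hom := IsLocalHom.of_surjective _ Ideal.Quotient.mk_surjective
  let gY : Y.presheaf.stalk y ⟶ T := CommRingCat.ofHom (ev.toRingHom.comp φ)
  haveI : IsLocalHom gY.hom := by
    refine ((local_hom_TFAE gY.hom).out 0 2).mpr ?_
    rw [Ideal.map_le_iff_le_comap]
    intro b hb hu
    obtain ⟨c, hc⟩ := Ideal.Quotient.mk_surjective (ev (φ b))
    have h1 : Ideal.Quotient.factor (Ideal.pow_le_self (by omega : N ≠ 0)) (ev (φ b)) = (0 : Ox ⧸ m) := by
      have h2 := (evalₐ_eq_zero_iff hfg 1 (φ b)).mpr (by rw [pow_one]; exact hloc b hb)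
      rw [← factor_evalₐ m hN] at h2
      rw [← hc, Ideal.Quotient.factor_mk] at h2 ⊢
      rw [Ideal.Quotient.eq_zero_iff_mem] at h2 ⊢
      rwa [pow_one] at h2
    have hu' : IsUnit (ev (φ b)) := hu
    have h3 := hu'.map (Ideal.Quotient.factor (Ideal.pow_le_self (by omega : N ≠ 0)) : Ox ⧸ m ^ N →+* Ox ⧸ m)
    rw [h1, isUnit_zero_iff] at h3
    exact (maximalIdeal.isMaximal Ox).ne_top (Ideal.eq_top_iff_one _ |>.mpr
      (Ideal.Quotient.eq_zero_iff_mem.mp (by rw [map_one]; exact h3.symm)))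
  let e : Spec (CommRingCat.of R') ⟶ X := Spec.map (CommRingCat.ofHom (algebraMap C R')) ≫ hU₀.fromSpec
  let ωB : B →+* R' := ω.toRingHom.comp (Algebra.TensorProduct.includeRight (R := A) (A := C) (B := B)).toRingHom
  let f : Spec (CommRingCat.of R') ⟶ Y := Spec.map (CommRingCat.ofHom ωB) ≫ hV₀.fromSpec
  let ψN : R' →+* Ox ⧸ m ^ N := ev.toRingHom.comp ψ.toRingHom
  let a : Spec T ⟶ Spec (CommRingCat.of R') := Spec.map (CommRingCat.ofHom ψN)
  have hae : a ≫ e = Spec.map (X.presheaf.germ U₀ x hxU₀ ≫ gX) ≫ hU₀.fromSpec := by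
    show Spec.map _ ≫ Spec.map _ ≫ _ = _
    rw [← Spec.map_comp_assoc]
    congr 2
    ext c
    show ev (ψ (algebraMap C R' c)) = Ideal.Quotient.mk (m ^ N) (algebraMap C Ox c)
    rw [ψ.commutes, IsScalarTower.algebraMap_apply C Ox (AdicCompletion m Ox), AlgHom.commutes]
    rfl
  have haf : a ≫ f = Spec.map (Y.presheaf.germ V₀ y hyV₀ ≫ gY) ≫ hV₀.fromSpec := by
    show Spec.map _ ≫ Spec.map _ ≫ _ = _
    rw [← Spec.map_comp_assoc]
    congr 2
    ext b
    show ev (ψ (ω ((1 : C) ⊗ₜ b))) = ev (φB b)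
    rw [show ev (ψ (ω ((1 : C) ⊗ₜ b))) = ev (φD ((1 : C) ⊗ₜ b)) from hψ _]
    show ev (Algebra.TensorProduct.lift (Algebra.ofId C _) φA (fun _ _ => Commute.all _ _) ((1 : C) ⊗ₜ b)) = _
    rw [Algebra.TensorProduct.lift_tmul, map_one, one_mul]
    rfl
  obtain ⟨heu, he'⟩ := closedPoint_stalkTo hU₀ hxU₀ gX _ hae
  obtain ⟨hfu, hf'⟩ := closedPoint_stalkTo hV₀ hyV₀ gY _ haf
  rw [Scheme.stalkClosedPointTo_comp] at he' hf'
  let u := a (closedPoint T)
  let Φ := Scheme.stalkClosedPointTo a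
  have heu' : e u = x := heu
  have hfu' : f u = y := hfu
  haveI : Etale (Spec.map (CommRingCat.ofHom (algebraMap C R'))) := by
    rw [HasRingHomProperty.Spec_iff (P := @Etale)]
    exact RingHom.etale_algebraMap.mpr hE
  haveI := hU₀.isOpenImmersion_fromSpec
  have hEe : Etale e := @AlgebraicGeometry.Etale.etale_comp _ _ _ _ _ inferInstance inferInstance
  haveI := hEe
  have he : ∀ c, Φ ((e.stalkMap u) c) = gX ((X.presheaf.stalkCongr (Inseparable.of_eq heu)).hom c) := fun c =>
    CategoryTheory.congr_fun he' c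
  have hf : ∀ b, Φ ((f.stalkMap u) b) = gY ((Y.presheaf.stalkCongr (Inseparable.of_eq hfu)).hom b) := fun b =>
    CategoryTheory.congr_fun hf' b
  have hΦe : ∀ c, Φ ((e.stalkMap u) ((X.presheaf.stalkCongr (Inseparable.of_eq heu)).inv c)) =
      Ideal.Quotient.mk (m ^ N) c := fun c =>
    (he _).trans (congrArg (fun z => gX.hom z) (Iso.inv_hom_id_apply (X.presheaf.stalkCongr (Inseparable.of_eq heu)) c))
  have hΦf : ∀ b, Φ ((f.stalkMap u) ((Y.presheaf.stalkCongr (Inseparable.of_eq hfu)).inv b)) = ev (φ b) := fun b =>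
    (hf _).trans (congrArg (fun z => gY.hom z) (Iso.inv_hom_id_apply (Y.presheaf.stalkCongr (Inseparable.of_eq hfu)) b))
  let Ou := (Spec (CommRingCat.of R')).presheaf.stalk u
  letI : Algebra Ox Ou := ((e.stalkMap u).hom.comp (X.presheaf.stalkCongr (Inseparable.of_eq heu)).inv.hom).toAlgebra
  let Φ₀ : Ou →+* Ox ⧸ m ^ N := Φ.hom
  have halg : ∀ c : Ox, Φ₀ (algebraMap Ox Ou c) = Ideal.Quotient.mk (m ^ N) c := hΦe
  have hmm : m.map (algebraMap Ox Ou) = maximalIdeal Ou := by
    rw [← Groth.L21.CurvFib.map_maximalIdeal_stalkMap_of_etale e u, RingHom.algebraMap_toAlgebra]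
    refine (Ideal.map_map _ _).symm.trans (congrArg (Ideal.map (e.stalkMap u).hom) ?_)
    exact map_maximalIdeal_equiv (X.presheaf.stalkCongr (Inseparable.of_eq heu)).commRingCatIsoToRingEquiv.symm
  have hΦloc : ∀ z, z ∈ maximalIdeal Ou ↔ Φ₀ z ∈ maximalIdeal T := fun z => by
    haveI : IsLocalHom Φ₀ := Scheme.isLocalHom_stalkClosedPointTo a
    rw [mem_maximalIdeal, mem_maximalIdeal, mem_nonunits_iff, mem_nonunits_iff]
    exact not_congr (isUnit_map_iff Φ₀ z).symm
  have hsurj : ∀ z : Ou, ∃ c : Ox, z - algebraMap Ox Ou c ∈ m.map (algebraMap Ox Ou) := fun z => by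
    obtain ⟨c, hc⟩ := Ideal.Quotient.mk_surjective (Φ₀ z)
    refine ⟨c, ?_⟩
    rw [hmm, hΦloc, map_sub, halg, hc, sub_self]
    exact zero_mem _
  refine ⟨_, e, u, heu', f, hfu', Φ₀, hEe, ?_, ?_, hΦe, hΦf, fun z hz => ?_⟩
  · refine ⟨(e.residueFieldMap u).hom.injective, fun k => ?_⟩
    obtain ⟨z, rfl⟩ := IsLocalRing.residue_surjective (R := Ou) k
    obtain ⟨c, hc⟩ := hsurj z
    refine ⟨X.residue (e u) ((X.presheaf.stalkCongr (Inseparable.of_eq heu)).inv c), ?_⟩
    refine (CategoryTheory.congr_fun (Scheme.residue_residueFieldMap e u)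
      ((X.presheaf.stalkCongr (Inseparable.of_eq heu)).inv c)).trans ?_
    show IsLocalRing.residue Ou (algebraMap Ox Ou c) = IsLocalRing.residue Ou z
    symm
    rw [← sub_eq_zero, ← map_sub, residue_eq_zero_iff, ← hmm]
    exact hc
  · show (Spec.map _ ≫ hV₀.fromSpec) ≫ q = (Spec.map _ ≫ hU₀.fromSpec) ≫ p
    rw [Category.assoc, Category.assoc, ← IsAffineOpen.SpecMap_appLE_fromSpec q hW hV₀ hV₀W,
      ← IsAffineOpen.SpecMap_appLE_fromSpec p hW hU₀ hU₀W, ← Spec.map_comp_assoc, ← Spec.map_comp_assoc]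
    congr 2
    ext r
    show ω ((1 : C) ⊗ₜ algebraMap A B r) = algebraMap C R' (algebraMap A C r)
    rw [← ω.commutes, Algebra.TensorProduct.algebraMap_apply]
    congr 1
    rw [Algebra.algebraMap_eq_smul_one r, Algebra.algebraMap_eq_smul_one r, TensorProduct.tmul_smul,
      TensorProduct.smul_tmul']
    rfl
  · obtain ⟨c, hc⟩ := exists_sub_mem_pow m hsurj N z
    have hz0 : Φ₀ (z - algebraMap Ox Ou c) = 0 := by
      have h := Ideal.mem_map_of_mem Φ₀ hc
      rw [Ideal.map_map, show Φ₀.comp (algebraMap Ox Ou) = Ideal.Quotient.mk (m ^ N) from RingHom.ext halg,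
        Ideal.map_quotient_self, Ideal.mem_bot] at h
      exact h
    rw [map_sub, hz, zero_sub, neg_eq_zero, halg, Ideal.Quotient.eq_zero_iff_mem] at hz0
    have := Ideal.add_mem _ hc (Ideal.mem_map_of_mem (algebraMap Ox Ou) hz0)
    rw [sub_add_cancel, Ideal.map_pow, hmm] at this
    exact this

end Groth.L14.Popescu
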