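import Groth.Agent.L14.Popescu.Charts

/-!
Etale neighbourhoods matching a completed base change of schemes.
-/

set_option autoImplicit false
set_option linter.style.haveILetI false

noncomputable section

open AlgebraicGeometry CategoryTheory Limits IsLocalRing TensorProduct

namespace Groth.L14.Popescu

universe u

/-- Germs of global functions along a composition. -/
theorem germ_top_stalkMap_comp {X Y Z : Scheme.{u}} (j : X ⟶ Y) (k : Y ⟶ Z) (l : X ⟶ Z) (h : j ≫ k = l) (z : X) :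
    Z.presheaf.germ ⊤ (k (j z)) trivial ≫ k.stalkMap (j z) ≫ j.stalkMap z =
      l.appTop ≫ X.presheaf.germ ⊤ z trivial := by
  subst h
  rw [← Scheme.Hom.stalkMap_comp]
  exact Scheme.Hom.germ_stalkMap (j ≫ k) ⊤ z trivial

/-- The image of the closed point under a map given by a ring map. -/
theorem specMap_closedPoint {R : Type u} [CommRing R] {K : Type u} [CommRing K] [IsLocalRing K] (g : R →+* K)
    (z : PrimeSpectrum R) (h : ∀ r, r ∈ z.asIdeal ↔ ¬ IsUnit (g r)) :
    (Spec.map (CommRingCat.ofHom g)) (closedPoint K) = z := by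
  apply PrimeSpectrum.ext
  ext r
  exact (h r).symm

set_option maxHeartbeats 2000000 in
/-- The matching of a completed base change by etale neighbourhoods. -/
theorem exists_common_nbhds_pullback {X Y S T : Scheme.{u}} [IsLocallyNoetherian S]
    (p : X ⟶ S) (q : Y ⟶ T) [LocallyOfFiniteType p] [LocallyOfFiniteType q]
    [LocallyOfFiniteType (specULiftZIsTerminal.from T)]
    (x : X) (hG : CAlg.IsGRing ↑(S.presheaf.stalk (p x))) (y : Y)
    (σ : ↑(T.presheaf.stalk (q y)) →+*
      AdicCompletion (maximalIdeal ↑(S.presheaf.stalk (p x))) ↑(S.presheaf.stalk (p x)))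
    [IsLocalHom σ]
    (yσ : ↑(pullback q (Spec.map (CommRingCat.ofHom σ) ≫ T.fromSpecStalk (q y))))
    (hyσ : (pullback.fst q (Spec.map (CommRingCat.ofHom σ) ≫ T.fromSpecStalk (q y))) yσ = y)
    (hyσc : (pullback.snd q (Spec.map (CommRingCat.ofHom σ) ≫ T.fromSpecStalk (q y))) yσ =
      closedPoint (AdicCompletion (maximalIdeal ↑(S.presheaf.stalk (p x))) ↑(S.presheaf.stalk (p x))))
    (φ : AdicCompletion (maximalIdeal ↑(X.presheaf.stalk x)) ↑(X.presheaf.stalk x) ≃+*
      AdicCompletion (maximalIdeal ↑((pullback q (Spec.map (CommRingCat.ofHom σ) ≫ T.fromSpecStalk (q y))).presheaf.stalk yσ))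
        ↑((pullback q (Spec.map (CommRingCat.ofHom σ) ≫ T.fromSpecStalk (q y))).presheaf.stalk yσ))
    (hφ : φ.toRingHom.comp ((algebraMap ↑(X.presheaf.stalk x)
        (AdicCompletion (maximalIdeal ↑(X.presheaf.stalk x)) ↑(X.presheaf.stalk x))).comp (p.stalkMap x).hom) =
      ((algebraMap _ (AdicCompletion (maximalIdeal
          ↑((pullback q (Spec.map (CommRingCat.ofHom σ) ≫ T.fromSpecStalk (q y))).presheaf.stalk yσ)) _)).comp
        ((pullback.snd q (Spec.map (CommRingCat.ofHom σ) ≫ T.fromSpecStalk (q y))).stalkMap yσ).hom).comp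
        ((((Spec (CommRingCat.of (AdicCompletion (maximalIdeal ↑(S.presheaf.stalk (p x))) ↑(S.presheaf.stalk (p x))))).presheaf.germ
            ⊤ ((pullback.snd q (Spec.map (CommRingCat.ofHom σ) ≫ T.fromSpecStalk (q y))) yσ) trivial).hom.comp
          ((Scheme.ΓSpecIso (CommRingCat.of (AdicCompletion (maximalIdeal ↑(S.presheaf.stalk (p x)))
            ↑(S.presheaf.stalk (p x))))).inv.hom.comp
            (algebraMap ↑(S.presheaf.stalk (p x))
              (AdicCompletion (maximalIdeal ↑(S.presheaf.stalk (p x))) ↑(S.presheaf.stalk (p x)))))))) :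
    ∃ (V : Scheme.{u}) (v : V) (e : V ⟶ S) (τ : V ⟶ T) (W : Scheme.{u}) (w : W) (a : W ⟶ X)
      (b : W ⟶ pullback q τ),
      Etale e ∧ e v = p x ∧ Function.Bijective (e.residueFieldMap v) ∧ τ v = q y ∧
      Etale a ∧ a w = x ∧ Function.Bijective (a.residueFieldMap w) ∧
      a ≫ p = b ≫ pullback.snd q τ ≫ e ∧
      Etale b ∧ (pullback.fst q τ) (b w) = y ∧ (pullback.snd q τ) (b w) = v ∧
      Function.Bijective (b.residueFieldMap w) := by
  obtain ⟨_, ⟨W, hW, rfl⟩, hsW, -⟩ :=
    S.isBasis_affineOpens.exists_subset_of_mem_open (Set.mem_univ (p x)) isOpen_univ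
  obtain ⟨_, ⟨U₀, hU₀, rfl⟩, hxU₀, hU₀W⟩ :=
    X.isBasis_affineOpens.exists_subset_of_mem_open (show x ∈ p ⁻¹ᵁ W from hsW) (p ⁻¹ᵁ W).isOpen
  obtain ⟨_, ⟨WT, hWT, rfl⟩, htWT, -⟩ :=
    T.isBasis_affineOpens.exists_subset_of_mem_open (Set.mem_univ (q y)) isOpen_univ
  obtain ⟨_, ⟨V₀, hV₀, rfl⟩, hyV₀, hV₀W⟩ :=
    Y.isBasis_affineOpens.exists_subset_of_mem_open (show y ∈ q ⁻¹ᵁ WT from htWT) (q ⁻¹ᵁ WT).isOpen
  change p x ∈ W at hsW
  change x ∈ U₀ at hxU₀
  change q y ∈ WT at htWT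
  change y ∈ V₀ at hyV₀
  let Os := S.presheaf.stalk (p x)
  let A := Γ(S, W)
  let C := Γ(X, U₀)
  let AT := Γ(T, WT)
  let B := Γ(Y, V₀)
  letI : Algebra A C := (p.appLE W U₀ hU₀W).hom.toAlgebra
  haveI : Algebra.FiniteType A C := p.finiteType_appLE hW hU₀ hU₀W
  haveI : IsNoetherianRing A := IsLocallyNoetherian.component_noetherian ⟨W, hW⟩
  haveI : IsNoetherianRing Os := hG.1
  letI : Algebra AT B := (q.appLE WT V₀ hV₀W).hom.toAlgebra
  haveI : Algebra.FiniteType AT B := q.finiteType_appLE hWT hV₀ hV₀W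
  haveI : Algebra.FiniteType ℤ AT := by
    have h := (specULiftZIsTerminal.from T).finiteType_appLE (isAffineOpen_top _) hWT le_top
    have h1 : (algebraMap ℤ AT) = ((specULiftZIsTerminal.from T).appLE ⊤ WT le_top).hom.comp
        ((Scheme.ΓSpecIso (CommRingCat.of (ULift.{u} ℤ))).commRingCatIsoToRingEquiv.symm.toRingHom.comp
          ULift.ringEquiv.symm.toRingHom) := RingHom.ext_int _ _
    refine RingHom.finiteType_algebraMap.mp ?_
    rw [h1]
    exact RingHom.FiniteType.comp h (RingHom.FiniteType.of_surjective _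
      ((Scheme.ΓSpecIso (CommRingCat.of (ULift.{u} ℤ))).commRingCatIsoToRingEquiv.symm.surjective.comp
        ULift.ringEquiv.symm.surjective))
  letI : Algebra C (X.presheaf.stalk x) := (X.presheaf.germ U₀ x hxU₀).hom.toAlgebra
  let xx : Ideal C := (hU₀.primeIdealOf ⟨x, hxU₀⟩).asIdeal
  haveI : IsLocalization.AtPrime (X.presheaf.stalk x) xx := hU₀.isLocalization_stalk ⟨x, hxU₀⟩
  letI : Algebra A Os := (S.presheaf.germ W (p x) hsW).hom.toAlgebra
  let ss : Ideal A := (hW.primeIdealOf ⟨p x, hsW⟩).asIdeal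
  haveI : IsLocalization.AtPrime Os ss := hW.isLocalization_stalk ⟨p x, hsW⟩
  have hxs : xx.comap (algebraMap A C) = ss :=
    congrArg PrimeSpectrum.asIdeal (IsAffineOpen.comap_primeIdealOf_appLE W hW U₀ hU₀ hU₀W hxU₀ (f := p))
  let Sh := AdicCompletion (maximalIdeal Os) Os
  letI : Algebra AT Sh := (σ.comp (T.presheaf.germ WT (q y) htWT).hom).toAlgebra
  obtain ⟨j, hj, hjfst, hjsnd, hjrange⟩ := exists_pullback_chart q hWT hV₀ hV₀W Sh rfl
    (Spec.map (CommRingCat.ofHom σ) ≫ T.fromSpecStalk (q y)) (by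
      exact ((Spec.map_comp_assoc (T.presheaf.germ WT (q y) htWT) (CommRingCat.ofHom σ) hWT.fromSpec).trans
        (congrArg (Spec.map (CommRingCat.ofHom σ) ≫ ·) (hWT.fromSpecStalk_eq_fromSpecStalk htWT))).symm)
  haveI := hj
  obtain ⟨z, rfl⟩ := hjrange yσ (by rw [hyσ]; exact hyV₀)
  let D := Sh ⊗[AT] B
  let qD : Ideal D := PrimeSpectrum.asIdeal z
  haveI : qD.IsPrime := z.2
  let Oy := (Spec (CommRingCat.of D)).presheaf.stalk z
  letI : Algebra D Oy :=
    ((Scheme.ΓSpecIso (CommRingCat.of D)).inv ≫ (Spec (CommRingCat.of D)).presheaf.germ ⊤ z trivial).hom.toAlgebra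
  haveI : IsLocalization.AtPrime Oy qD := StructureSheaf.IsLocalization.to_stalk (CommRingCat.of D) z
  have hsnd : (Spec.map (CommRingCat.ofHom (Algebra.TensorProduct.includeLeftRingHom : Sh →+* D))) z =
      closedPoint Sh := by
    rw [← hjsnd]
    exact hyσc
  have hqS : ∀ r : Sh, r ⊗ₜ (1 : B) ∈ qD ↔ r ∈ maximalIdeal Sh := fun r =>
    SetLike.ext_iff.mp (congrArg PrimeSpectrum.asIdeal hsnd) r
  obtain ⟨c, hc⟩ := exists_completion_equiv (asIso (j.stalkMap z)).commRingCatIsoToRingEquiv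
  have hφ' : ∀ a : A, (φ.trans c) (algebraMap C _ (algebraMap A C a)) =
      algebraMap Oy (AdicCompletion (maximalIdeal Oy) Oy) (algebraMap D Oy (algebraMap A Sh a ⊗ₜ (1 : B))) := fun a => by
    have h1 := RingHom.congr_fun hφ ((S.presheaf.germ W (p x) hsW) a)
    have h2 := CategoryTheory.congr_fun (germ_stalkMap_appLE p W U₀ hU₀W x hsW hxU₀) a
    rw [IsScalarTower.algebraMap_apply C (X.presheaf.stalk x)
      (AdicCompletion (maximalIdeal (X.presheaf.stalk x)) (X.presheaf.stalk x))]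
    refine (congrArg c ((congrArg (fun r => φ (algebraMap (X.presheaf.stalk x) _ r)) h2.symm).trans h1)).trans ?_
    refine (hc _).trans (congrArg _ ?_)
    refine (CategoryTheory.congr_fun (germ_top_stalkMap_comp j _ _ hjsnd z)
      ((Scheme.ΓSpecIso (CommRingCat.of Sh)).inv (algebraMap Os Sh (S.presheaf.germ W (p x) hsW a)))).trans ?_
    exact congrArg (fun r => ((Spec (CommRingCat.of D)).presheaf.germ ⊤ z trivial) r)
      (CategoryTheory.congr_fun (Scheme.ΓSpecIso_inv_naturality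
        (CommRingCat.ofHom (Algebra.TensorProduct.includeLeftRingHom : Sh →+* D))) (algebraMap A Sh a)).symm
  obtain ⟨RV, iRV, iARV, iTRV, ψ, Wr, iWr, α, β, χ, hRV, hα, hβ, hcA, hcT, hxker, hxfrac, hχα, hbfrac⟩ :=
    exists_affine_nbhds (B := B) ss hG xx hxs qD (fun r hr => (hqS r).mpr hr) (φ.trans c) hφ'
  let K := ResidueField Oy
  let K₀ := ResidueField Sh
  let ν : RV →+* K₀ := (residue Sh).comp ψ.toRingHom
  let e : Spec (CommRingCat.of RV) ⟶ S := Spec.map (CommRingCat.ofHom (algebraMap A RV)) ≫ hW.fromSpec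
  let τ : Spec (CommRingCat.of RV) ⟶ T := Spec.map (CommRingCat.ofHom (algebraMap AT RV)) ≫ hWT.fromSpec
  obtain ⟨jV, hjV, hjVfst, hjVsnd, -⟩ := exists_pullback_chart q hWT hV₀ hV₀W RV rfl τ rfl
  haveI := hjV
  let a : Spec (CommRingCat.of Wr) ⟶ X := Spec.map (CommRingCat.ofHom β) ≫ hU₀.fromSpec
  let b : Spec (CommRingCat.of Wr) ⟶ pullback q τ := Spec.map (CommRingCat.ofHom α) ≫ jV
  let pv : Spec (CommRingCat.of K₀) ⟶ Spec (CommRingCat.of RV) := Spec.map (CommRingCat.ofHom ν)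
  let pw : Spec (CommRingCat.of K) ⟶ Spec (CommRingCat.of Wr) := Spec.map (CommRingCat.ofHom χ)
  haveI := hW.isOpenImmersion_fromSpec
  haveI := hU₀.isOpenImmersion_fromSpec
  haveI : Etale (Spec.map (CommRingCat.ofHom (algebraMap A RV))) := by
    rw [HasRingHomProperty.Spec_iff (P := @Etale)]
    exact RingHom.etale_algebraMap.mpr hRV
  haveI : Etale (Spec.map (CommRingCat.ofHom β)) := by
    rw [HasRingHomProperty.Spec_iff (P := @Etale)]
    exact hβ
  haveI : Etale (Spec.map (CommRingCat.ofHom α)) := by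
    rw [HasRingHomProperty.Spec_iff (P := @Etale)]
    exact hα
  haveI : Etale e := @AlgebraicGeometry.Etale.etale_comp _ _ _ _ _ inferInstance inferInstance
  haveI : Etale a := @AlgebraicGeometry.Etale.etale_comp _ _ _ _ _ inferInstance inferInstance
  haveI : Etale b := @AlgebraicGeometry.Etale.etale_comp _ _ _ _ _ inferInstance inferInstance
  have hK : ∀ z ∈ maximalIdeal K, z = (0 : K) := fun z hz => by
    by_contra h
    exact hz (Ne.isUnit h)
  have hK₀ : ∀ z ∈ maximalIdeal K₀, z = (0 : K₀) := fun z hz => by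
    by_contra h
    exact hz (Ne.isUnit h)
  have hOs : ∀ r : Os, IsUnit (algebraMap Os Sh r) → IsUnit r := fun r hr => by
    by_contra h
    have h1 : algebraMap Os Sh r ∈ maximalIdeal Sh := by
      rw [AdicCompletion.maximalIdeal_eq_map]
      exact Ideal.mem_map_of_mem _ h
    exact h1 hr
  let gs : S.presheaf.stalk (p x) ⟶ CommRingCat.of K₀ := CommRingCat.ofHom ((residue Sh).comp (algebraMap Os Sh))
  let gt : T.presheaf.stalk (q y) ⟶ CommRingCat.of K₀ := CommRingCat.ofHom ((residue Sh).comp σ)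
  haveI : IsLocalHom gs.hom :=
    ⟨fun r hr => hOs r ((isUnit_map_iff (residue Sh) _).mp hr)⟩
  haveI : IsLocalHom gt.hom :=
    ⟨fun r hr => (isUnit_map_iff σ r).mp ((isUnit_map_iff (residue Sh) _).mp hr)⟩
  have hev : e (pv (closedPoint K₀)) = p x := (closedPoint_stalkTo (T := CommRingCat.of K₀) hW hsW gs (pv ≫ e) (by
      show Spec.map _ ≫ Spec.map _ ≫ _ = _
      rw [← Spec.map_comp_assoc]
      congr 2
      ext r
      exact congrArg (residue Sh) (ψ.commutes r))).1
  have hτv : τ (pv (closedPoint K₀)) = q y := (closedPoint_stalkTo (T := CommRingCat.of K₀) hWT htWT gt (pv ≫ τ) (by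
      show Spec.map _ ≫ Spec.map _ ≫ _ = _
      rw [← Spec.map_comp_assoc]
      congr 2
      ext r
      exact hcT r)).1
  have hpwa : pw ≫ a = Spec.map (CommRingCat.ofHom (χ.comp β)) ≫ hU₀.fromSpec := by
    show Spec.map _ ≫ Spec.map _ ≫ _ = _
    rw [← Spec.map_comp_assoc]
    rfl
  have haw : a (pw (closedPoint K)) = x := by
    refine (congrArg (fun f : Spec (CommRingCat.of K) ⟶ X => f (closedPoint K)) hpwa).trans ?_
    refine (congrArg hU₀.fromSpec (specMap_closedPoint (χ.comp β) (hU₀.primeIdealOf ⟨x, hxU₀⟩) fun r => ?_)).trans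
      (hU₀.fromSpec_primeIdealOf ⟨x, hxU₀⟩)
    rw [isUnit_iff_ne_zero, not_not]
    exact (hxker r).symm
  have hbw : ∀ {R : CommRingCat.{u}} (g : R ⟶ CommRingCat.of (RV ⊗[AT] B)) (zz : PrimeSpectrum R)
      (_ : ∀ r, r ∈ zz.asIdeal ↔ ¬ IsUnit (χ (α (g r)))),
      (Spec.map g) ((Spec.map (CommRingCat.ofHom α)) (pw (closedPoint K))) = zz := fun g zz h => by
    have h1 : Spec.map (CommRingCat.ofHom χ) ≫ Spec.map (CommRingCat.ofHom α) ≫ Spec.map g =
        Spec.map (CommRingCat.ofHom ((χ.comp α).comp g.hom)) := by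
      rw [← Spec.map_comp, ← Spec.map_comp]
      rfl
    exact (congrArg (fun f : Spec (CommRingCat.of K) ⟶ Spec _ => f (closedPoint K)) h1).trans
      (specMap_closedPoint _ zz h)
  have hres : ∀ d : D, ¬ IsUnit (residue Oy (algebraMap D Oy d)) ↔ d ∈ qD := fun d => by
    rw [isUnit_map_iff]
    exact IsLocalization.AtPrime.to_map_mem_maximal_iff Oy qD d
  refine ⟨_, pv (closedPoint K₀), e, τ, _, pw (closedPoint K), a, b, inferInstance, hev, ?_, hτv, inferInstance, haw,
    ?_, ?_, inferInstance, ?_, ?_, ?_⟩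
  · refine residueFieldMap_bijective_of_fractions (K := CommRingCat.of K₀) e pv hK₀ hW
      (CommRingCat.ofHom ((residue Sh).comp (algebraMap A Sh))) (by
        show Spec.map _ ≫ Spec.map _ ≫ _ = _
        rw [← Spec.map_comp_assoc]
        congr 2
        ext r
        exact congrArg (residue Sh) (ψ.commutes r)) fun k => ?_
    obtain ⟨r, rfl⟩ := residue_surjective k
    obtain ⟨os, hos⟩ := Ideal.Quotient.mk_surjective (AdicCompletion.evalₐ (maximalIdeal Os) 1 r)
    obtain ⟨⟨aa, n⟩, han⟩ := IsLocalization.surj ss.primeCompl os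
    refine ⟨aa, n, ?_, ?_⟩
    · show residue Sh (algebraMap A Sh n) ≠ 0
      rw [IsScalarTower.algebraMap_apply A Os Sh]
      exact (((IsLocalization.map_units Os n).map (algebraMap Os Sh)).map (residue Sh)).ne_zero
    · show residue Sh r * residue Sh (algebraMap A Sh n) = residue Sh (algebraMap A Sh aa)
      rw [← map_mul, ← sub_eq_zero, ← map_sub, residue_eq_zero_iff, IsScalarTower.algebraMap_apply A Os Sh,
        IsScalarTower.algebraMap_apply A Os Sh]
      refine (evalₐ_one_eq_zero_iff (R := Os) _).mp ?_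
      rw [map_sub, map_mul, AlgHom.commutes, AlgHom.commutes, ← hos, Ideal.Quotient.algebraMap_eq, ← map_mul, han,
        sub_self]
  · exact residueFieldMap_bijective_of_fractions (K := CommRingCat.of K) a pw hK hU₀
      (CommRingCat.ofHom (χ.comp β)) hpwa hxfrac
  · show (Spec.map _ ≫ hU₀.fromSpec) ≫ p = (Spec.map _ ≫ jV) ≫ pullback.snd q τ ≫ Spec.map _ ≫ hW.fromSpec
    rw [Category.assoc, Category.assoc, reassoc_of% hjVsnd, ← IsAffineOpen.SpecMap_appLE_fromSpec p hW hU₀ hU₀W,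
      ← Spec.map_comp_assoc, ← Spec.map_comp_assoc, ← Spec.map_comp_assoc]
    congr 2
    ext r
    exact (hcA r).symm
  · refine (congrArg (fun f : Spec (CommRingCat.of (RV ⊗[AT] B)) ⟶ Y =>
      f ((Spec.map (CommRingCat.ofHom α)) (pw (closedPoint K)))) hjVfst).trans ?_
    refine Eq.trans (congrArg hV₀.fromSpec (hbw _ ((Spec.map (CommRingCat.ofHom
      (Algebra.TensorProduct.includeRight : B →ₐ[AT] D).toRingHom)) z) fun r => ?_)) ?_
    · show (1 : Sh) ⊗ₜ r ∈ qD ↔ ¬ IsUnit (χ (α ((1 : RV) ⊗ₜ r)))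
      rw [hχα, map_one]
      exact (hres _).symm
    · exact (congrArg (fun f : Spec (CommRingCat.of D) ⟶ Y => f z) hjfst).symm.trans hyσ
  · refine (congrArg (fun f : Spec (CommRingCat.of (RV ⊗[AT] B)) ⟶ Spec (CommRingCat.of RV) =>
      f ((Spec.map (CommRingCat.ofHom α)) (pw (closedPoint K)))) hjVsnd).trans ?_
    refine hbw _ (pv (closedPoint K₀)) fun r => ?_
    show residue Sh (ψ r) ∈ maximalIdeal K₀ ↔ ¬ IsUnit (χ (α (r ⊗ₜ (1 : B))))
    rw [hχα, hres, hqS]
    exact not_congr (isUnit_map_iff (residue Sh) _)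
  · rw [Scheme.residueFieldMap_comp]
    have hbij : Function.Bijective (jV.residueFieldMap ((Spec.map (CommRingCat.ofHom α)) (pw (closedPoint K)))) :=
      ConcreteCategory.bijective_of_isIso _
    show Function.Bijective (_ ∘ (jV.residueFieldMap ((Spec.map (CommRingCat.ofHom α)) (pw (closedPoint K)))))
    refine (Function.Bijective.comp ?_ hbij)
    refine residueFieldMap_bijective_of_fractions (K := CommRingCat.of K) (Spec.map (CommRingCat.ofHom α)) pw hK
      (isAffineOpen_top _)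
      ((Scheme.ΓSpecIso (CommRingCat.of (RV ⊗[AT] B))).hom ≫ CommRingCat.ofHom (χ.comp α)) ?_ fun k => ?_
    · show Spec.map _ ≫ Spec.map _ = _
      rw [← Spec.map_comp, IsAffineOpen.fromSpec_top, Scheme.isoSpec_Spec_inv, ← Spec.map_comp]
      congr 1
      exact (Iso.inv_hom_id_assoc _ _).symm
    · obtain ⟨d, d', hne, heq⟩ := hbfrac k
      obtain ⟨d, rfl⟩ := (Scheme.ΓSpecIso (CommRingCat.of (RV ⊗[AT] B))).commRingCatIsoToRingEquiv.surjective d
      obtain ⟨d', rfl⟩ := (Scheme.ΓSpecIso (CommRingCat.of (RV ⊗[AT] B))).commRingCatIsoToRingEquiv.surjective d'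
      exact ⟨d, d', hne, heq⟩

end Groth.L14.Popescu
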