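import Groth.Agent.L14.Popescu.Approx
import Groth.Agent.S0600
import Groth.Agent.S9294
import Groth.Agent.S19379

/-!
Approximation of solutions of polynomial systems.
-/

set_option autoImplicit false
set_option linter.style.haveILetI false

noncomputable section

open MvPolynomial

namespace Groth.L14.Popescu

universe u

variable {A : Type u} [CommRing A]

/-- The algebra of a system is finitely presented and carries its solutions. -/
theorem exists_solution_algebra {n m : ℕ} (F : Fin m → MvPolynomial (Fin n) A) {T : Type u} [CommRing T] [Algebra A T]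
    (a : Fin n → T) (ha : ∀ j, aeval a (F j) = 0) :
    ∃ (C : Type u) (_ : CommRing C) (_ : Algebra A C) (_ : Algebra.FinitePresentation A C) (x : Fin n → C)
      (φ : C →ₐ[A] T), (∀ i, φ (x i) = a i) ∧ ∀ j, aeval x (F j) = 0 := by
  let J : Ideal (MvPolynomial (Fin n) A) := Ideal.span (Set.range F)
  haveI : Algebra.FinitePresentation A (MvPolynomial (Fin n) A ⧸ J) :=
    Algebra.FinitePresentation.quotient (Submodule.fg_span (Set.finite_range F))
  have hJ : ∀ p ∈ J, aeval a p = 0 := by
    show J ≤ RingHom.ker (aeval a)
    rw [Ideal.span_le]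
    rintro _ ⟨j, rfl⟩
    exact ha j
  refine ⟨_, inferInstance, inferInstance, inferInstance, fun i => Ideal.Quotient.mk J (X i),
    Ideal.Quotient.liftₐ J (aeval a) hJ, fun i => aeval_X a i, fun j => ?_⟩
  show aeval (fun i => Ideal.Quotient.mkₐ A J (X i)) (F j) = 0
  rw [← comp_aeval_apply (f := X) (Ideal.Quotient.mkₐ A J), aeval_X_left_apply]
  exact Ideal.Quotient.eq_zero_iff_mem.mpr (Ideal.subset_span ⟨j, rfl⟩)

/-- Approximation of solutions along a henselian pair with regular completion map. -/
theorem exists_solution_of_henselian [IsNoetherianRing A] (I : Ideal A) [HenselianRing A I]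
    (hreg : CAlg.IsRegularHom A (AdicCompletion I A)) {n m : ℕ} (F : Fin m → MvPolynomial (Fin n) A)
    (a : Fin n → AdicCompletion I A) (ha : ∀ j, aeval a (F j) = 0) (N : ℕ) :
    ∃ b : Fin n → A, (∀ j, eval b (F j) = 0) ∧
      ∀ i, a i - algebraMap A (AdicCompletion I A) (b i) ∈ (I ^ N).map (algebraMap A (AdicCompletion I A)) := by
  obtain ⟨C, _, _, _, x, φ, hx, hxF⟩ := exists_solution_algebra F a ha
  obtain ⟨τ, hτ⟩ := exists_section_approx I hreg φ N
  refine ⟨fun i => τ (x i), fun j => ?_, fun i => ?_⟩
  · have h := congrArg τ (hxF j)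
    rw [map_zero, comp_aeval_apply] at h
    rw [← h, aeval_eq_eval]
  · rw [← evalₐ_eq_zero_iff (IsNoetherian.noetherian I), map_sub, AlgHom.commutes, ← hx i, ← hτ (x i)]
    exact sub_self _

/-- Approximation of solutions by etale neighbourhoods, over a ring of which the given one is a localisation. -/
theorem exists_etale_solution {R : Type u} [CommRing R] [IsNoetherianRing R] [Algebra R A] [IsNoetherianRing A]
    (M : Submonoid R) [IsLocalization M A] (I : Ideal A) (hreg : CAlg.IsRegularHom R (AdicCompletion I A))
    {n m : ℕ} (F : Fin m → MvPolynomial (Fin n) R) (a : Fin n → AdicCompletion I A)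
    (ha : ∀ j, aeval a (F j) = 0) (N : ℕ) :
    ∃ (R' : Type u) (_ : CommRing R') (_ : Algebra R R'), Algebra.Etale R R' ∧
      ∃ (ψ : R' →ₐ[R] AdicCompletion I A) (b : Fin n → R'), (∀ j, aeval b (F j) = 0) ∧
        ∀ i, a i - ψ (b i) ∈ (I ^ N).map (algebraMap A (AdicCompletion I A)) := by
  obtain ⟨C, _, _, _, x, φ, hx, hxF⟩ := exists_solution_algebra F a ha
  obtain ⟨R', iR, iA, hE, ψ, ω, hψ⟩ := exists_etale_approx_of_isLocalization M I hreg φ N
  refine ⟨R', iR, iA, hE, ψ, fun i => ω (x i), fun j => ?_, fun i => ?_⟩
  · rw [← comp_aeval_apply, hxF, map_zero]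
  · rw [← evalₐ_eq_zero_iff (IsNoetherian.noetherian I), map_sub, ← hx i, hψ]
    exact sub_self _

/-- The completion of a local ring of a Noetherian ring is regular over the ring, for a G-ring local ring. -/
theorem isRegularHom_completion_atPrime {R : Type u} [CommRing R] [IsNoetherianRing R] (p : Ideal R) [p.IsPrime]
    (hG : CAlg.IsGRing (Localization.AtPrime p)) :
    CAlg.IsRegularHom R (AdicCompletion (IsLocalRing.maximalIdeal (Localization.AtPrime p)) (Localization.AtPrime p)) := by
  let Am := Localization.AtPrime p
  haveI : IsNoetherianRing Am := hG.1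
  haveI : Algebra.FormallySmooth R Am := Algebra.FormallySmooth.of_isLocalization p.primeCompl
  have h1 : CAlg.IsRegularHom R Am := Groth.Agent.S19379.result R Am
  have h2 := Groth.Agent.S0600.result Am hG (IsLocalRing.maximalIdeal Am)
  haveI : IsNoetherianRing (AdicCompletion (IsLocalRing.maximalIdeal Am) Am) :=
    Groth.L01.AdicNoeth.isNoetherianRing_adicCompletion _ (IsNoetherian.noetherian _)
  refine Groth.Agent.S9294.result R Am _ h1 h2 fun q _ => ?_
  haveI : Algebra.EssFiniteType R (Localization.AtPrime q) :=
    Algebra.EssFiniteType.of_isLocalization _ q.primeCompl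
  haveI : Algebra.EssFiniteType (Localization.AtPrime q) q.ResidueField := inferInstance
  haveI : Algebra.EssFiniteType R q.ResidueField := Algebra.EssFiniteType.comp R (Localization.AtPrime q) _
  haveI : IsNoetherianRing (TensorProduct R (AdicCompletion (IsLocalRing.maximalIdeal Am) Am) q.ResidueField) :=
    Algebra.EssFiniteType.isNoetherianRing (AdicCompletion (IsLocalRing.maximalIdeal Am) Am) _
  exact isNoetherianRing_of_ringEquiv _ (Algebra.TensorProduct.comm R
    (AdicCompletion (IsLocalRing.maximalIdeal Am) Am) q.ResidueField).toRingEquiv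

/-- The completion of a localization at a prime is regular over the ring, for a G-ring local ring. -/
theorem isRegularHom_completion_of_isLocalization {R A : Type u} [CommRing R] [IsNoetherianRing R] [CommRing A]
    [IsLocalRing A] [Algebra R A] (p : Ideal R) [p.IsPrime] [IsLocalization.AtPrime A p] (hG : CAlg.IsGRing A) :
    CAlg.IsRegularHom R (AdicCompletion (IsLocalRing.maximalIdeal A) A) := by
  haveI : IsNoetherianRing A := hG.1
  haveI : Algebra.FormallySmooth R A := Algebra.FormallySmooth.of_isLocalization p.primeCompl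
  have h1 : CAlg.IsRegularHom R A := Groth.Agent.S19379.result R A
  have h2 := Groth.Agent.S0600.result A hG (IsLocalRing.maximalIdeal A)
  haveI : IsNoetherianRing (AdicCompletion (IsLocalRing.maximalIdeal A) A) :=
    Groth.L01.AdicNoeth.isNoetherianRing_adicCompletion _ (IsNoetherian.noetherian _)
  refine Groth.Agent.S9294.result R A _ h1 h2 fun q _ => ?_
  haveI : Algebra.EssFiniteType R (Localization.AtPrime q) :=
    Algebra.EssFiniteType.of_isLocalization _ q.primeCompl
  haveI : Algebra.EssFiniteType (Localization.AtPrime q) q.ResidueField := inferInstance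
  haveI : Algebra.EssFiniteType R q.ResidueField := Algebra.EssFiniteType.comp R (Localization.AtPrime q) _
  haveI : IsNoetherianRing (TensorProduct R (AdicCompletion (IsLocalRing.maximalIdeal A) A) q.ResidueField) :=
    Algebra.EssFiniteType.isNoetherianRing (AdicCompletion (IsLocalRing.maximalIdeal A) A) _
  exact isNoetherianRing_of_ringEquiv _ (Algebra.TensorProduct.comm R
    (AdicCompletion (IsLocalRing.maximalIdeal A) A) q.ResidueField).toRingEquiv

end Groth.L14.Popescu
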