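import Groth.Agent.L14.Smoothing.DelocWeak
import Groth.Agent.L14.Smoothing.DesingStd
import Mathlib.RingTheory.Ideal.MinimalPrime.Basic

/-!
From resolutions at minimal primes to factorisations through smooth algebras.
-/

set_option autoImplicit false
set_option linter.style.haveILetI false

noncomputable section

open MvPolynomial

namespace Groth.L14.Popescu

universe u

open Groth.L14.Smoothing

variable {R : Type u} [CommRing R] [IsNoetherianRing R]

/-- Adjoining a representation `c = ∑ y_j a_j` by elements of the singular ideal makes `c` singular. -/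
theorem exists_model {A Λ : Type u} [CommRing A] [Algebra R A] [Algebra.FinitePresentation R A] [CommRing Λ]
    [Algebra R Λ] (φ : A →ₐ[R] Λ) (c : R)
    (hc : algebraMap R Λ c ∈ (_root_.Smoothing.singularIdeal R A).map φ) :
    ∃ (B : Type u) (_ : CommRing B) (_ : Algebra R B), Algebra.FinitePresentation R B ∧
      ∃ (g : A →ₐ[R] B) (h : B →ₐ[R] Λ), h.comp g = φ ∧
        (_root_.Smoothing.singularIdeal R A).map g ≤ _root_.Smoothing.singularIdeal R B ∧
        algebraMap R B c ∈ _root_.Smoothing.singularIdeal R B := by
  classical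
  haveI : IsNoetherianRing A := Algebra.FiniteType.isNoetherianRing R A
  obtain ⟨r, a, ha⟩ := Submodule.fg_iff_exists_fin_generating_family.mp
    (IsNoetherian.noetherian (_root_.Smoothing.singularIdeal R A))
  have haI : Ideal.span (Set.range a) = _root_.Smoothing.singularIdeal R A := ha
  rw [← haI, Ideal.map_span, ← Set.range_comp] at hc
  obtain ⟨lam, hlam⟩ := Ideal.mem_span_range_iff_exists_fun.mp hc
  let P := MvPolynomial (Fin r) A
  let rel : P := algebraMap R P c - ∑ j, X j * MvPolynomial.C (a j)
  let B := P ⧸ Ideal.span {rel}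
  haveI : Algebra.FiniteType R P := Algebra.FiniteType.trans (R := R) (S := A) (A := P) inferInstance inferInstance
  haveI : Algebra.FiniteType R B := Algebra.FiniteType.of_surjective (Ideal.Quotient.mkₐ R _) Ideal.Quotient.mk_surjective
  haveI hBfp : Algebra.FinitePresentation R B := Algebra.FinitePresentation.of_finiteType.mp inferInstance
  haveI : Algebra.FinitePresentation A B := Algebra.FinitePresentation.quotient (Submodule.fg_span_singleton rel)
  let mkB : P →ₐ[A] B := Ideal.Quotient.mkₐ A _
  have hrel0 : ∀ {D : Type u} [CommRing D] (F : B →+* D),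
      F (algebraMap A B (algebraMap R A c)) = ∑ j, F (mkB (X j)) * F (algebraMap A B (a j)) := by
    intro D _ F
    have h0 : mkB rel = 0 := Ideal.Quotient.eq_zero_iff_mem.mpr (Ideal.mem_span_singleton_self rel)
    rw [map_sub, sub_eq_zero, map_sum, IsScalarTower.algebraMap_apply R A P, AlgHom.commutes] at h0
    rw [h0, map_sum]
    exact Finset.sum_congr rfl fun j _ => by rw [map_mul, map_mul]; rfl
  have hsm : ∀ j, Algebra.Smooth R (Localization.Away (algebraMap A B (a j))) := fun j₀ => by
    let Aj := Localization.Away (a j₀)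
    let t := algebraMap A B (a j₀)
    let Bt := Localization.Away t
    haveI := Desing.smooth_away_of_mem_singularIdeal (R := R) (D := A) (d := a j₀)
      (haI ▸ Ideal.subset_span ⟨j₀, rfl⟩)
    haveI : Algebra.FinitePresentation B Bt := IsLocalization.Away.finitePresentation t
    haveI : Algebra.FormallySmooth A Bt := by
      refine Algebra.FormallySmooth.of_comp_surjective fun D _ _ I hI f => ?_
      let fB : B →+* D ⧸ I := (f : Bt →+* D ⧸ I).comp (algebraMap B Bt)
      have hfA : ∀ x, fB (algebraMap A B x) = algebraMap A (D ⧸ I) x := fun x => by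
        show f (algebraMap B Bt (algebraMap A B x)) = _
        rw [← IsScalarTower.algebraMap_apply A B Bt, AlgHom.commutes]
      choose z hz using fun j => Ideal.Quotient.mk_surjective (I := I) (fB (mkB (X j)))
      have hu : IsUnit (algebraMap A D (a j₀)) := by
        have h1 : IsUnit (Ideal.Quotient.mk I (algebraMap A D (a j₀))) := by
          rw [← Ideal.Quotient.algebraMap_eq, ← IsScalarTower.algebraMap_apply A D (D ⧸ I), ← hfA]
          exact (IsLocalization.Away.algebraMap_isUnit t).map (f : Bt →+* D ⧸ I)
        obtain ⟨v, hv⟩ := Ideal.Quotient.mk_surjective (↑h1.unit⁻¹ : D ⧸ I)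
        have h2 : IsNilpotent (algebraMap A D (a j₀) * v - 1) := by
          refine ⟨2, ?_⟩
          have h3 : algebraMap A D (a j₀) * v - 1 ∈ I := by
            rw [← Ideal.Quotient.eq_zero_iff_mem, map_sub, map_mul, hv, map_one, IsUnit.mul_val_inv, sub_self]
          have h4 := Ideal.pow_mem_pow h3 2
          rwa [hI, Ideal.mem_bot] at h4
        have h5 := h2.isUnit_add_one
        rw [sub_add_cancel] at h5
        exact isUnit_of_mul_isUnit_left h5
      obtain ⟨v, hv⟩ := hu.exists_left_inv
      let w : Fin r → D := fun j =>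
        if j = j₀ then v * (algebraMap A D (algebraMap R A c) - ∑ i ∈ Finset.univ.erase j₀, z i * algebraMap A D (a i))
        else z j
      have hw : ∀ j, Ideal.Quotient.mk I (w j) = fB (mkB (X j)) := fun j => by
        by_cases hj : j = j₀
        · subst hj
          have h := hrel0 fB
          rw [← Finset.add_sum_erase _ _ (Finset.mem_univ j)] at h
          simp only [hfA] at h
          have hv' := congrArg (Ideal.Quotient.mk I) hv
          rw [map_mul, map_one, show Ideal.Quotient.mk I (algebraMap A D (a j)) = algebraMap A (D ⧸ I) (a j) from rfl] at hv'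
          simp only [w, if_pos, map_mul, map_sub, map_sum, hz,
            show ∀ x, Ideal.Quotient.mk I (algebraMap A D x) = algebraMap A (D ⧸ I) x from fun x => rfl]
          linear_combination Ideal.Quotient.mk I v * h + fB (mkB (X j)) * hv'
        · simp only [w, if_neg hj, hz]
      let G : P →ₐ[A] D := MvPolynomial.aeval w
      have hG : G rel = 0 := by
        have hGX : ∀ j, G (X j) = w j := fun j => MvPolynomial.aeval_X w j
        have hGC : ∀ x, G (MvPolynomial.C x) = algebraMap A D x := fun x => MvPolynomial.aeval_C w x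
        rw [map_sub, map_sum, IsScalarTower.algebraMap_apply R A P, AlgHom.commutes]
        simp only [map_mul, hGX, hGC]
        rw [← Finset.add_sum_erase _ _ (Finset.mem_univ j₀), Finset.sum_congr rfl (g := fun i => z i * algebraMap A D (a i))
          (fun i hi => by simp [w, (Finset.mem_erase.mp hi).1])]
        simp only [w, if_pos]
        linear_combination (-algebraMap A D (algebraMap R A c) + ∑ i ∈ Finset.univ.erase j₀, z i * algebraMap A D (a i)) * hv
      let GB : B →ₐ[A] D := Ideal.Quotient.liftₐ _ G fun x hx =>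
        ((Ideal.span_singleton_le_iff_mem _).mpr hG : Ideal.span {rel} ≤ RingHom.ker G) hx
      have hGt : ∀ y : Submonoid.powers t, IsUnit (GB y) := by
        rintro ⟨_, n, rfl⟩
        rw [map_pow]
        show IsUnit (GB (algebraMap A B (a j₀)) ^ n)
        rw [AlgHom.commutes]
        exact hu.pow n
      refine ⟨IsLocalization.liftAlgHom (M := Submonoid.powers t) hGt, AlgHom.coe_ringHom_injective ?_⟩
      refine IsLocalization.ringHom_ext (Submonoid.powers t) ?_
      refine Ideal.Quotient.ringHom_ext (MvPolynomial.ringHom_ext (fun x => ?_) fun j => ?_)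
      · show Ideal.Quotient.mk I (IsLocalization.liftAlgHom hGt (algebraMap B Bt (mkB (MvPolynomial.C x)))) = fB (mkB (MvPolynomial.C x))
        rw [IsLocalization.liftAlgHom_apply, IsLocalization.lift_eq,
          show mkB (MvPolynomial.C x) = algebraMap A B x from mkB.commutes x, hfA]
        show Ideal.Quotient.mk I (GB (algebraMap A B x)) = _
        rw [AlgHom.commutes]
        rfl
      · show Ideal.Quotient.mk I (IsLocalization.liftAlgHom hGt (algebraMap B Bt (mkB (X j)))) = fB (mkB (X j))
        rw [IsLocalization.liftAlgHom_apply, IsLocalization.lift_eq]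
        show Ideal.Quotient.mk I (G (X j)) = _
        rw [MvPolynomial.aeval_X, hw]
    have hu : IsUnit (algebraMap A Bt (a j₀)) := by
      rw [IsScalarTower.algebraMap_apply A B Bt]
      exact IsLocalization.Away.algebraMap_isUnit t
    letI : Algebra Aj Bt := (IsLocalization.Away.lift (g := algebraMap A Bt) (a j₀) hu : Aj →+* Bt).toAlgebra
    haveI : IsScalarTower A Aj Bt := IsScalarTower.of_algebraMap_eq fun x => by
      rw [RingHom.algebraMap_toAlgebra, IsLocalization.Away.lift_eq]
    haveI : IsScalarTower R Aj Bt := IsScalarTower.of_algebraMap_eq fun x => by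
      rw [IsScalarTower.algebraMap_apply R A Aj, ← IsScalarTower.algebraMap_apply A Aj Bt,
        ← IsScalarTower.algebraMap_apply R A Bt]
    haveI : Algebra.FormallySmooth Aj Bt := Algebra.FormallySmooth.localization_base (R := A) (Submonoid.powers (a j₀))
    haveI : Algebra.FormallySmooth R Bt := Algebra.FormallySmooth.comp R Aj Bt
    haveI : Algebra.FinitePresentation R Bt := Algebra.FinitePresentation.trans R B Bt
    exact { }
  have hmem : ∀ j, algebraMap A B (a j) ∈ _root_.Smoothing.singularIdeal R B := fun j =>
    Desing.mem_singularIdeal_of_smooth (hsm j)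
  let h : B →ₐ[R] Λ := Ideal.Quotient.liftₐ _ (MvPolynomial.aevalTower φ lam) fun x hx => by
    refine ((Ideal.span_singleton_le_iff_mem _).mpr ?_ : Ideal.span {rel} ≤ RingHom.ker (MvPolynomial.aevalTower φ lam)) hx
    rw [RingHom.mem_ker, map_sub, AlgHom.commutes, map_sum, sub_eq_zero, ← hlam]
    exact Finset.sum_congr rfl fun j _ => by
      rw [map_mul, MvPolynomial.aevalTower_X, MvPolynomial.aevalTower_C]
      rfl
  refine ⟨B, inferInstance, inferInstance, hBfp, IsScalarTower.toAlgHom R A B, h, AlgHom.ext fun x => ?_, ?_, ?_⟩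
  · exact MvPolynomial.aevalTower_C φ lam x
  · rw [← haI, Ideal.map_le_iff_le_comap, Ideal.span_le]
    rintro _ ⟨j, rfl⟩
    exact hmem j
  · rw [IsScalarTower.algebraMap_apply R A B, show algebraMap A B (algebraMap R A c) =
      ∑ j, mkB (X j) * algebraMap A B (a j) from hrel0 (RingHom.id B)]
    exact Ideal.sum_mem _ fun j _ => Ideal.mul_mem_left _ _ (hmem j)

/-- A map with unit singular radical factors through a smooth algebra. -/
theorem factor_of_top {A Λ : Type u} [CommRing A] [Algebra R A] [Algebra.FinitePresentation R A] [CommRing Λ]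
    [Algebra R Λ] (φ : A →ₐ[R] Λ) (htop : _root_.Smoothing.singRad R φ = ⊤) :
    ∃ (B : Type u) (_ : CommRing B) (_ : Algebra R B), Algebra.Smooth R B ∧
      ∃ (g : A →ₐ[R] B) (h : B →ₐ[R] Λ), h.comp g = φ := by
  have h1 : algebraMap R Λ 1 ∈ (_root_.Smoothing.singularIdeal R A).map φ := by
    rw [_root_.Smoothing.singRad, Ideal.radical_eq_top] at htop
    rw [map_one, ← Ideal.eq_top_iff_one]
    exact htop
  obtain ⟨B, _, _, hB, g, h, hgh, -, hone⟩ := exists_model φ 1 h1
  haveI := hB
  rw [map_one] at hone
  haveI := Desing.smooth_away_of_mem_singularIdeal hone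
  let e : B ≃ₐ[R] Localization.Away (1 : B) :=
    (IsLocalization.atUnits B (Submonoid.powers (1 : B)) (by simp [Submonoid.powers_one])).restrictScalars R
  exact ⟨B, inferInstance, inferInstance, Algebra.Smooth.of_equiv e.symm, g, h, hgh⟩

/-- If resolutions exist at all minimal primes, maps factor through smooth algebras. -/
theorem factor_of_resolvable {Λ : Type u} [CommRing Λ] [IsNoetherianRing Λ] [Algebra R Λ] (J : Ideal Λ)
    (hres : ∀ (A : Type u) [CommRing A] [Algebra R A], Algebra.FinitePresentation R A → ∀ φ : A →ₐ[R] Λ,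
      J ≤ _root_.Smoothing.singRad R φ → ∀ (q : Ideal Λ) [q.IsPrime],
        q ∈ (_root_.Smoothing.singRad R φ).minimalPrimes → _root_.Smoothing.Resolvable R φ q) :
    ∀ (A : Type u) [CommRing A] [Algebra R A], Algebra.FinitePresentation R A → ∀ φ : A →ₐ[R] Λ,
      J ≤ _root_.Smoothing.singRad R φ → ∃ (B : Type u) (_ : CommRing B) (_ : Algebra R B), Algebra.Smooth R B ∧
        ∃ (g : A →ₐ[R] B) (h : B →ₐ[R] Λ), h.comp g = φ := by
  suffices H : ∀ N : Ideal Λ, ∀ (A : Type u) [CommRing A] [Algebra R A], Algebra.FinitePresentation R A →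
      ∀ φ : A →ₐ[R] Λ, _root_.Smoothing.singRad R φ = N → J ≤ N →
      ∃ (B : Type u) (_ : CommRing B) (_ : Algebra R B), Algebra.Smooth R B ∧
        ∃ (g : A →ₐ[R] B) (h : B →ₐ[R] Λ), h.comp g = φ from
    fun A _ _ hA φ hJ => H _ A hA φ rfl hJ
  intro N
  induction N using WellFoundedGT.induction with
  | ind N ih =>
    intro A _ _ hA φ hN hJ
    haveI := hA
    by_cases htop : N = ⊤
    · exact factor_of_top φ (hN.trans htop)
    obtain ⟨M, hM, hNM⟩ := Ideal.exists_le_maximal N htop
    haveI := hM.isPrime
    obtain ⟨q, hq, -⟩ := Ideal.exists_minimalPrimes_le hNM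
    haveI := hq.1.1
    obtain ⟨B, _, _, hB, g, h, hgh, hle, hnot⟩ := hres A hA φ (hN ▸ hJ) q (hN.symm ▸ hq)
    have hlt : N < _root_.Smoothing.singRad R h :=
      lt_of_le_of_ne (hN ▸ hle) fun heq => hnot (heq ▸ hq.1.2)
    obtain ⟨D, _, _, hD, g', h', hgh'⟩ := ih _ hlt B hB h rfl (hJ.trans hlt.le)
    exact ⟨D, inferInstance, inferInstance, hD, g'.comp g, h', by rw [← AlgHom.comp_assoc, hgh', hgh]⟩

end Groth.L14.Popescu
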